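import Cfsg.Agent.Lib.SuzSeven52.Types

/-!
# Suzuki type: the interface between the involution centraliser outside the class of `z` and the
elements of order five

Owner: helper52.
-/

set_option autoImplicit false

namespace Cfsg.Agent.Lib.SuzSeven52

/-- What the structure of `C(v)`, `v` an involution not conjugate to `z`, says about elements of order five:
`C(v) ∩ C(f)` is a four-group of such involutions times `⟨f⟩`. -/
structure FiveB {G : Type*} [Group G] (z : G) : Prop where
  card : ∀ v f : G, BT z v → orderOf f = 5 → Commute f v →
    Nat.card ↥(Subgroup.centralizer ({v, f} : Set G)) = 20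
  exp : ∀ v f : G, BT z v → orderOf f = 5 → Commute f v →
    ∀ y ∈ Subgroup.centralizer ({v, f} : Set G), y ^ 10 = 1
  bt : ∀ v f : G, BT z v → orderOf f = 5 → Commute f v →
    ∀ y ∈ Subgroup.centralizer ({v, f} : Set G), orderOf y = 2 → BT z y
  exists_pair : ∃ v f : G, BT z v ∧ orderOf f = 5 ∧ Commute f v

end Cfsg.Agent.Lib.SuzSeven52
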