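import Cfsg.Agent.Lib.SuzType52.Main

/-!
# Suzuki type: recognising the two classes of involutions inside `C(z)`

Owner: helper52.
-/

set_option autoImplicit false

namespace Cfsg.Agent.Lib.SuzSeven52

open Cfsg.Agent.Lib.SuzType52

/-- An involution outside the class of `z`. -/
structure BT {G : Type*} [Group G] (z t : G) : Prop where
  ord : orderOf t = 2
  ne : ¬ IsConj z t

theorem eich_two_qn : ∀ a ∈ v4, qn (eich a 2 ^^^ 2) = qn a := by decide +kernel

theorem wn_four_aux : (List.range 4).all (fun i => v4.all fun a => (List.range 64).all fun k =>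
    Nat.beq (wn i a (wn i a (wn i a (wn i a (wn i a (wn i a (wn i a (wn i a k)))))))) k) = true := by
  decide +kernel

variable {G : Type*} [Group G] [Finite G] {z : G} {Q : Subgroup G} {co : G → ℕ} {ac : G → ℕ → ℕ}
  {x n : G} (d : Duo z Q co ac x n)

theorem BT.sq {t : G} (h : BT z t) : t * t = 1 := by
  rw [← pow_two, ← h.ord, pow_orderOf_eq_one]

theorem BT.ne_one {t : G} (h : BT z t) : t ≠ 1 := fun e => by
  have := h.ord
  simp [e] at this

theorem BT.conj {t : G} (h : BT z t) (g : G) : BT z (g * t * g⁻¹) :=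
  ⟨(orderOf_injective (MulAut.conj g).toMonoidHom (MulAut.conj g).injective t).trans h.ord,
    fun hc => h.ne (hc.trans (isConj_iff.2 ⟨g, rfl⟩).symm)⟩

theorem orderOf_two {t : G} (h2 : t * t = 1) (h1 : t ≠ 1) : orderOf t = 2 :=
  have : Fact (Nat.Prime 2) := ⟨Nat.prime_two⟩
  orderOf_eq_prime (by rw [pow_two, h2]) h1

include d

/-- An involution of `C(z)` is conjugate to `z` when its action has only singular displacements. -/
theorem isConj_iff_sing {t : G} (htz : Commute t z) (ht2 : t * t = 1) (ht1 : t ≠ 1) :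
    IsConj z t ↔ ∀ k < 64, qn (ac t k ^^^ k) = false := by
  by_cases hQ : t ∈ Q
  · refine iff_of_true (d.isConj_Q hQ (orderOf_two ht2 ht1)) fun k hk => ?_
    rw [d.fr.ac_Q hQ hk, Nat.xor_self]
    rfl
  obtain ⟨c, hc, hcase⟩ := d.classify htz ht2 hQ
  set t' := c * t * c⁻¹ with ht'
  have hiff : (∀ k < 64, qn (ac t k ^^^ k) = false) ↔ ∀ k < 64, qn (ac t' k ^^^ k) = false := by
    have key : ∀ k < 64, qn (ac t' (ac c k) ^^^ ac c k) = qn (ac t k ^^^ k) := fun k hk => by
      rw [ht', d.fr.ac_conj htz hc (d.fr.ac_lt hc hk), d.fr.ac_inv hc hk,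
        ← d.fr.ac_xor hc (d.fr.ac_lt htz hk) hk, d.fr.ac_qn hc (xor_lt (d.fr.ac_lt htz hk) hk)]
    constructor
    · intro h k hk
      have := key (ac c⁻¹ k) (d.fr.ac_lt hc.inv_left hk)
      rw [d.fr.ac_inv' hc hk] at this
      rw [this]
      exact h _ (d.fr.ac_lt hc.inv_left hk)
    · exact fun h k hk => (key k hk).symm.trans (h _ (d.fr.ac_lt hc hk))
  have hct : IsConj t t' := isConj_iff.2 ⟨c, rfl⟩
  have ht'2 : t' * t' = 1 := by
    calc t' * t' = c * (t * t) * c⁻¹ := by rw [ht']; group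
      _ = 1 := by rw [ht2]; group
  have ht'1 : t' ≠ 1 := fun e => ht1 (by
    calc t = c⁻¹ * t' * c := by rw [ht']; group
      _ = 1 := by rw [e]; group)
  rw [hiff]
  rcases hcase with hB | hF
  · refine iff_of_true ((d.isConj_B hB (orderOf_two ht'2 ht'1)).trans hct.symm) fun k hk => ?_
    obtain ⟨a, ha, hact⟩ := d.exists_act hB
    have hqa : qn a = false := by
      refine d.pw_x_inj ((d.sq_act a ha t' hB hact).symm.trans ?_)
      rw [ht'2]
      rfl
    rw [hact k hk]
    exact eich_sing a ha hqa k hk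
  · refine iff_of_false (fun hz => d.not_isConj hF ht'2 (fun hm => hQ ?_) (hz.trans hct)) fun h => ?_
    · have := d.fr.norm c⁻¹ hc.inv_left _ hm
      simpa [ht', mul_assoc] using this
    · have := h 2 (by norm_num)
      rw [(d.form_commute hF).2 2 (by norm_num), eich_inv16] at this
      exact Bool.noConfusion this

/-- The type of an involution acting as a transvection. -/
theorem isConj_iff_eich {t : G} (htz : Commute t z) (ht2 : t * t = 1) (ht1 : t ≠ 1) {a : ℕ}
    (ha : a ∈ v4) (hact : Act ac t a) : IsConj z t ↔ qn a = false := by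
  rw [isConj_iff_sing d htz ht2 ht1]
  constructor
  · intro h
    rw [← eich_two_qn a ha, ← hact 2 (by norm_num)]
    exact h 2 (by norm_num)
  · intro h k hk
    rw [hact k hk]
    exact eich_sing a ha h k hk

theorem BT.notMem {t : G} (h : BT z t) : t ∉ Q := fun hm => h.ne (d.isConj_Q hm h.ord)

/-- An involution of `C(z)` outside the class of `z` is conjugate in `C(z)` to the standard one. -/
theorem BT.to_form {t w : G} (h : BT z t) (htz : Commute t z) (hw : Form Q co ac n z w 16 32) :
    ∃ c, Commute c z ∧ c * t * c⁻¹ = w := by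
  obtain ⟨c, hc, hB | hF⟩ := d.classify htz h.sq (h.notMem d)
  · exact absurd (d.isConj_B hB (h.conj c).ord) (h.conj c).ne
  · obtain ⟨r, hr, e⟩ := d.form_unique hF hw
    exact ⟨r * c, (d.A_comm hr).2.mul_left hc, by rw [← e]; group⟩

theorem BT.isConj {t u : G} (ht : BT z t) (hu : BT z u) : IsConj t u := by
  obtain ⟨w, hw, -, -⟩ := d.exists_form
  have key : ∀ {t : G}, BT z t → IsConj t w := fun {t} h => by
    obtain ⟨g, hg⟩ := d.fr.exists_conj_commute h.ord
    obtain ⟨c, -, e⟩ := (h.conj g).to_form d hg hw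
    exact (isConj_iff.2 ⟨g, rfl⟩ : IsConj t (g * t * g⁻¹)).trans (isConj_iff.2 ⟨c, e⟩)
  exact (key ht).trans (key hu).symm

/-- An element commuting with `z` and with the standard involution has two-power order. -/
theorem pow_eq_one {w g : G} (hw : Form Q co ac n z w 16 32) (hgz : Commute g z) (hgw : Commute g w) :
    g ^ 32 = 1 := by
  obtain ⟨i, hi, a, ha, hk⟩ := d.ac_of_commute hw hgz hgw
  have h2 : ∀ (m : ℕ) (k : ℕ), k < 64 → ac (g ^ m) k = (wn i a)^[m] k := by
    intro m
    induction m with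
    | zero => intro k hk'; rw [pow_zero, d.fr.ac_Q (one_mem Q) hk']; rfl
    | succ m ih =>
      intro k hk'
      rw [pow_succ, d.fr.ac_mul (hgz.pow_left m) hgz hk', ih _ (d.fr.ac_lt hgz hk'), hk k hk']
      rfl
  have hQ : g ^ 8 ∈ Q := d.fr.faithful _ (hgz.pow_left 8) fun k hk' => by
    rw [h2 8 k hk']
    exact Nat.eq_of_beq_eq_true (List.all_eq_true.1 (List.all_eq_true.1
      (List.all_eq_true.1 wn_four_aux i (List.mem_range.2 hi)) a ha) k (List.mem_range.2 hk'))
  have e := d.fr.sq _ hQ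
  have h32 : g ^ 32 = g ^ 8 * g ^ 8 * (g ^ 8 * g ^ 8) := by simp only [← pow_add]
  rw [h32, e]
  cases qn (co (g ^ 8))
  · exact one_mul 1
  · exact d.fr.es.sq

/-- The centraliser of a commuting pair of the two types is a `2`-group. -/
theorem isPGroup_pair {z' t : G} (hz : IsConj z z') (ht : BT z t) (hc : Commute t z') :
    IsPGroup 2 ↥(Subgroup.centralizer ({z', t} : Set G)) := by
  obtain ⟨g, hg⟩ := isConj_iff.1 hz.symm
  have hc' : Commute (g * t * g⁻¹) z := by
    have := hc.map (MulAut.conj g).toMonoidHom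
    simpa [hg] using this
  obtain ⟨w, hw, -, -⟩ := d.exists_form
  obtain ⟨c, hcz, e⟩ := (ht.conj g).to_form d hc' hw
  intro y
  refine ⟨5, Subtype.ext ?_⟩
  have hy := fun p (hp : p ∈ ({z', t} : Set G)) => Subgroup.mem_centralizer_iff.1 y.2 p hp
  have hz1 : Commute (y : G) z' := (hy z' (by simp)).symm
  have ht1 : Commute (y : G) t := (hy t (by simp)).symm
  have h1 : Commute (c * g * y * (c * g)⁻¹) z := by
    have := hz1.map (MulAut.conj (c * g)).toMonoidHom
    have e1 : c * g * z' * (c * g)⁻¹ = z := by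
      rw [show c * g * z' * (c * g)⁻¹ = c * (g * z' * g⁻¹) * c⁻¹ by group, hg,
        mul_inv_eq_iff_eq_mul.2 hcz.eq]
    simpa only [MulEquiv.coe_toMonoidHom, MulAut.conj_apply, e1] using this
  have h2 : Commute (c * g * y * (c * g)⁻¹) w := by
    have := ht1.map (MulAut.conj (c * g)).toMonoidHom
    have e1 : c * g * t * (c * g)⁻¹ = w := by rw [← e]; group
    simpa only [MulEquiv.coe_toMonoidHom, MulAut.conj_apply, e1] using this
  have h3 := pow_eq_one d hw h1 h2
  rw [conj_pow, mul_inv_eq_one] at h3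
  simpa using h3

end Cfsg.Agent.Lib.SuzSeven52
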