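import Cfsg.Agent.Lib.SuzSeven52.Psl
import Cfsg.Agent.S0215

/-!
# Suzuki type: the centraliser of an involution outside the class of `z` normalises the four-group

Its order is `161280`.

Owner: helper52.
-/

set_option autoImplicit false
set_option maxRecDepth 100000

namespace Cfsg.Agent.Lib.SuzSeven52

open Cfsg.Agent.Lib.SuzType52 Cfsg.Agent.Lib

variable {G : Type*} [Group G] {z : G} {Q : Subgroup G} {co : G → ℕ} {ac : G → ℕ → ℕ} {x n : G}
  {gen : ℕ → G} {w v g q r : G}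

namespace Pack

variable [Finite G] (p : Pack z Q co ac x n gen w v g q r)
include p

theorem exists_psl' :
    ∃ (F : Type) (_ : Field F) (_ : Fintype F), Fintype.card F = 4 ∧
      Nonempty (WQ w v ≃* Matrix.ProjectiveSpecialLinearGroup (Fin 3) F) := by
  obtain ⟨t, k, ft⟩ := p.exists_fus
  exact p.exists_psl ft

theorem card_V4 : Nat.card (V4 w v) = 4 := by
  classical
  have hcl : Subgroup.closure ({w, v} : Set G) ≤ CV w v := fun a ha => p.CZ_le_CV (p.V_le_CZ ha)
  rw [V4, Nat.card_congr (Subgroup.subgroupOfEquivOfLe hcl).toEquiv]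
  have he : ((Subgroup.closure ({w, v} : Set G) : Subgroup G) : Set G) =
      (({1, w, v, v * w} : Finset G) : Set G) := by
    ext a
    rw [SetLike.mem_coe, p.mem_V]
    simp
  have hw1 := p.bt_w.ne_one
  have hv1 := p.v_facts.1.ne_one
  have hvw1 := p.bt_vw.ne_one
  have hwv : w ≠ v := fun e => hvw1 (by rw [← e, p.bt_w.sq])
  have hwvw : w ≠ v * w := fun e => hv1 (right_eq_mul.1 e)
  have hvvw : v ≠ v * w := fun e => hw1 (left_eq_mul.1 e)
  show Nat.card ((Subgroup.closure ({w, v} : Set G) : Subgroup G) : Set G) = 4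
  rw [he, Nat.card_coe_set_eq, Set.ncard_coe_finset]
  simp [Ne.symm hw1, Ne.symm hv1, Ne.symm hvw1, hwv, hwvw, hvvw, hw1]

theorem card_CV : Nat.card (CV w v) = 80640 := by
  obtain ⟨F, iF, iFin, hF, ⟨e⟩⟩ := p.exists_psl'
  rw [Subgroup.card_eq_card_quotient_mul_card_subgroup (V4 w v), p.card_V4]
  show Nat.card (WQ w v) * 4 = _
  rw [Nat.card_congr e.toEquiv, card_psl hF]

/-- All conjugates of `z` in the centraliser of the four-group are conjugate there. -/
theorem ztype_conj {i : G} (hi : i ∈ CV w v) (hz : IsConj z i) (hi2 : i * i = 1) :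
    ∃ a ∈ CV w v, a * i * a⁻¹ = z := by
  obtain ⟨F, iF, iFin, hF, ⟨e⟩⟩ := p.exists_psl'
  have hib : orderOf (bar w v i) = 2 := by
    refine orderOf_eq_prime (p := 2) ?_ fun h => p.V_not_ztype ((bar_eq_one hi).1 h) hz
    rw [pow_two, ← bar_mul hi hi, hi2, bar_one]
  obtain ⟨c, hc⟩ := isConj_iff.1 (e.symm.toMonoidHom.map_isConj
    (S0820.result hF (e (bar w v i)) (e (bar w v z)) ((e.orderOf_eq _).trans hib)
      ((e.orderOf_eq _).trans p.bar_z_mem.1)))
  simp only [MulEquiv.coe_toMonoidHom, MulEquiv.symm_apply_apply] at hc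
  obtain ⟨a, ha, rfl⟩ := bar_surj c
  refine ⟨a, ha, ?_⟩
  obtain ⟨j, -, -, -, hu⟩ := p.exists_lift_z p.bar_z_mem.1
  rw [hu _ (mul_mem (mul_mem ha hi) (inv_mem ha)) (by rw [bar_conj ha hi, hc])
    (hz.trans (isConj_iff.2 ⟨a, rfl⟩)), hu z (p.CZ_le_CV p.z_mem) rfl (IsConj.refl z)]

/-- A conjugate of `v` in `T` under `C(w)`. -/
theorem iso_v {h : G} (hw : Commute h w) (hT : h * v * h⁻¹ ∈ TT z w) :
    h * v * h⁻¹ = v ∨ h * v * h⁻¹ = v * w := by
  obtain ⟨huz, -⟩ := mem_cent_two.1 hT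
  have hi : h⁻¹ * z * h ∈ CV w v := by
    refine mem_cent_two.2 ⟨(hw.inv_left.mul_left p.wz.symm).mul_left hw, ?_⟩
    have := huz.symm.map (MulAut.conj h⁻¹).toMonoidHom
    simpa [mul_assoc] using this
  obtain ⟨a, ha, e⟩ := p.ztype_conj hi (isConj_iff.2 ⟨h⁻¹, by rw [inv_inv]⟩) (by
    rw [show h⁻¹ * z * h * (h⁻¹ * z * h) = h⁻¹ * (z * z) * h by group, p.std.duo.fr.es.sq]
    group)
  obtain ⟨haw, hav⟩ := mem_cent_two.1 ha
  set t := a * h⁻¹ with ht
  have htz : Commute t z := mul_inv_eq_iff_eq_mul.1 (by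
    calc t * z * t⁻¹ = a * (h⁻¹ * z * h) * a⁻¹ := by rw [ht]; group
      _ = z := e)
  have htw : Commute t w := haw.mul_left hw.inv_left
  have hh : h * v * h⁻¹ = t⁻¹ * v * t⁻¹⁻¹ := by
    calc h * v * h⁻¹ = t⁻¹ * (a * v * a⁻¹) * t := by rw [ht]; group
      _ = _ := by rw [mul_inv_eq_iff_eq_mul.2 hav.eq, inv_inv]
  rw [hh]
  exact p.normalise htz.inv_left htw.inv_left

theorem ne_ztype {y : G} (hy : y = z ∨ y = x ∨ y = x * z) : ¬ IsConj z (y * w) := by
  intro h
  have hwm : w ∈ CZ z w v := mem_cent_three.2 ⟨p.wz, mem_cent_two.1 p.w_mem⟩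
  have hym : y ∈ CZ z w v := by
    rcases hy with rfl | rfl | rfl
    exacts [p.z_mem, p.x_mem, mul_mem p.x_mem p.z_mem]
  have hyQ : y ∈ Q := by
    rcases hy with rfl | rfl | rfl
    exacts [p.std.duo.fr.es.mem, p.std.duo.xQ, mul_mem p.std.duo.xQ p.std.duo.fr.es.mem]
  have hcen : ∀ u ∈ CZ z w v, Commute (y * w) u := fun u hu => by
    obtain ⟨c1, c2, -⟩ := mem_cent_three.1 hu
    refine Commute.mul_left ?_ c2.symm
    rcases hy with rfl | rfl | rfl
    exacts [c1.symm, (p.CZ_comm_x hu).symm, ((p.CZ_comm_x hu).symm).mul_left c1.symm]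
  refine p.bt_w.notMem p.std.duo ?_
  have hu : y * w ∈ Q := by
    rcases p.central_ztype (mul_mem hym hwm) hcen h with e | e | e <;> rw [e]
    exacts [p.std.duo.fr.es.mem, p.std.duo.xQ, mul_mem p.std.duo.xQ p.std.duo.fr.es.mem]
  simpa using mul_mem (inv_mem hyQ) hu

/-- The centraliser of `w` normalises the four-group. -/
theorem normalise_CW {h : G} (hw : Commute h w) : h * v * h⁻¹ = v ∨ h * v * h⁻¹ = v * w := by
  classical
  haveI : Fact (Nat.Prime 2) := ⟨Nat.prime_two⟩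
  set C := Subgroup.centralizer ({w} : Set G) with hC
  have hmC : ∀ {y : G}, Commute y w → y ∈ C := fun h => Subgroup.mem_centralizer_singleton_iff.2 h.eq
  have hcC : ∀ y : ↥C, Commute (y : G) w := fun y => Subgroup.mem_centralizer_singleton_iff.1 y.2
  set Zw := (Subgroup.zpowers w).subgroupOf C with hZw
  haveI : Zw.Normal := ⟨fun a ha c => by
    obtain ⟨i, hi⟩ := ha
    have e : c * a * c⁻¹ = a := Subtype.ext (show (c : G) * a * (c : G)⁻¹ = a from mul_inv_eq_iff_eq_mul.2 (by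
      simp only [Subgroup.coe_subtype] at hi
      rw [← hi]
      exact ((hcC c).zpow_right i).eq))
    rw [e]
    exact ⟨i, hi⟩⟩
  have hZmem : ∀ {a : ↥C}, a ∈ Zw ↔ (a : G) = 1 ∨ (a : G) = w := by
    intro a
    rw [hZw, Subgroup.mem_subgroupOf]
    constructor
    · exact CIT.mem_zpowers_invol p.bt_w.sq
    · rintro (e | e) <;> rw [e]
      exacts [one_mem _, Subgroup.mem_zpowers w]
  set π := QuotientGroup.mk' Zw with hπ
  have hπeq : ∀ {a b : ↥C}, π a = π b → (b : G) = a ∨ (b : G) = a * w := by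
    intro a b e
    rcases hZmem.1 (QuotientGroup.eq.1 e) with h | h
    · exact Or.inl (inv_mul_eq_one.1 (by simpa using h)).symm
    · exact Or.inr (by simpa [inv_mul_eq_iff_eq_mul] using h)
  let v' : ↥C := ⟨v, hmC p.v_facts.2.2.2.2⟩
  let z' : ↥C := ⟨z, hmC p.wz.symm⟩
  let x' : ↥C := ⟨x, hmC p.wx.symm⟩
  obtain ⟨S, hS⟩ :=
    (IsPGroup.comap_of_injective p.isPGroup_T C.subtype C.subtype_injective).exists_le_sylow
  have hST : (S : Subgroup C).map C.subtype = TT z w := by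
    refine p.T_max (S.2.map _) ?_ (Subgroup.map_subtype_le _)
    exact fun y hy => ⟨⟨y, hmC (mem_cent_two.1 hy).2⟩, hS hy, rfl⟩
  let P := S.mapSurjective (QuotientGroup.mk'_surjective Zw)
  have hPT : ∀ a : ↥C, π a ∈ (P : Subgroup (↥C ⧸ Zw)) → (a : G) ∈ TT z w := by
    intro a ha
    obtain ⟨b, hb, e⟩ := ha
    have hbT : (b : G) ∈ TT z w := hST ▸ ⟨b, hb, rfl⟩
    rcases hπeq e with h | h <;> rw [h]
    exacts [hbT, mul_mem hbT (mem_cent_two.2 ⟨p.wz, Commute.refl w⟩)]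
  have hv2 : orderOf (π v') = 2 := by
    refine orderOf_eq_prime (p := 2) ?_ fun e => ?_
    · rw [← map_pow, show v' ^ 2 = 1 from Subtype.ext (by simpa [pow_two] using p.v_facts.1.sq), map_one]
    · rcases hZmem.1 ((QuotientGroup.eq_one_iff v').1 e) with h | h
      · exact p.v_facts.1.ne_one h
      · exact p.bt_vw.ne_one (by rw [show v = w from h, p.bt_w.sq])
  have hvP : π v' ∈ (P : Subgroup (↥C ⧸ Zw)) :=
    ⟨v', hS (mem_cent_two.2 ⟨p.v_facts.2.2.1, p.v_facts.2.2.2.2⟩), rfl⟩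
  obtain ⟨N, hN, hodd, hcen⟩ := S0215.result P (π v') hv2 hvP (by
    intro c hc
    obtain ⟨c', rfl⟩ := QuotientGroup.mk'_surjective Zw c
    rw [← map_inv, ← map_mul, ← map_mul] at hc ⊢
    rcases p.iso_v (hcC c') (hPT _ hc) with e | e
    · exact congrArg π (Subtype.ext e)
    · refine QuotientGroup.eq.2 (hZmem.2 (Or.inr ?_))
      push_cast
      rw [e, mul_inv_rev, inv_eq_of_mul_eq_one_right p.bt_w.sq, mul_assoc]
      simp [v'])
  -- the odd normal subgroup is trivial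
  have hxz2 : ∀ y : ↥C, (y : G) * y = 1 → π y * π y = 1 := fun y hy => by
    rw [← map_mul, show y * y = 1 from Subtype.ext hy, map_one]
  have hfix : ∀ y : ↥C, ((y : G) = z ∨ (y : G) = x ∨ (y : G) = x * z) →
      ∀ a ∈ N, Commute (π y) a → a = 1 := by
    intro y hy a ha hc
    obtain ⟨b, rfl⟩ := QuotientGroup.mk'_surjective Zw a
    have hby : Commute (b : G) y := by
      rcases hπeq (show π y = π (b * y * b⁻¹) by
        rw [map_mul, map_mul, map_inv, ← hc.eq, mul_inv_cancel_right]) with e | e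
      · exact mul_inv_eq_iff_eq_mul.1 (by simpa using e)
      · refine absurd ?_ (p.ne_ztype hy)
        rw [← show (b : G) * y * (b : G)⁻¹ = y * w by simpa using e]
        exact (p.ee_ztype hy).trans (isConj_iff.2 ⟨b, rfl⟩)
    have hyw : Commute (y : G) w := hcC y
    obtain ⟨k, hk⟩ := isPGroup_pair p.std.duo (p.ee_ztype hy) p.bt_w hyw.symm
      ⟨b, mem_cent_two.2 ⟨hby, hcC b⟩⟩
    have hbk : π b ^ 2 ^ k = 1 := by
      rw [← map_pow, show b ^ 2 ^ k = 1 from Subtype.ext (by simpa using congrArg Subtype.val hk),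
        map_one]
    have ho := hodd.of_dvd_nat (Subgroup.orderOf_dvd_natCard N ha)
    obtain ⟨j, -, hj⟩ := (Nat.dvd_prime_pow Nat.prime_two).1 (orderOf_dvd_of_pow_eq_one hbk)
    rcases Nat.eq_zero_or_pos j with rfl | hj0
    · exact orderOf_eq_one_iff.1 (by rw [hj, pow_zero])
    · rw [hj] at ho
      exact absurd ho (Nat.not_odd_iff_even.2 (even_two.pow_of_ne_zero (by omega)))
  have hNbot : N = ⊥ := by
    have hzx : z' * x' = x' * z' := Subtype.ext (p.std.duo.fr.es.comm x p.std.duo.xQ).symm.eq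
    refine fpf_four (a := π z') (b := π x') (hxz2 z' p.std.duo.fr.es.sq) (hxz2 x' p.std.duo.xsq)
      (show _ * _ = _ * _ by rw [← map_mul, ← map_mul, hzx]) (fun a ha => hN.conj_mem a ha _)
      (fun a ha => hN.conj_mem a ha _) (hfix z' (Or.inl rfl)) (hfix x' (Or.inr (Or.inl rfl))) ?_
    rw [← map_mul, hzx]
    exact hfix _ (Or.inr (Or.inr rfl))
  have h1 := hcen (π ⟨h, hmC hw⟩)
  rw [hNbot, Subgroup.mem_bot, ← map_inv, ← map_inv, ← map_mul, ← map_mul, ← map_mul] at h1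
  have hs := hZmem.1 ((QuotientGroup.eq_one_iff _).1 h1)
  simp only [Subgroup.coe_mul, Subgroup.coe_inv, v'] at hs
  have key : h * v * h⁻¹ = (v * h * v⁻¹ * h⁻¹)⁻¹ * v := by group
  rcases hs with e | e
  · left; rw [key, e, inv_one, one_mul]
  · right; rw [key, e, inv_eq_of_mul_eq_one_right p.bt_w.sq, p.v_facts.2.2.2.2.eq]

theorem normal_CV {h y : G} (hw : Commute h w) (hy : y ∈ CV w v) : h * y * h⁻¹ ∈ CV w v := by
  obtain ⟨c1, c2⟩ := mem_cent_two.1 hy
  have hc1 : Commute (h * y * h⁻¹) w := (hw.mul_left c1).mul_left hw.inv_left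
  refine mem_cent_two.2 ⟨hc1, ?_⟩
  have h2 := c2.map (MulAut.conj h).toMonoidHom
  simp only [MulEquiv.coe_toMonoidHom, MulAut.conj_apply] at h2
  rcases p.normalise_CW hw with e | e <;> rw [e] at h2
  · exact h2
  · have := h2.mul_right hc1
    rwa [show v * w * w = v by rw [mul_assoc, p.bt_w.sq, mul_one]] at this

theorem CV_le : CV w v ≤ Subgroup.centralizer ({w} : Set G) := fun _ hy =>
  Subgroup.mem_centralizer_singleton_iff.2 (mem_cent_two.1 hy).1.eq

theorem index_CV :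
    ((CV w v).subgroupOf (Subgroup.centralizer ({w} : Set G))).index = 2 := by
  obtain ⟨t, ht, htn, -, htv⟩ := p.exists_t0
  have htw := (mem_cent_two.1 ht).2
  have hvw : ∀ {h : G}, Commute h w → h * (v * w) * h⁻¹ = h * v * h⁻¹ * w := fun {h} hh => by
    rw [← conj_mul, mul_inv_eq_iff_eq_mul.2 hh.eq]
  have hnot : ∀ {h : G}, h * v * h⁻¹ = v * w → h ∉ CV w v := fun {h} e hm => by
    rw [(mem_cent_two.1 hm).2.eq, mul_inv_cancel_right] at e
    exact p.bt_w.ne_one (left_eq_mul.1 e)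
  rw [Subgroup.index_eq_two_iff]
  refine ⟨⟨t, Subgroup.mem_centralizer_singleton_iff.2 htw.eq⟩, fun b => ?_⟩
  simp only [Subgroup.mem_subgroupOf, Subgroup.coe_mul]
  have hb : Commute (b : G) w := Subgroup.mem_centralizer_singleton_iff.1 b.2
  have hbt : (b : G) * t * v * ((b : G) * t)⁻¹ = b * v * (b : G)⁻¹ * w := by
    rw [show (b : G) * t * v * ((b : G) * t)⁻¹ = b * (t * v * t⁻¹) * (b : G)⁻¹ by group, htv, hvw hb]
  rcases p.normalise_CW hb with e | e
  · refine Or.inr ⟨mem_cent_two.2 ⟨hb, mul_inv_eq_iff_eq_mul.1 e⟩, hnot ?_⟩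
    rw [hbt, e]
  · refine Or.inl ⟨mem_cent_two.2 ⟨hb.mul_left htw, mul_inv_eq_iff_eq_mul.1 ?_⟩, hnot e⟩
    rw [hbt, e, mul_assoc, p.bt_w.sq, mul_one]

theorem card_CW : Nat.card (Subgroup.centralizer ({w} : Set G)) = 161280 := by
  have h := Subgroup.card_mul_index ((CV w v).subgroupOf (Subgroup.centralizer ({w} : Set G)))
  rw [p.index_CV, Nat.card_congr (Subgroup.subgroupOfEquivOfLe p.CV_le).toEquiv, p.card_CV] at h
  omega

theorem sq_mem_CV {y : G} (hw : Commute y w) : y * y ∈ CV w v := by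
  have h := Subgroup.mul_self_mem_of_index_two p.index_CV
    ⟨y, Subgroup.mem_centralizer_singleton_iff.2 hw.eq⟩
  exact Subgroup.mem_subgroupOf.1 h

/-- An element of odd order commuting with `w` commutes with `v`. -/
theorem mem_CV_of_odd {y : G} (hw : Commute y w) (ho : Odd (orderOf y)) : y ∈ CV w v := by
  obtain ⟨k, hk⟩ := ho
  have h := pow_mem (p.sq_mem_CV hw) (k + 1)
  rwa [← pow_two, ← pow_mul, show 2 * (k + 1) = orderOf y + 1 by omega, pow_succ, pow_orderOf_eq_one,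
    one_mul] at h

end Pack

end Cfsg.Agent.Lib.SuzSeven52
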