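import Cfsg.Agent.Lib.SuzSeven52.Code

/-!
# Suzuki type: computations in the coded centraliser of the two involutions

Owner: helper52.
-/

set_option autoImplicit false
set_option maxRecDepth 100000

namespace Cfsg.Agent.Lib.SuzSeven52

open Cfsg.Agent.Lib.SuzType52

/-- The code of the standard involution. -/
def wc : ℕ := 132

/-- The codes of the candidates for the second involution. -/
def vc (e : ℕ) : ℕ := 200 ^^^ (e <<< 8)

/-- The codes commuting with the standard involution. -/
def Ml : List ℕ := (List.range 1024).filter fun m => Nat.beq (mu m wc) (mu wc m)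

/-- The codes of the four-group. -/
def Vl (e : ℕ) : List ℕ := [0, wc, vc e, mu (vc e) wc]

/-- Membership of the four-group, as a Boolean. -/
def inV (e s : ℕ) : Bool := (Vl e).any fun a => Nat.beq a s

theorem mem_Ml {m : ℕ} : m ∈ Ml ↔ m < 1024 ∧ mu m wc = mu wc m := by
  rw [Ml, List.mem_filter, List.mem_range]
  exact and_congr_right fun _ => ⟨Nat.eq_of_beq_eq_true, fun h => by rw [h]; exact Nat.beq_refl _⟩

theorem Ml_length : Ml.length = 256 := by decide +kernel

theorem Ml_nodup : Ml.Nodup := List.nodup_range.filter _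

theorem wc_spec : wc < 1024 ∧ aOf wc = 16 ∧ vOf wc = 32 ∧ mu wc wc = 0 := by decide +kernel

theorem vc_spec : ∀ e < 4, vc e < 1024 ∧ aOf (vc e) = 32 ∧ mu (vc e) (vc e) = 0 ∧
    mu (vc e) wc = mu wc (vc e) ∧ mu (vc e) wc < 1024 ∧ aOf (mu (vc e) wc) = 48 ∧
    mu (mu (vc e) wc) (mu (vc e) wc) = 0 := by decide +kernel

theorem vc_central_aux : (List.range 4).all (fun e => Ml.all fun m =>
    Nat.beq (mu m (vc e)) (mu (vc e) m)) = true := by decide +kernel

theorem coset_aux : (List.range 4).all (fun e => Ml.all fun s =>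
    inV e s || !(inV e (mu s s)) ||
      (((Vl e).all fun a => Nat.beq (mu (mu s a) (mu s a)) 0) &&
        Nat.beq ((Vl e).filter fun a => !(qn (aOf (mu s a)))).length 1)) = true := by decide +kernel

theorem fixed_aux : (List.range 4).all (fun e => Ml.all fun s =>
    !(Nat.beq (aOf s &&& 12) 12) || !(inV e (mu s s))) = true := by decide +kernel

theorem centre_aux : (List.range 1024).all (fun u =>
    !(Nat.beq (mu u wc) (mu wc u) && qn (aOf u) && qn (aOf (mu u wc))) || Nat.beq (mu u u) 0 == false ||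
      (Ml.filter fun p => Nat.beq (aOf p) 0 && Nat.beq (mu p u) (mu u p)).all (fun p =>
        (Ml.filter fun p => Nat.beq (aOf p) 0 && Nat.beq (mu p u) (mu u p)).all fun r =>
          Nat.beq (mu p r) (mu r p)) ||
      (List.range 4).any fun e => inV e u) = true := by decide +kernel

theorem shift_aux : ∀ a ∈ v4, mu (mu (invc (enc4 a 0 0)) wc) (enc4 a 0 0) &&& 255 = wc := by decide +kernel

theorem low_code : ∀ m < 1024, (m &&& 255) ^^^ ((m >>> 8) <<< 8) = m := by decide +kernel

theorem perp_aux : ∀ k < 64, b1 k = true → (eich 16 k ^^^ k) &&& 60 = 16 := by decide +kernel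

theorem tw_refl : ∀ k < 64, tw 1 k = refl 16 k ∧ tw 2 k = refl 12 k ∧ tw 0 k = k := by decide +kernel

theorem tw_mask_aux : v4.all (fun a => (List.range 64).all fun k =>
    b1 k || Nat.beq (wn 3 a k &&& 60) (tw 3 (k &&& 60))) = true := by decide +kernel

theorem tw_noncomm_aux : ∀ a ∈ v4, ∀ b ∈ [32, 48], ∃ k < 64, wn 3 a (eich b k) ≠ eich b (wn 3 a k) := by
  decide +kernel

theorem wn_one_aux : (List.range 4).all (fun i => v4.all fun a => Nat.beq (wn i a 1) 1) = true := by
  decide +kernel

theorem Vl_mem : ∀ e < 4, ∀ a ∈ Vl e, a < 1024 ∧ a ∈ Ml := by decide +kernel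

end Cfsg.Agent.Lib.SuzSeven52
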