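import Cfsg.Agent.Lib.SuzType52.Space

/-!
# Suzuki type: a code for `(Q ∩ C(x))(P ∩ C(z))`

A number below `1024`: bits `0-3` are the lifts of `4, 8, 16, 32`, bits `4-7` the elements of `Q` with
these parameters, bits `8, 9` the exponents of `x, z`.

Owner: helper52.
-/

set_option autoImplicit false
set_option maxRecDepth 100000

namespace Cfsg.Agent.Lib.SuzSeven52

open Cfsg.Agent.Lib.SuzType52

/-- The parameter of a generator. -/
def kk (i : ℕ) : ℕ := 4 <<< (i % 4)

/-- Two bits as the exponents of `x, z`. -/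
def two (i j : Bool) : ℕ := (bif i then 1 else 0) ^^^ (bif j then 2 else 0)

/-- The square of a generator. -/
def sqc (i : ℕ) : ℕ := bif Nat.blt i 4 then two (qn (kk i)) false else two false (qn (kk i))

/-- The commutator of two generators. -/
def cm (i j : ℕ) : ℕ :=
  bif Nat.blt i 4 then
    bif Nat.blt j 4 then two (bn (kk i) (kk j)) false else two (bn (kk i) (kk j)) (bn (kk i) (kk j))
  else
    bif Nat.blt j 4 then two (bn (kk i) (kk j)) (bn (kk i) (kk j)) else two false (bn (kk i) (kk j))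

/-- The commutator of a normal product with a generator. -/
def cmL : List ℕ → ℕ → ℕ → ℕ
  | [], _, _ => 0
  | j :: js, i, g => (bif g.testBit j then cm j i else 0) ^^^ cmL js i g

/-- The cocycle. -/
def cocL : List ℕ → ℕ → ℕ → ℕ
  | [], _, _ => 0
  | i :: is, g, h => (bif g.testBit i && h.testBit i then sqc i else 0) ^^^
      (bif h.testBit i then cmL is i g else 0) ^^^ cocL is g h

/-- The generators. -/
def idx : List ℕ := [0, 1, 2, 3, 4, 5, 6, 7]

/-- The product of codes. -/
def mu (m m' : ℕ) : ℕ := (m ^^^ m') ^^^ (cocL idx m m' <<< 8)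

/-- The parameter of the action. -/
def aOf (m : ℕ) : ℕ := (m &&& 15) <<< 2

/-- The parameter of the part in `Q`. -/
def vOf (m : ℕ) : ℕ := ((m >>> 4) &&& 15) <<< 2

/-- The code with given parameters. -/
def enc4 (a v e : ℕ) : ℕ := (a >>> 2) ^^^ ((v >>> 2) <<< 4) ^^^ (e <<< 8)

theorem idx_lt : ∀ i ∈ idx, i < 8 := by decide

theorem sqc_lt : ∀ i < 8, sqc i < 4 := by decide +kernel

theorem cm_lt : ∀ i < 8, ∀ j < 8, cm i j < 4 := by decide +kernel

theorem cmL_lt (l : List ℕ) (hl : ∀ j ∈ l, j < 8) {i : ℕ} (hi : i < 8) (g : ℕ) : cmL l i g < 4 := by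
  induction l with
  | nil => norm_num [cmL]
  | cons j js ih =>
    rw [cmL]
    refine Nat.xor_lt_two_pow (n := 2) ?_ (ih fun k hk => hl k (by simp [hk]))
    cases g.testBit j
    · norm_num
    · exact cm_lt j (hl j (by simp)) i hi

theorem cocL_lt (l : List ℕ) (hl : ∀ i ∈ l, i < 8) (g h : ℕ) : cocL l g h < 4 := by
  induction l with
  | nil => norm_num [cocL]
  | cons i is ih =>
    rw [cocL]
    refine Nat.xor_lt_two_pow (n := 2) (Nat.xor_lt_two_pow (n := 2) ?_ ?_)
      (ih fun k hk => hl k (by simp [hk]))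
    · cases g.testBit i && h.testBit i
      · norm_num
      · exact sqc_lt i (hl i (by simp))
    · cases h.testBit i
      · norm_num
      · exact cmL_lt is (fun k hk => hl k (by simp [hk])) (hl i (by simp)) g

theorem mu_lt {m m' : ℕ} (hm : m < 1024) (hm' : m' < 1024) : mu m m' < 1024 := by
  refine Nat.xor_lt_two_pow (n := 10) (Nat.xor_lt_two_pow (n := 10) hm hm') ?_
  rw [Nat.shiftLeft_eq]
  exact Nat.mul_lt_mul_of_pos_right (cocL_lt idx idx_lt m m') (by norm_num : 0 < 2 ^ 8)

/-- The code of the inverse. -/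
def invc (m : ℕ) : ℕ := m ^^^ (cocL idx m m <<< 8)

theorem inv_code_spec : ∀ m < 1024, invc m < 1024 ∧ mu m (invc m) = 0 ∧ invc (invc m) = m := by
  decide +kernel

theorem cocL_shift_aux : (List.range 1024).all (fun m => (List.range 4).all fun c =>
    Nat.beq (cocL idx m (m ^^^ (c <<< 8))) (cocL idx m m)) = true := by decide +kernel

theorem aOf_mem : ∀ m < 1024, aOf m ∈ v4 := by decide +kernel

theorem vOf_mem : ∀ m < 1024, vOf m ∈ v4 := by decide +kernel

theorem enc4_spec : ∀ a ∈ v4, ∀ v ∈ v4, ∀ e < 4,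
    enc4 a v e < 1024 ∧ aOf (enc4 a v e) = a ∧ vOf (enc4 a v e) = v ∧ enc4 a v e >>> 8 = e := by decide +kernel

end Cfsg.Agent.Lib.SuzSeven52
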