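import Cfsg.Agent.Lib.SuzSeven52.Outer
import Cfsg.Agent.Lib.SuzSeven52.Data

/-!
# Suzuki type: the centraliser of an involution outside the class of `z` and an element of order five

Owner: helper52.
-/

set_option autoImplicit false
set_option maxRecDepth 100000

namespace Cfsg.Agent.Lib.SuzSeven52

open Cfsg.Agent.Lib.SuzType52

variable {G : Type*} [Group G] {z : G} {Q : Subgroup G} {co : G → ℕ} {ac : G → ℕ → ℕ} {x n : G}
  {gen : ℕ → G} {w v g q r : G}

namespace Pack

variable [Finite G] (p : Pack z Q co ac x n gen w v g q r)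
include p

/-- `C(w) ∩ C(f)` is the four-group times `⟨f⟩`, for `f` of order five or seven. -/
theorem mem_cent_wf {f : G} {l : ℕ} (hl : l = 5 ∨ l = 7) (hf : Commute f w) (ho : orderOf f = l)
    {y : G} :
    y ∈ Subgroup.centralizer ({w, f} : Set G) ↔
      ∃ a ∈ Subgroup.closure ({w, v} : Set G), ∃ i : ℤ, y = a * f ^ i := by
  have hfCV := p.mem_CV_of_odd hf (by rw [ho]; rcases hl with rfl | rfl <;> decide)
  rw [mem_cent_two]
  constructor
  · rintro ⟨h1, h2⟩
    exact p.cent_CV hl hfCV ho (p.mem_CV_of_commute hl hf ho h1 h2) h2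
  · rintro ⟨a, ha, i, rfl⟩
    exact ⟨((mem_cent_two.1 (p.CZ_le_CV (p.V_le_CZ ha))).1).mul_left (hf.zpow_left i),
      (comm_closure ha hfCV).symm.mul_left (Commute.zpow_self f i)⟩

/-- The order of `C(w) ∩ C(f)`. -/
theorem card_cent_wf {f : G} {l : ℕ} (hl : l = 5 ∨ l = 7) (hf : Commute f w) (ho : orderOf f = l) :
    Nat.card (Subgroup.centralizer ({w, f} : Set G)) = 4 * l := by
  have hfCV := p.mem_CV_of_odd hf (by rw [ho]; rcases hl with rfl | rfl <;> decide)
  have hcl : Subgroup.closure ({w, v} : Set G) ≤ CV w v := fun a ha => p.CZ_le_CV (p.V_le_CZ ha)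
  set E := Subgroup.centralizer ({w, f} : Set G) with hE
  have hEV : E ≤ CV w v := by
    intro y hy
    obtain ⟨a, ha, i, rfl⟩ := (p.mem_cent_wf hl hf ho).1 hy
    exact mul_mem (hcl ha) (zpow_mem hfCV i)
  let φ : ↥E →* WQ w v := (QuotientGroup.mk' (V4 w v)).comp (Subgroup.inclusion hEV)
  have hφ : ∀ y : ↥E, φ y = bar w v (y : G) := fun y => (bar_of_mem (hEV y.2)).symm
  have hr : φ.range = Subgroup.zpowers (bar w v f) := by
    refine le_antisymm ?_ (Subgroup.zpowers_le.2 ⟨⟨f, mem_cent_two.2 ⟨hf, Commute.refl f⟩⟩, hφ _⟩)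
    rintro _ ⟨y, rfl⟩
    obtain ⟨a, ha, i, e⟩ := (p.mem_cent_wf hl hf ho).1 y.2
    refine ⟨i, ?_⟩
    show bar w v f ^ i = φ y
    rw [hφ, e, bar_mul (hcl ha) (zpow_mem hfCV i), (bar_eq_one (hcl ha)).2 ha, one_mul,
      bar_of_mem hfCV, bar_of_mem (zpow_mem hfCV i)]
    rfl
  have hk : φ.ker = (Subgroup.closure ({w, v} : Set G)).subgroupOf E := by
    ext y
    rw [MonoidHom.mem_ker, hφ, bar_eq_one (hEV y.2), Subgroup.mem_subgroupOf]
  have hVE : Subgroup.closure ({w, v} : Set G) ≤ E := fun a ha =>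
    (p.mem_cent_wf hl hf ho).2 ⟨a, ha, 0, by simp⟩
  have h4 : Nat.card ↥(Subgroup.closure ({w, v} : Set G)) = 4 := by
    rw [← p.card_V4, V4, Nat.card_congr (Subgroup.subgroupOfEquivOfLe hcl).toEquiv]
  rw [← Subgroup.card_mul_index φ.ker, Subgroup.index_ker, hr, Nat.card_zpowers,
    p.orderOf_bar hl hfCV ho, hk, Nat.card_congr (Subgroup.subgroupOfEquivOfLe hVE).toEquiv, h4]

/-- An involution of `C(w) ∩ C(f)` lies in the four-group. -/
theorem invol_cent_wf {f : G} {l : ℕ} (hl : l = 5 ∨ l = 7) (hf : Commute f w) (ho : orderOf f = l)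
    {y : G} (hy : y ∈ Subgroup.centralizer ({w, f} : Set G)) (h2 : y * y = 1) :
    y ∈ Subgroup.closure ({w, v} : Set G) := by
  have hfCV := p.mem_CV_of_odd hf (by rw [ho]; rcases hl with rfl | rfl <;> decide)
  obtain ⟨a, ha, i, rfl⟩ := (p.mem_cent_wf hl hf ho).1 hy
  have hc : Commute a (f ^ i) := (comm_closure ha (zpow_mem hfCV i)).symm
  have h : f ^ i * f ^ i = 1 := by
    rw [show a * f ^ i * (a * f ^ i) = a * (f ^ i * a) * f ^ i by group, ← hc.eq,
      show a * (a * f ^ i) * f ^ i = a * a * (f ^ i * f ^ i) by group, p.V_sq ha, one_mul] at h2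
    exact h2
  rw [← zpow_add] at h
  have hd := orderOf_dvd_iff_zpow_eq_one.2 h
  rw [ho] at hd
  have hdi : (l : ℤ) ∣ i := by rcases hl with rfl | rfl <;> omega
  rw [← ho] at hdi
  rw [orderOf_dvd_iff_zpow_eq_one.1 hdi, mul_one]
  exact ha

theorem invol_bt {y : G} (hy : y ∈ Subgroup.closure ({w, v} : Set G)) (h1 : y ≠ 1) : BT z y := by
  rcases p.mem_V.1 hy with e | e | e | e <;> subst y
  exacts [absurd rfl h1, p.bt_w, p.v_facts.1, p.bt_vw]

end Pack

/-- The data on elements of order five centralising an involution outside the class of `z`. -/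
theorem fiveB [Finite G] (d : Duo z Q co ac x n) : FiveB z := by
  obtain ⟨gen, w, v, g, q, r, p⟩ := exists_pack d
  have hconj : ∀ v' f : G, BT z v' → orderOf f = 5 → Commute f v' →
      ∃ c, c * v' * c⁻¹ = w ∧ Commute (c * f * c⁻¹) w ∧ orderOf (c * f * c⁻¹) = 5 ∧
        ∀ y ∈ Subgroup.centralizer ({v', f} : Set G),
          c * y * c⁻¹ ∈ Subgroup.centralizer ({w, c * f * c⁻¹} : Set G) := by
    intro v' f hv hf hc
    obtain ⟨c, e⟩ := isConj_iff.1 (hv.isConj d p.bt_w)
    refine ⟨c, e, e ▸ (by simpa using hc.map (MulAut.conj c).toMonoidHom),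
      (by rw [← MulAut.conj_apply, MulEquiv.orderOf_eq, hf]), fun y hy => ?_⟩
    obtain ⟨h1, h2⟩ := mem_cent_two.1 hy
    exact mem_cent_two.2 ⟨e ▸ (by simpa using h1.map (MulAut.conj c).toMonoidHom),
      by simpa using h2.map (MulAut.conj c).toMonoidHom⟩
  constructor
  · intro v' f hv hf hc
    obtain ⟨c, e, h1, h2, -⟩ := hconj v' f hv hf hc
    have he : (Subgroup.centralizer ({v', f} : Set G)).map (MulAut.conj c).toMonoidHom =
        Subgroup.centralizer ({w, c * f * c⁻¹} : Set G) := by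
      ext y
      rw [Subgroup.mem_map_equiv, mem_cent_two, mem_cent_two, MulAut.conj_symm_apply]
      constructor
      · rintro ⟨k1, k2⟩
        have a1 := k1.map (MulAut.conj c).toMonoidHom
        have a2 := k2.map (MulAut.conj c).toMonoidHom
        exact ⟨by simpa [mul_assoc, ← e] using a1, by simpa [mul_assoc] using a2⟩
      · rintro ⟨k1, k2⟩
        have a1 := k1.map (MulAut.conj c⁻¹).toMonoidHom
        have a2 := k2.map (MulAut.conj c⁻¹).toMonoidHom
        exact ⟨by simpa [mul_assoc, ← e] using a1, by simpa [mul_assoc] using a2⟩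
    rw [← Subgroup.card_map_of_injective (K := Subgroup.centralizer ({v', f} : Set G))
      (f := (MulAut.conj c).toMonoidHom) (MulAut.conj c).injective, he,
      p.card_cent_wf (Or.inl rfl) h1 h2]
  · intro v' f hv hf hc y hy
    obtain ⟨c, e, h1, h2, h3⟩ := hconj v' f hv hf hc
    obtain ⟨a, ha, i, hai⟩ := (p.mem_cent_wf (Or.inl rfl) h1 h2).1 (h3 y hy)
    have hfCV := p.mem_CV_of_odd h1 (by rw [h2]; decide)
    have hco : Commute a ((c * f * c⁻¹) ^ i) := (comm_closure ha (zpow_mem hfCV i)).symm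
    have h10 : (c * y * c⁻¹) ^ 10 = 1 := by
      rw [hai, hco.mul_pow, show a ^ 10 = (a * a) ^ 5 by rw [← pow_two, ← pow_mul], p.V_sq ha, one_pow,
        one_mul, ← zpow_natCast, ← zpow_mul, ← orderOf_dvd_iff_zpow_eq_one, h2]
      omega
    rw [conj_pow, mul_inv_eq_one] at h10
    simpa using h10
  · intro v' f hv hf hc y hy hy2
    obtain ⟨c, e, h1, h2, h3⟩ := hconj v' f hv hf hc
    have hsq : c * y * c⁻¹ * (c * y * c⁻¹) = 1 := by
      rw [conj_mul, ← pow_two, ← hy2, pow_orderOf_eq_one]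
      group
    have hne : c * y * c⁻¹ ≠ 1 := fun h => by
      rw [conj_eq_one_iff.1 h, orderOf_one] at hy2
      norm_num at hy2
    have hb := p.invol_bt (p.invol_cent_wf (Or.inl rfl) h1 h2 (h3 y hy) hsq) hne
    simpa [mul_assoc] using hb.conj c⁻¹
  · haveI : Fact (Nat.Prime 5) := ⟨by norm_num⟩
    obtain ⟨f, hf⟩ := exists_prime_orderOf_dvd_card' (G := CV w v) 5 (by rw [p.card_CV]; norm_num)
    exact ⟨w, f, p.bt_w, by rw [Subgroup.orderOf_coe, hf], (mem_cent_two.1 f.2).1⟩

end Cfsg.Agent.Lib.SuzSeven52
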