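import Cfsg.Agent.Lib.SuzSeven52.Levi

/-!
# Suzuki type: four lifts commuting with the element of order three

A four-group of involutions outside the class of `z`, and a rotation of it, all commuting with `z`,
`x`, the element of order three and the element of `Q` inverting that.

Owner: helper52.
-/

set_option autoImplicit false
set_option maxRecDepth 100000

namespace Cfsg.Agent.Lib.SuzSeven52

open Cfsg.Agent.Lib.SuzType52

/-- The relations of the four pairs of reflections. -/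
theorem pairs_rel : ∀ k < 64, pr (16, 20) (pr (16, 20) k) = k ∧ pr (32, 36) (pr (32, 36) k) = k ∧
    pr (16, 20) (pr (32, 36) k) = pr (48, 52) k ∧ pr (32, 36) (pr (16, 20) k) = pr (48, 52) k ∧
    pr (48, 52) (pr (48, 52) k) = k ∧
    pr (16, 32) (pr (16, 20) k) = pr (32, 36) (pr (16, 32) k) ∧
    pr (16, 32) (pr (32, 36) k) = pr (48, 52) (pr (16, 32) k) ∧
    pr (16, 32) (pr (16, 32) (pr (16, 32) k)) = k := by decide +kernel

theorem pairs_mem : ∀ p ∈ [(16, 20), (32, 36), (48, 52), (16, 32)], p ∈ pairs4 := by decide +kernel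

theorem pairs_bt : ∀ p ∈ [(16, 20), (32, 36), (48, 52)], ∃ k < 64, qn (pr p k ^^^ k) = true := by
  decide +kernel

theorem pairs_ne : ∃ k < 64, pr (16, 20) k ≠ pr (32, 36) k := by decide +kernel

variable {G : Type*} [Group G] {z : G} {Q : Subgroup G} {co : G → ℕ} {ac : G → ℕ → ℕ} {x n : G}
  {gen : ℕ → G} {g q : G}

/-- The lift of a map of the small space that commutes with the element of order three. -/
structure Lift (z x g q : G) (ac : G → ℕ → ℕ) (f : ℕ → ℕ) (d : G) : Prop where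
  cz : Commute d z
  cx : Commute d x
  cg : Commute d g
  cq : Commute d q
  act : ∀ k < 64, ac d k = f k

namespace Tri

variable (t : Tri z Q co ac x n gen g q)
include t

theorem q_com {c : G} (hz : Commute c z) (hx : Commute c x) : InU gen z x (q * c * q⁻¹ * c⁻¹) := by
  have d := t.std.duo
  have hm : q * c * q⁻¹ * c⁻¹ ∈ Q := by
    rw [show q * c * q⁻¹ * c⁻¹ = q * (c * q⁻¹ * c⁻¹) by group]
    exact mul_mem t.qQ (d.fr.norm c hz _ (inv_mem t.qQ))
  refine t.std.inU_Q hm ?_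
  have h1 : Commute c (q⁻¹ * x * q) := by
    have e := d.fr.comm_Q (inv_mem t.qQ) d.xQ
    rw [inv_inv] at e
    rw [e]
    refine hx.mul_right ?_
    cases bn (co q⁻¹) (co x)
    · exact Commute.one_right _
    · exact hz
  have h2 : Commute (q * c * q⁻¹) x := by simpa [mul_assoc] using h1.map (MulAut.conj q).toMonoidHom
  exact h2.mul_left hx.inv_left

theorem lift_unique {f : ℕ → ℕ} {d d' : G} (h : Lift z x g q ac f d) (h' : Lift z x g q ac f d') :
    d = d' := by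
  refine inv_mul_eq_one.1 (t.fixed _ ?_ (h.cg.inv_left.mul_left h'.cg))
  refine t.std.inU_Q (t.std.duo.fr.faithful _ (h.cz.inv_left.mul_left h'.cz) fun k hk => ?_)
    (h.cx.inv_left.mul_left h'.cx)
  rw [t.std.duo.fr.ac_mul h.cz.inv_left h'.cz hk, h'.act k hk, ← h.act k hk,
    t.std.duo.fr.ac_inv h.cz hk]

theorem exists_lift [Finite G] {p : ℕ × ℕ} (hp : p ∈ pairs4) :
    ∃ d, Lift z x g q ac (pr p) d := by
  have d₀ := t.std.duo
  obtain ⟨c, hc, hcx, hck⟩ := d₀.exists_prE hp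
  let U := {u : G // InU gen z x u}
  have hflip : ∀ a b : G, (a * b * a⁻¹ * b⁻¹)⁻¹ = b * a * b⁻¹ * a⁻¹ := fun a b => by group
  let f : U → U := fun u => ⟨u.1 * g * u.1⁻¹ * g⁻¹, by
    have h := t.std.inU_inv (t.centr u.1 (t.std.inU_comm u.2).1 (t.std.inU_comm u.2).2)
    rwa [hflip] at h⟩
  have hinj : Function.Injective f := fun u v h => by
    have h2 : u.1 * g * u.1⁻¹ = v.1 * g * v.1⁻¹ := mul_right_cancel (congrArg Subtype.val h)
    refine Subtype.ext (inv_mul_eq_one.1 (t.fixed _ (t.std.inU_mul (t.std.inU_inv u.2) v.2) ?_))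
    show u.1⁻¹ * v.1 * g = g * (u.1⁻¹ * v.1)
    calc u.1⁻¹ * v.1 * g = u.1⁻¹ * (v.1 * g * v.1⁻¹) * v.1 := by group
      _ = g * (u.1⁻¹ * v.1) := by rw [← h2]; group
  obtain ⟨⟨u, hu⟩, he⟩ := Finite.surjective_of_injective hinj ⟨c * g * c⁻¹ * g⁻¹, by
    have h := t.std.inU_inv (t.centr c hc hcx)
    rwa [hflip] at h⟩
  have he2 : u * g * u⁻¹ = c * g * c⁻¹ := mul_right_cancel (congrArg Subtype.val he)
  obtain ⟨huz, hux⟩ := t.std.inU_comm hu
  set d := u⁻¹ * c with hd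
  have hdz : Commute d z := huz.inv_left.mul_left hc
  have hdx : Commute d x := hux.inv_left.mul_left hcx
  have hdg : Commute d g := mul_inv_eq_iff_eq_mul.1 (by
    calc d * g * d⁻¹ = u⁻¹ * (c * g * c⁻¹) * u := by rw [hd]; group
      _ = g := by rw [← he2]; group)
  have hdq : Commute d q := by
    refine (mul_inv_eq_iff_eq_mul.1 (?_ : q * d * q⁻¹ = d)).symm
    refine mul_inv_eq_one.1 (t.fixed _ (t.q_com hdz hdx) ?_)
    have h1 : Commute (q * d * q⁻¹) g := by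
      have := hdg.inv_right.map (MulAut.conj q).toMonoidHom
      have e : q * g⁻¹ * q⁻¹ = g := by
        rw [show q * g⁻¹ * q⁻¹ = (q * g * q⁻¹)⁻¹ by group, t.qg, inv_inv]
      simpa [e] using this
    exact h1.mul_left hdg.inv_left
  refine ⟨d, hdz, hdx, hdg, hdq, ?_⟩
  obtain ⟨m, hm, e⟩ := t.std.inU_inv hu
  have hk : ∀ k < 64, ac d k = eich (aOf m) (pr p k) := fun k hk => by
    rw [hd, d₀.fr.ac_mul huz.inv_left hc hk, hck k hk, ← e,
      phi_act d₀ t.std.gens hm _ (pr_spec hp hk).1]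
  have h2 : ac d 2 = 2 := by
    rw [← t.qco, ← d₀.fr.conj d hdz q t.qQ, mul_inv_eq_iff_eq_mul.2 hdq.eq]
  have ha : aOf m = 0 := by
    rw [hk 2 (by norm_num), pr_two p hp] at h2
    rw [← (eich_two _ (aOf_mem m hm)).2.1, h2]
    rfl
  intro k hk'
  rw [hk k hk', ha, eich_zero (pr_spec hp hk').1]

theorem lift_one : Lift z x g q ac id 1 :=
  ⟨Commute.one_left _, Commute.one_left _, Commute.one_left _, Commute.one_left _,
    fun _ hk => t.std.duo.fr.ac_Q (one_mem Q) hk⟩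

theorem lift_comp {f f' : ℕ → ℕ} {d d' : G} (h : Lift z x g q ac f d) (h' : Lift z x g q ac f' d')
    {f'' : ℕ → ℕ} (hlt : ∀ k < 64, f' k < 64) (e : ∀ k < 64, f (f' k) = f'' k) :
    Lift z x g q ac f'' (d * d') :=
  ⟨h.cz.mul_left h'.cz, h.cx.mul_left h'.cx, h.cg.mul_left h'.cg, h.cq.mul_left h'.cq, fun k hk => by
    rw [t.std.duo.fr.ac_mul h.cz h'.cz hk, h'.act k hk, h.act _ (hlt k hk), e k hk]⟩

/-- The four-group of lifts and its rotation. -/
theorem exists_four [Finite G] : ∃ d₁ d₂ r,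
    (BT z d₁ ∧ BT z d₂ ∧ BT z (d₁ * d₂) ∧ d₁ ≠ d₂ ∧ Commute d₁ d₂) ∧
    (r ^ 3 = 1 ∧ r * d₁ * r⁻¹ = d₂ ∧ r * d₂ * r⁻¹ = d₁ * d₂) ∧
    ∀ d ∈ [d₁, d₂, r], Commute d z ∧ Commute d x ∧ Commute d g ∧ Commute d q := by
  have d := t.std.duo
  obtain ⟨d₁, h1⟩ := t.exists_lift (pairs_mem (16, 20) (by simp))
  obtain ⟨d₂, h2⟩ := t.exists_lift (pairs_mem (32, 36) (by simp))
  obtain ⟨d₃, h3⟩ := t.exists_lift (pairs_mem (48, 52) (by simp))
  obtain ⟨r, hr⟩ := t.exists_lift (pairs_mem (16, 32) (by simp))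
  have hlt : ∀ p ∈ [(16, 20), (32, 36), (48, 52), (16, 32)], ∀ k < 64, pr p k < 64 :=
    fun p hp k hk => (pr_spec (pairs_mem p hp) hk).1
  have s1 : d₁ * d₁ = 1 := t.lift_unique
    (t.lift_comp h1 h1 (hlt _ (by simp)) fun k hk => (pairs_rel k hk).1) t.lift_one
  have s2 : d₂ * d₂ = 1 := t.lift_unique
    (t.lift_comp h2 h2 (hlt _ (by simp)) fun k hk => (pairs_rel k hk).2.1) t.lift_one
  have s3 : d₃ * d₃ = 1 := t.lift_unique
    (t.lift_comp h3 h3 (hlt _ (by simp)) fun k hk => (pairs_rel k hk).2.2.2.2.1) t.lift_one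
  have e12 : d₁ * d₂ = d₃ :=
    t.lift_unique (t.lift_comp h1 h2 (hlt _ (by simp)) fun k hk => (pairs_rel k hk).2.2.1) h3
  have e21 : d₂ * d₁ = d₃ :=
    t.lift_unique (t.lift_comp h2 h1 (hlt _ (by simp)) fun k hk => (pairs_rel k hk).2.2.2.1) h3
  have hBT : ∀ {p : ℕ × ℕ} {y : G}, p ∈ [(16, 20), (32, 36), (48, 52)] → Lift z x g q ac (pr p) y →
      y * y = 1 → BT z y := by
    intro p y hp hy hy2
    obtain ⟨k, hk, hq⟩ := pairs_bt p hp
    have hy1 : y ≠ 1 := fun e => by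
      have := hy.act k hk
      rw [e, d.fr.ac_Q (one_mem Q) hk] at this
      rw [← this, Nat.xor_self] at hq
      exact absurd hq (by decide)
    refine ⟨orderOf_two hy2 hy1, fun hcj => ?_⟩
    have := (isConj_iff_sing d hy.cz hy2 hy1).1 hcj k hk
    rw [hy.act k hk, hq] at this
    exact Bool.noConfusion this
  have hr2 : Lift z x g q ac (fun k => pr (16, 32) (pr (16, 32) k)) (r * r) :=
    t.lift_comp hr hr (hlt _ (by simp)) fun k _ => rfl
  refine ⟨d₁, d₂, r, ⟨hBT (by simp) h1 s1, hBT (by simp) h2 s2,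
    e12.symm ▸ hBT (by simp) h3 s3, ?_, e12.trans e21.symm⟩, ⟨?_, ?_, ?_⟩, ?_⟩
  · intro e
    obtain ⟨k, hk, hne⟩ := pairs_ne
    exact hne (by rw [← h1.act k hk, e, h2.act k hk])
  · rw [pow_three']
    exact t.lift_unique (t.lift_comp hr2 hr (hlt _ (by simp))
      fun k hk => (pairs_rel k hk).2.2.2.2.2.2.2) t.lift_one
  · refine mul_inv_eq_iff_eq_mul.2 (t.lift_unique (t.lift_comp hr h1 (hlt _ (by simp)) fun k hk => ?_)
      (t.lift_comp h2 hr (hlt _ (by simp)) fun _ _ => rfl))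
    exact (pairs_rel k hk).2.2.2.2.2.1
  · rw [e12]
    refine mul_inv_eq_iff_eq_mul.2 (t.lift_unique (t.lift_comp hr h2 (hlt _ (by simp)) fun k hk => ?_)
      (t.lift_comp h3 hr (hlt _ (by simp)) fun _ _ => rfl))
    exact (pairs_rel k hk).2.2.2.2.2.2.1
  · intro y hy
    simp only [List.mem_cons, List.not_mem_nil, or_false] at hy
    rcases hy with rfl | rfl | rfl
    exacts [⟨h1.cz, h1.cx, h1.cg, h1.cq⟩, ⟨h2.cz, h2.cx, h2.cg, h2.cq⟩, ⟨hr.cz, hr.cx, hr.cg, hr.cq⟩]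

end Tri

end Cfsg.Agent.Lib.SuzSeven52
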