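import Cfsg.Agent.Lib.CIT.CaseTwo

/-!
# Two small lemmas: fixed-point-free four-groups and centralisers in dihedral groups

Owner: helper52.
-/

set_option autoImplicit false

namespace Cfsg.Agent.Lib.SuzSeven52

open Cfsg.Agent.Lib

variable {X : Type*} [Group X] [Finite X]

/-- An involution normalising a subgroup without fixed points inverts it. -/
theorem fpf_inv {K : Subgroup X} {a : X} (ha : a * a = 1) (hn : ∀ k ∈ K, a * k * a⁻¹ ∈ K)
    (hf : ∀ k ∈ K, Commute a k → k = 1) : ∀ k ∈ K, a * k * a⁻¹ = k⁻¹ := by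
  let φ : ↥K →* ↥K :=
    { toFun := fun k => ⟨a * k * a⁻¹, hn k k.2⟩
      map_one' := Subtype.ext (by simp)
      map_mul' := fun k l => Subtype.ext (by simp [mul_assoc]) }
  have hφ : MonoidHom.FixedPointFree φ := fun k hk =>
    Subtype.ext (hf k k.2 (mul_inv_eq_iff_eq_mul.1 (congrArg Subtype.val hk)))
  have hinv : Function.Involutive φ := fun k => Subtype.ext (by
    show a * (a * (k : X) * a⁻¹) * a⁻¹ = k
    calc a * (a * (k : X) * a⁻¹) * a⁻¹ = a * a * k * (a * a)⁻¹ := by group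
      _ = k := by simp [ha])
  intro k hk
  exact congrArg Subtype.val (congrFun (hφ.coe_eq_inv_of_involutive hinv) ⟨k, hk⟩)

/-- A four-group normalising a subgroup, each involution without fixed points: the subgroup is
trivial. -/
theorem fpf_four {K : Subgroup X} {a b : X} (ha : a * a = 1) (hb : b * b = 1)
    (hab : Commute a b) (hna : ∀ k ∈ K, a * k * a⁻¹ ∈ K) (hnb : ∀ k ∈ K, b * k * b⁻¹ ∈ K)
    (fa : ∀ k ∈ K, Commute a k → k = 1) (fb : ∀ k ∈ K, Commute b k → k = 1)
    (fab : ∀ k ∈ K, Commute (a * b) k → k = 1) : K = ⊥ := by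
  refine (Subgroup.eq_bot_iff_forall K).2 fun k hk => fab k hk ?_
  refine mul_inv_eq_iff_eq_mul.1 ?_
  have h1 := fpf_inv ha hna fa
  have h2 := fpf_inv hb hnb fb
  rw [hab.eq, mul_inv_rev, show b * a * k * (a⁻¹ * b⁻¹) = b * (a * k * a⁻¹) * b⁻¹ by group,
    h1 k hk, h2 _ (inv_mem hk), inv_inv]

/-- In a dihedral 2-group the common centraliser of two non-commuting elements is the centre. -/
theorem dih_central {S : Subgroup X} {z v a : X} {n : ℕ} (d : CIT.DihData S z v a n)
    {p q c : X} (hp : p ∈ S) (hq : q ∈ S) (hc : c ∈ S) (hpq : ¬ Commute p q) (h1 : Commute c p)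
    (h2 : Commute c q) : c = 1 ∨ c = z := by
  have hsq : ∀ y ∈ Subgroup.zpowers a, y * y = 1 → y = 1 ∨ y = z := by
    intro y hy h
    obtain ⟨i, rfl⟩ := (mem_powers_iff_mem_zpowers (x := a)).2 hy
    simp only at h ⊢
    rw [← pow_add] at h
    have hd := orderOf_dvd_of_pow_eq_one h
    rw [d.ha, pow_succ, show i + i = i * 2 by omega] at hd
    obtain ⟨j, rfl⟩ := Nat.dvd_of_mul_dvd_mul_right two_pos hd
    rcases Nat.even_or_odd j with ⟨l, rfl⟩ | ⟨l, rfl⟩
    · left
      rw [show 2 ^ n * (l + l) = 2 ^ (n + 1) * l by ring, pow_mul, ← d.ha, pow_orderOf_eq_one,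
        one_pow]
    · right
      rw [show 2 ^ n * (2 * l + 1) = 2 ^ (n + 1) * l + 2 ^ n by ring, pow_add, pow_mul, ← d.ha,
        pow_orderOf_eq_one, one_pow, one_mul, d.hz]
  have hflip : ∀ g ∈ S, g ∉ Subgroup.zpowers a → ∀ y ∈ Subgroup.zpowers a, g * y * g⁻¹ = y⁻¹ := by
    intro g hg hga y hy
    obtain ⟨i, hi⟩ := (d.cases' g hg).resolve_left hga
    obtain ⟨j, rfl⟩ := hy
    have e : g = a ^ i * v := by
      show g = a ^ i * v
      rw [show a ^ i = g * v from hi, mul_assoc, d.hv, mul_one]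
    have hvj : v * a ^ j * v⁻¹ = a ^ (-j) := by rw [← conj_zpow, d.inv, inv_zpow']
    simp only
    rw [e, show a ^ i * v * a ^ j * (a ^ i * v)⁻¹ = a ^ i * (v * a ^ j * v⁻¹) * (a ^ i)⁻¹ by group,
      hvj]
    group
  have hcomm : ∀ y y' : X, y ∈ Subgroup.zpowers a → y' ∈ Subgroup.zpowers a → Commute y y' := by
    rintro _ _ ⟨i, rfl⟩ ⟨j, rfl⟩
    exact Commute.zpow_zpow_self a i j
  have hout : ∀ g ∈ S, g ∉ Subgroup.zpowers a → ∀ y ∈ Subgroup.zpowers a, Commute g y →
      y = 1 ∨ y = z := fun g hg hga y hy h => hsq y hy (by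
    have e := hflip g hg hga y hy
    rw [h.eq, mul_inv_cancel_right] at e
    exact mul_eq_one_iff_eq_inv.2 e)
  by_cases hca : c ∈ Subgroup.zpowers a
  · by_cases hpa : p ∈ Subgroup.zpowers a
    · exact hout q hq (fun hqa => hpq (hcomm p q hpa hqa)) c hca h2.symm
    · exact hout p hp hpa c hca h1.symm
  exfalso
  have hza : z ∈ Subgroup.zpowers a := d.hz ▸ Subgroup.npow_mem_zpowers a _
  have hzall : ∀ g ∈ S, Commute g z := by
    intro g hg
    by_cases hga : g ∈ Subgroup.zpowers a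
    · exact hcomm g z hga hza
    · refine mul_inv_eq_iff_eq_mul.1 ?_
      rw [hflip g hg hga z hza]
      refine inv_eq_of_mul_eq_one_right ?_
      rw [d.hz, ← pow_add, show 2 ^ n + 2 ^ n = 2 ^ (n + 1) by ring, ← d.ha, pow_orderOf_eq_one]
  have hdec : ∀ g ∈ S, Commute c g → ∃ y, (y = 1 ∨ y = z) ∧ (g = y ∨ g = y * c) := by
    intro g hg h
    by_cases hga : g ∈ Subgroup.zpowers a
    · exact ⟨g, hout c hc hca g hga h, Or.inl rfl⟩
    refine ⟨g * c⁻¹, hout c hc hca _ ?_ ((Commute.refl c).inv_right |> h.mul_right), Or.inr (by group)⟩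
    have e1 := (d.cases' g hg).resolve_left hga
    have e2 := (d.cases' c hc).resolve_left hca
    have := mul_mem e1 (inv_mem e2)
    rwa [show g * v * (c * v)⁻¹ = g * c⁻¹ by group] at this
  obtain ⟨y, hy, ey⟩ := hdec p hp h1
  obtain ⟨y', hy', ey'⟩ := hdec q hq h2
  have hzc : Commute z c := (hzall c hc).symm
  have hcy : ∀ u : X, u = 1 ∨ u = z → Commute u c := by
    rintro u (rfl | rfl)
    exacts [Commute.one_left c, hzc]
  have hyy : Commute y y' := by
    rcases hy with rfl | rfl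
    · exact Commute.one_left _
    rcases hy' with rfl | rfl
    · exact Commute.one_right _
    · exact Commute.refl _
  refine hpq ?_
  rcases ey with rfl | rfl <;> rcases ey' with rfl | rfl
  · exact hyy
  · exact hyy.mul_right (hcy _ hy)
  · exact hyy.mul_left (hcy _ hy').symm
  · exact ((hyy.mul_right (hcy _ hy)).mul_left ((hcy _ hy').symm.mul_right (Commute.refl c)))

end Cfsg.Agent.Lib.SuzSeven52
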