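import Cfsg.Agent.Lib.SuzSeven52.Quot
import Cfsg.Agent.Lib.SuzSeven52.Fpf
import Cfsg.Agent.Lib.PGroups.Omega

/-!
# Suzuki type: fusion in the quotient of the centraliser of the four-group

No normal subgroup of odd order or of 2-power order.

Owner: helper52.
-/

set_option autoImplicit false
set_option maxRecDepth 100000

namespace Cfsg.Agent.Lib.SuzSeven52

open Cfsg.Agent.Lib.SuzType52

/-- The Sylow subgroup of the quotient. -/
def SB {G : Type*} [Group G] (z w v : G) : Subgroup (WQ w v) :=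
  ((CZ z w v).subgroupOf (CV w v)).map (QuotientGroup.mk' (V4 w v))

/-- The elements used for fusion: `t` moves `x` and swaps `v`, `v w`; `k` moves `g z g⁻¹` by `x`. -/
structure Fus {G : Type*} [Group G] (z x w v g t k : G) : Prop where
  tT : t ∈ Subgroup.centralizer ({z, w} : Set G)
  tn : t ∉ CZ z w v
  tx : t * x * t⁻¹ = x * z
  tv : t * v * t⁻¹ = v * w
  gCV : g ∈ CV w v
  m1 : g * z * g⁻¹ ∈ CZ z w v
  m2 : t * (g * z * g⁻¹) * t⁻¹ ∈ CZ z w v
  nc : ¬ Commute (bar w v (g * z * g⁻¹)) (bar w v (t * (g * z * g⁻¹) * t⁻¹))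
  kM : k ∈ CZ z w v
  kx : k * (g * z * g⁻¹) * k⁻¹ * (g * z * g⁻¹)⁻¹ = x ∨
    k * (g * z * g⁻¹) * k⁻¹ * (g * z * g⁻¹)⁻¹ = x * z

variable {G : Type*} [Group G] {z : G} {Q : Subgroup G} {co : G → ℕ} {ac : G → ℕ → ℕ} {x n : G}
  {gen : ℕ → G} {w v g q r : G}

namespace Pack

variable [Finite G] (p : Pack z Q co ac x n gen w v g q r)
include p

theorem mem_SB {y : G} (hy : y ∈ CV w v) : bar w v y ∈ SB z w v ↔ y ∈ CZ z w v := by
  constructor
  · rintro ⟨⟨a, ha⟩, hm, e⟩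
    rw [QuotientGroup.mk'_apply, ← bar_of_mem ha, bar_eq ha hy] at e
    have := mul_mem (Subgroup.mem_subgroupOf.1 hm) (p.V_le_CZ e)
    rwa [mul_inv_cancel_left] at this
  · exact fun h => ⟨⟨y, hy⟩, Subgroup.mem_subgroupOf.2 h, (bar_of_mem hy).symm⟩

theorem isPGroup_SB : IsPGroup 2 (SB z w v) :=
  (IsPGroup.comap_of_injective p.isPGroup_CZ (CV w v).subtype (CV w v).subtype_injective).map _

theorem bar_mem_SB {y : G} (hy : y ∈ CZ z w v) : bar w v y ∈ SB z w v :=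
  (p.mem_SB (p.CZ_le_CV hy)).2 hy

theorem SB_surj {t : WQ w v} (ht : t ∈ SB z w v) : ∃ y ∈ CZ z w v, bar w v y = t := by
  obtain ⟨⟨a, ha⟩, hm, rfl⟩ := ht
  exact ⟨a, Subgroup.mem_subgroupOf.1 hm, bar_of_mem ha⟩

theorem cent_zb : Subgroup.centralizer ({bar w v z} : Set (WQ w v)) = SB z w v := by
  ext t
  rw [Subgroup.mem_centralizer_singleton_iff]
  have hz := p.CZ_le_CV p.z_mem
  constructor
  · intro h
    obtain ⟨y, hy, rfl⟩ := bar_surj t
    exact (p.mem_SB hy).2 (mem_cent_three.2 ⟨p.cent_lift hz p.bar_z_mem.1 (IsConj.refl z) hy h,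
      mem_cent_two.1 hy⟩)
  · intro h
    obtain ⟨y, hy, rfl⟩ := p.SB_surj h
    rw [← bar_mul (p.CZ_le_CV hy) hz, ← bar_mul hz (p.CZ_le_CV hy), (mem_cent_three.1 hy).1.eq]

/-- A Sylow subgroup of the quotient. -/
theorem exists_sylow : ∃ S : Sylow 2 (WQ w v), (S : Subgroup (WQ w v)) = SB z w v := by
  haveI : Fact (Nat.Prime 2) := ⟨Nat.prime_two⟩
  refine ⟨⟨SB z w v, p.isPGroup_SB, fun {Y} hY hle => ?_⟩, rfl⟩
  refine le_antisymm (fun t ht => ?_) hle
  by_contra htn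
  have hlt : (SB z w v).subgroupOf Y < ⊤ := lt_top_iff_ne_top.2 fun e => htn (by
    rw [Subgroup.subgroupOf_eq_top] at e
    exact e ht)
  haveI : Group.IsNilpotent Y := hY.isNilpotent
  obtain ⟨y, hy, hyS⟩ := SetLike.exists_of_lt (Group.normalizerCondition_of_isNilpotent _ hlt)
  rw [Subgroup.mem_subgroupOf] at hyS
  obtain ⟨a, ha, ea⟩ := bar_surj (y : WQ w v)
  refine hyS (ea ▸ p.bar_mem_SB ?_)
  -- `a` normalises the coded centraliser
  have hn : ∀ k ∈ CZ z w v, a * k * a⁻¹ ∈ CZ z w v := fun k hk => by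
    have h1 : ((⟨bar w v k, hle (p.bar_mem_SB hk)⟩ : Y) ∈ (SB z w v).subgroupOf Y) :=
      Subgroup.mem_subgroupOf.2 (p.bar_mem_SB hk)
    have h2 := (Subgroup.mem_normalizer_iff.1 hy _).1 h1
    rw [Subgroup.mem_subgroupOf] at h2
    rw [← p.mem_SB (mul_mem (mul_mem ha (p.CZ_le_CV hk)) (inv_mem ha)), bar_conj ha (p.CZ_le_CV hk), ea]
    simpa using h2
  have ha2 : ∃ k : ℕ, a ^ 2 ^ k = 1 := by
    obtain ⟨k, hk⟩ := hY y
    have hk' : bar w v a ^ 2 ^ k = 1 := by rw [ea]; simpa using congrArg Subtype.val hk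
    have hpow : ∀ m : ℕ, bar w v (a ^ m) = bar w v a ^ m := by
      intro m
      induction m with
      | zero => simp [bar_one]
      | succ m ih => rw [pow_succ, bar_mul (pow_mem ha m) ha, ih, pow_succ]
    rw [← hpow, bar_eq_one (pow_mem ha _)] at hk'
    exact ⟨k + 1, by rw [pow_succ 2 k, pow_mul, pow_two]; exact p.V_sq hk'⟩
  obtain ⟨k, hk⟩ := ha2
  have hM : IsPGroup 2 (CZ z w v ⊔ Subgroup.zpowers a : Subgroup G) := by
    have hza : IsPGroup 2 ↥(Subgroup.zpowers a) := by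
      obtain ⟨j, -, hj⟩ := (Nat.dvd_prime_pow Nat.prime_two).1 (orderOf_dvd_of_pow_eq_one hk)
      exact IsPGroup.of_card (n := j) (by rw [Nat.card_zpowers, hj])
    refine p.isPGroup_CZ.to_sup_of_normal_left' hza ?_
    rw [Subgroup.zpowers_le]
    refine Subgroup.mem_normalizer_iff.2 fun u => ⟨fun hu => hn u hu, fun hu => ?_⟩
    have hm : ∀ j : ℕ, ∀ u ∈ CZ z w v, a ^ j * u * (a ^ j)⁻¹ ∈ CZ z w v := by
      intro j
      induction j with
      | zero => simp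
      | succ j ih =>
        intro u hu
        rw [pow_succ', show a * a ^ j * u * (a * a ^ j)⁻¹ = a * (a ^ j * u * (a ^ j)⁻¹) * a⁻¹ by group]
        exact hn _ (ih u hu)
    have h3 := hm (2 ^ k - 1) _ hu
    have e : a ^ (2 ^ k - 1) = a⁻¹ := by
      refine eq_inv_of_mul_eq_one_left ?_
      rw [← pow_succ, Nat.sub_add_cancel Nat.one_le_two_pow, hk]
    rw [e] at h3
    simpa [mul_assoc] using h3
  have := p.CZ_max hM le_sup_left (sup_le p.CZ_le_CV (Subgroup.zpowers_le.2 ha))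
  exact this ▸ Subgroup.mem_sup_right (Subgroup.mem_zpowers a)

theorem exists_fus : ∃ t k, Fus z x w v g t k := by
  have s := p.std
  have d := s.duo
  obtain ⟨t, ht, htn, htx, htv⟩ := p.exists_t0
  obtain ⟨htz, htw⟩ := mem_cent_two.1 ht
  set x1 := g * z * g⁻¹ with hx1
  obtain ⟨m, hm, em, am, cx1, hmask⟩ := p.code_Q p.xQ p.xw
  rw [← hx1] at em cx1 hmask
  have hx1M : x1 ∈ CZ z w v :=
    mem_cent_three.2 ⟨d.fr.es.comm _ p.xQ, p.xw, p.xv⟩
  obtain ⟨mq, hmq, emq, amq, cqx, hqmask⟩ := p.code_Q p.qQ p.qw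
  have hb := (d.commute_x_iff p.xQ).1 cx1
  have hx12 : x1 * x1 = 1 := by
    rw [hx1, show g * z * g⁻¹ * (g * z * g⁻¹) = g * (z * z) * g⁻¹ by group, d.fr.es.sq]
    group
  have hq0 : qn (co x1) = false := by
    have h := d.fr.sq x1 p.xQ
    rw [hx12] at h
    cases hq : qn (co x1) with
    | false => rfl
    | true =>
      rw [hq] at h
      have := d.fr.ord
      rw [show z = 1 from h.symm] at this
      simp at this
  have hlt := d.fr.co_lt x1 p.xQ
  have hqb := (d.commute_x_iff p.qQ).1 cqx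
  have hmask48 : co x1 &&& 60 ∈ [4, 8] := by
    simp only [List.mem_cons, List.not_mem_nil, or_false] at hmask ⊢
    rcases hmask with h | h | h | h
    · refine absurd ((d.fr.commute_Q p.qQ p.xQ).2 ?_) p.noncomm
      rw [← bn_mask2 (d.fr.co_lt q p.qQ) hlt hqb hb, h]
      have : ∀ y < 64, bn y 0 = false := by decide
      exact this _ (Nat.lt_of_le_of_lt Nat.and_le_left (d.fr.co_lt q p.qQ))
    · exact Or.inl h
    · exact Or.inr h
    · rw [mask_qn_aux _ hlt hb h] at hq0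
      exact Bool.noConfusion hq0
  have hr2z : Commute (t * x1 * t⁻¹) z :=
    (htz.mul_left (d.fr.es.comm _ p.xQ)).mul_left htz.inv_left
  have hr2w : Commute (t * x1 * t⁻¹) w := (htw.mul_left p.xw).mul_left htw.inv_left
  have hr2v : Commute (t * x1 * t⁻¹) v := by
    have h := (p.xv.mul_right p.xw).map (MulAut.conj t).toMonoidHom
    simp only [MulEquiv.coe_toMonoidHom, MulAut.conj_apply, ← hx1] at h
    rwa [show t * (v * w) * t⁻¹ = v by
      rw [← conj_mul, htv, mul_inv_eq_iff_eq_mul.2 htw.eq, mul_assoc, p.bt_w.sq, mul_one]] at h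
  have hr2M : t * x1 * t⁻¹ ∈ CZ z w v := mem_cent_three.2 ⟨hr2z, hr2w, hr2v⟩
  have hr2Q : t * x1 * t⁻¹ ∈ Q := d.fr.norm t htz x1 p.xQ
  have hnc : ¬ Commute x1 (t * x1 * t⁻¹) := by
    intro hc
    rcases s.cases_T htz (p.w_eq ▸ htw) with ⟨m', hm', e⟩ | ⟨-, a, ha, hk⟩
    · exact htn (p.mem_CZ.2 ⟨m', hm', e⟩)
    have hco : co (t * x1 * t⁻¹) &&& 60 = tw 3 (co x1 &&& 60) := by
      rw [d.fr.conj t htz x1 p.xQ, hk _ hlt]
      have := List.all_eq_true.1 (List.all_eq_true.1 tw_mask_aux a ha) _ (List.mem_range.2 hlt)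
      rw [hb, Bool.false_or] at this
      exact Nat.eq_of_beq_eq_true this
    have hb2 := (d.commute_x_iff hr2Q).1 (p.CZ_comm_x hr2M)
    have h := (d.fr.commute_Q p.xQ hr2Q).1 hc
    rw [← bn_mask2 hlt (d.fr.co_lt _ hr2Q) hb hb2, hco, (mask_move_aux _ hmask48).2] at h
    exact Bool.noConfusion h
  have hv0 : vOf m ≠ 0 := by
    rw [← s.mask_Q (mem_Ml.1 hm).1 am, em]
    intro h
    rw [h] at hmask48
    simp at hmask48
  have hmv := List.all_eq_true.1 moving_aux m hm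
  simp only [am, Nat.beq_refl, Bool.not_true, Bool.false_or, Bool.or_eq_true, Nat.beq_eq, hv0,
    false_or, List.any_eq_true] at hmv
  obtain ⟨k, hk, e, he, hke⟩ := hmv
  refine ⟨t, phi gen z x k, ht, htn, htx, htv, mem_cent_two.2 ⟨p.gw, p.gv⟩, hx1M, hr2M, ?_,
    p.mem_CZ.2 ⟨k, hk, rfl⟩, ?_⟩
  · intro hc
    refine hnc ?_
    have hcm : x1⁻¹ * (t * x1 * t⁻¹)⁻¹ * x1 * (t * x1 * t⁻¹) ∈ Subgroup.closure ({w, v} : Set G) := by
      have h := (bar_eq (mul_mem (p.CZ_le_CV hr2M) (p.CZ_le_CV hx1M))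
        (mul_mem (p.CZ_le_CV hx1M) (p.CZ_le_CV hr2M))).1
        (by rw [bar_mul (p.CZ_le_CV hr2M) (p.CZ_le_CV hx1M), bar_mul (p.CZ_le_CV hx1M) (p.CZ_le_CV hr2M), hc.eq])
      simpa [mul_assoc] using h
    have h1 := p.V_inf_Q hcm (mul_mem (mul_mem (mul_mem (inv_mem p.xQ) (inv_mem hr2Q)) p.xQ) hr2Q)
    show x1 * (t * x1 * t⁻¹) = t * x1 * t⁻¹ * x1
    calc x1 * (t * x1 * t⁻¹)
        = t * x1 * t⁻¹ * x1 * (x1⁻¹ * (t * x1 * t⁻¹)⁻¹ * x1 * (t * x1 * t⁻¹)) := by group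
      _ = _ := by rw [h1, mul_one]
  · have he4 : e < 4 := by
      simp only [List.mem_cons, List.not_mem_nil, or_false] at he
      rcases he with rfl | rfl <;> norm_num
    obtain ⟨h1, h2, h3⟩ := low_zero_aux e he4
    have hp : phi gen z x (e <<< 8) = ee2 z x e := by
      rw [s.phi_low h1, h2, h3, phi_zero d s.gens, one_mul]
    have hkk : phi gen z x k * x1 = ee2 z x e * (x1 * phi gen z x k) := by
      rw [← em, s.mul, s.mul, ← hp, s.mul, hke]
    rw [hkk]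
    simp only [List.mem_cons, List.not_mem_nil, or_false] at he
    rcases he with rfl | rfl
    · refine Or.inl ?_
      rw [show ee2 z x 1 = x from by simp [ee2, Nat.testBit, ee, pw], hx1]
      group
    · refine Or.inr ?_
      rw [show ee2 z x 3 = x * z from by simp [ee2, Nat.testBit, ee, pw], hx1]
      group

end Pack

end Cfsg.Agent.Lib.SuzSeven52
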