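import Cfsg.Agent.Lib.SuzSeven52.Local

/-!
# Suzuki type: an element of order three permuting `z, x, xz` and its centraliser

With `q ∈ Q` moving `x`, the product `(n q n⁻¹) q` of two involutions permutes `z, x, x z` and is
inverted by `q`; a power `g` of it has order three and no fixed point in the coded subgroup, so every
pair of reflections of the small space has a unique lift commuting with `g`, and it commutes with `q`.

Owner: helper52.
-/

set_option autoImplicit false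
set_option maxRecDepth 100000

namespace Cfsg.Agent.Lib.SuzSeven52

open Cfsg.Agent.Lib.SuzType52

theorem exp_four_aux : ∀ m < 1024, mu (mu m m) (mu m m) = 0 := by decide +kernel

theorem centre_pairs : ∀ j ∈ [4, 8, 16, 32], ∀ y ∈ v4,
    (∀ p ∈ pairs4, pr p j = j → pr p y = y) → y = 0 ∨ y = j := by decide +kernel

theorem pr_two : ∀ p ∈ pairs4, pr p 2 = 2 := by decide +kernel

variable {G : Type*} [Group G] {z : G} {Q : Subgroup G} {co : G → ℕ} {ac : G → ℕ → ℕ} {x n : G}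
  {gen : ℕ → G}

/-- Membership of the coded subgroup. -/
def InU (gen : ℕ → G) (z x g : G) : Prop := ∃ m < 1024, phi gen z x m = g

/-- An element of order three permuting `z, x, x z` and an element of `Q` inverting it. -/
structure Tri (z : G) (Q : Subgroup G) (co : G → ℕ) (ac : G → ℕ → ℕ) (x n : G) (gen : ℕ → G)
    (g q : G) : Prop where
  std : Std z Q co ac x n gen
  qQ : q ∈ Q
  qco : co q = 2
  g3 : g ^ 3 = 1
  gz : g * z * g⁻¹ = x
  gx : g * x * g⁻¹ = z * x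
  qg : q * g * q⁻¹ = g⁻¹
  fixed : ∀ u, InU gen z x u → Commute u g → u = 1
  centr : ∀ c, Commute c z → Commute c x → InU gen z x (g * c * g⁻¹ * c⁻¹)

namespace Std

variable (s : Std z Q co ac x n gen)
include s

theorem inU_mul {a b : G} (ha : InU gen z x a) (hb : InU gen z x b) : InU gen z x (a * b) := by
  obtain ⟨m, hm, rfl⟩ := ha
  obtain ⟨m', hm', rfl⟩ := hb
  exact ⟨_, mu_lt hm hm', (s.mul m m').symm⟩

theorem inU_inv {a : G} (ha : InU gen z x a) : InU gen z x a⁻¹ := by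
  obtain ⟨m, hm, rfl⟩ := ha
  refine ⟨invc m, (inv_code_spec m hm).1, eq_inv_of_mul_eq_one_right ?_⟩
  rw [s.mul, (inv_code_spec m hm).2.1, phi_zero s.duo s.gens]

theorem inU_comm {a : G} (ha : InU gen z x a) : Commute a z ∧ Commute a x := by
  obtain ⟨m, hm, rfl⟩ := ha
  exact phi_comm s.duo s.gens hm

theorem inU_B {u : G} (hu : InB Q n z u) : InU gen z x u := by
  obtain ⟨a, ha, h⟩ := s.duo.exists_act hu
  obtain ⟨m, hm, e, -⟩ := exists_code s.duo s.gens hu.2 (s.duo.B_comm hu).1 ha h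
  exact ⟨m, hm, e⟩

theorem inU_Q {r : G} (hr : r ∈ Q) (hx : Commute r x) : InU gen z x r := by
  obtain ⟨m, hm, e, -⟩ := exists_code s.duo s.gens (s.duo.fr.es.comm r hr) hx (a := 0) (by decide)
    fun k hk => by rw [s.duo.fr.ac_Q hr hk, eich_zero hk]
  exact ⟨m, hm, e⟩

theorem inU_ee (i j : Bool) : InU gen z x (ee z x i j) :=
  s.inU_Q (s.duo.ee_mem i j)
    (s.duo.ee_comm (Commute.refl x) s.duo.xz i j).symm

theorem inU_split {g : G} (hg : InU gen z x g) :
    ∃ u r, InB Q n z u ∧ InA Q co r ∧ g = u * r := by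
  obtain ⟨m, hm, rfl⟩ := hg
  obtain ⟨u, r, h1, -, h3, -, h5, -, -⟩ := phi_split s.duo s.gens hm
  exact ⟨u, r, h1, h3, h5⟩

theorem inU_conjH {c g : G} (hz : Commute c z) (hx : Commute c x) (hg : InU gen z x g) :
    InU gen z x (c * g * c⁻¹) := by
  obtain ⟨u, r, hu, hr, rfl⟩ := s.inU_split hg
  rw [show c * (u * r) * c⁻¹ = c * u * c⁻¹ * (c * r * c⁻¹) by group]
  exact s.inU_mul (s.inU_B ⟨s.duo.P_conj hx hu.1, (hz.mul_left hu.2).mul_left hz.inv_left⟩)
    (s.inU_Q (s.duo.fr.norm c hz r hr.1) ((hx.mul_left (s.duo.A_comm hr).1).mul_left hx.inv_left))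

theorem inU_conjQ {q g : G} (hq : q ∈ Q) (hg : InU gen z x g) : InU gen z x (q * g * q⁻¹) := by
  obtain ⟨m, hm, rfl⟩ := hg
  have d := s.duo
  obtain ⟨hz, hx⟩ := phi_comm d s.gens hm
  have hqz := d.fr.es.comm q hq
  have hzg : Commute (q * phi gen z x m * q⁻¹) z := (hqz.mul_left hz).mul_left hqz.inv_left
  have hxg : Commute (q * phi gen z x m * q⁻¹) x := by
    have h1 : Commute (phi gen z x m) (q⁻¹ * x * q) := by
      have e := d.fr.comm_Q (inv_mem hq) d.xQ
      rw [inv_inv] at e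
      rw [e]
      refine hx.mul_right ?_
      cases bn (co q⁻¹) (co x)
      · exact Commute.one_right _
      · exact hz
    have h2 := h1.map (MulAut.conj q).toMonoidHom
    simpa [mul_assoc] using h2
  obtain ⟨m', hm', e, -⟩ := exists_code d s.gens hzg hxg (aOf_mem m hm) fun k hk => by
    rw [d.fr.ac_mul (hqz.mul_left hz) hqz.inv_left hk, d.fr.ac_Q (inv_mem hq) hk,
      d.fr.ac_mul hqz hz hk, phi_act d s.gens hm k hk, d.fr.ac_Q hq (eich_lt (aOf_mem m hm) hk)]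
  exact ⟨m', hm', e⟩

theorem inU_conjN {g : G} (hg : InU gen z x g) : InU gen z x (n * g * n⁻¹) := by
  obtain ⟨u, r, hu, hr, rfl⟩ := s.inU_split hg
  rw [show n * (u * r) * n⁻¹ = n * u * n⁻¹ * (n * r * n⁻¹) by group]
  have h1 := s.duo.A_of_B hu
  exact s.inU_mul (s.inU_Q h1.1 (s.duo.A_comm h1).1) (s.inU_B (s.duo.B_of_A hr))

theorem inU_com {a b : G} (ha : InU gen z x a) (hb : InU gen z x b) :
    ∃ e, a * b * a⁻¹ * b⁻¹ = ee2 z x e := by
  obtain ⟨m, hm, rfl⟩ := ha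
  obtain ⟨m', hm', rfl⟩ := hb
  set c := mu (mu m m') (invc (mu m' m)) with hc
  refine ⟨c >>> 8, ?_⟩
  have hclt : c < 1024 := mu_lt (mu_lt hm hm') (inv_code_spec _ (mu_lt hm' hm)).1
  have e1 : phi gen z x m * phi gen z x m' * (phi gen z x m)⁻¹ * (phi gen z x m')⁻¹ = phi gen z x c := by
    have h2 : phi gen z x (invc (mu m' m)) = (phi gen z x (mu m' m))⁻¹ := eq_inv_of_mul_eq_one_right
      (by rw [s.mul, (inv_code_spec _ (mu_lt hm' hm)).2.1, phi_zero s.duo s.gens])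
    rw [hc, ← s.mul, h2, ← s.mul m m', ← s.mul m' m]
    group
  have hlow : c &&& 255 = 0 := by
    have hsh : ∀ y : ℕ, (y &&& 255) < 256 := fun y => Nat.lt_of_le_of_lt Nat.and_le_right (by norm_num)
    have key : ∀ a b : ℕ, a < 1024 → b < 1024 → mu a b &&& 255 = (a ^^^ b) &&& 255 := by
      intro a b _ _
      rw [mu, Nat.and_xor_distrib_right]
      have : (cocL idx a b <<< 8) &&& 255 = 0 := by
        refine Nat.eq_of_testBit_eq fun i => ?_
        rw [Nat.testBit_and, Nat.zero_testBit, show (255 : ℕ) = 2 ^ 8 - 1 from rfl,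
          Nat.testBit_two_pow_sub_one]
        by_cases h : i < 8
        · rw [testBit_shift _ _ h, Bool.false_and]
        · simp [h]
      rw [this, Nat.xor_zero]
    have hinv : ∀ a < 1024, invc a &&& 255 = a &&& 255 := by decide +kernel
    rw [hc, key _ _ (mu_lt hm hm') (inv_code_spec _ (mu_lt hm' hm)).1, Nat.and_xor_distrib_right,
      hinv _ (mu_lt hm' hm), key _ _ hm hm', key _ _ hm' hm, Nat.xor_comm m' m, Nat.xor_self]
  rw [e1, phi, prodL_congr (g' := 0) fun i hi => ?_]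
  · simp [prodL, idx, pw]
  · conv_lhs => rw [← low_code c hclt, hlow, Nat.zero_xor, testBit_shift _ _ (idx_lt i hi)]
    exact (Nat.zero_testBit i).symm

/-- The element of order three. -/
theorem exists_tri [Finite G] : ∃ g q, Tri z Q co ac x n gen g q := by
  have d := s.duo
  obtain ⟨q, hq, hqc⟩ := d.fr.co_surj 2 (by norm_num)
  have hqz := d.fr.es.comm q hq
  have hqq : q * q = 1 := by rw [d.fr.sq q hq, hqc]; rfl
  have hqx := d.xz_conj hq hqc
  set N := n * q * n⁻¹ with hN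
  set m := N * q with hm
  have hNN : N * N = 1 := by
    calc N * N = n * (q * q) * n⁻¹ := by rw [hN]; group
      _ = 1 := by rw [hqq]; group
  have hNz : N * z * N⁻¹ = z * x := by
    calc N * z * N⁻¹ = n * (q * (n⁻¹ * z * n) * q⁻¹) * n⁻¹ := by rw [hN]; group
      _ = n * (x * z) * n⁻¹ := by rw [d.nx', hqx]
      _ = (n * x * n⁻¹) * (n * z * n⁻¹) := by group
      _ = z * x := by rw [d.nx, d.nz]
  have hNx : N * x * N⁻¹ = x := by
    calc N * x * N⁻¹ = n * (q * (n⁻¹ * x * n) * q⁻¹) * n⁻¹ := by rw [hN]; group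
      _ = n * z * n⁻¹ := by rw [d.nz', mul_inv_eq_iff_eq_mul.2 hqz.eq]
      _ = x := d.nz
  have hmz : m * z * m⁻¹ = z * x := by
    calc m * z * m⁻¹ = N * (q * z * q⁻¹) * N⁻¹ := by rw [hm]; group
      _ = z * x := by rw [mul_inv_eq_iff_eq_mul.2 hqz.eq, hNz]
  have hmx : m * x * m⁻¹ = z := by
    calc m * x * m⁻¹ = N * (q * x * q⁻¹) * N⁻¹ := by rw [hm]; group
      _ = (N * x * N⁻¹) * (N * z * N⁻¹) := by rw [hqx]; group
      _ = z := by rw [hNx, hNz, ← mul_assoc, d.xz.eq, mul_assoc, d.xsq, mul_one]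
  -- the normalised subgroup and the commutators
  have hUm : ∀ {y}, InU gen z x y → InU gen z x (m * y * m⁻¹) := fun {y} hy => by
    rw [show m * y * m⁻¹ = n * (q * (n⁻¹ * (q * y * q⁻¹) * n) * q⁻¹) * n⁻¹ by rw [hm, hN]; group]
    refine s.inU_conjN (s.inU_conjQ hq ?_)
    have h2 := s.inU_conjN (s.inU_conjQ hq hy)
    have hnn : Commute (n * n)⁻¹ z ∧ Commute (n * n)⁻¹ x := by
      constructor <;> refine (Commute.inv_left (mul_inv_eq_iff_eq_mul.1 ?_))
      · calc n * n * z * (n * n)⁻¹ = n * (n * z * n⁻¹) * n⁻¹ := by group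
          _ = z := by rw [d.nz, d.nx]
      · calc n * n * x * (n * n)⁻¹ = n * (n * x * n⁻¹) * n⁻¹ := by group
          _ = x := by rw [d.nx, d.nz]
    rw [show n⁻¹ * (q * y * q⁻¹) * n = (n * n)⁻¹ * (n * (q * y * q⁻¹) * n⁻¹) * ((n * n)⁻¹)⁻¹ by group]
    exact s.inU_conjH hnn.1 hnn.2 h2
  have hqc' : ∀ c, Commute c z → Commute c x → InU gen z x (q * c * q⁻¹ * c⁻¹) := by
    intro c hcz hcx
    have hmem : q * c * q⁻¹ * c⁻¹ ∈ Q := by
      rw [show q * c * q⁻¹ * c⁻¹ = q * (c * q⁻¹ * c⁻¹) by group]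
      exact mul_mem hq (d.fr.norm c hcz _ (inv_mem hq))
    refine s.inU_Q hmem ?_
    have h1 : Commute c (q⁻¹ * x * q) := by
      have e : q⁻¹ * x * q = x * z := by
        calc q⁻¹ * x * q = q⁻¹ * (x * z * z) * q := by rw [mul_assoc x, d.fr.es.sq, mul_one]
          _ = q⁻¹ * (q * x * q⁻¹ * z) * q := by rw [hqx]
          _ = x * (q⁻¹ * z * q) := by group
          _ = x * z := by rw [mul_assoc q⁻¹, ← hqz.eq, inv_mul_cancel_left]
      rw [e]
      exact hcx.mul_right hcz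
    have h2 : Commute (q * c * q⁻¹) x := by simpa [mul_assoc] using h1.map (MulAut.conj q).toMonoidHom
    exact h2.mul_left hcx.inv_left
  have hmc : ∀ c, Commute c z → Commute c x → InU gen z x (m * c * m⁻¹ * c⁻¹) := by
    intro c hcz hcx
    have hc' : Commute (n⁻¹ * c * n) z ∧ Commute (n⁻¹ * c * n) x := by
      constructor
      · have := hcx.map (MulAut.conj n⁻¹).toMonoidHom
        simpa [d.nz'] using this
      · have := hcz.map (MulAut.conj n⁻¹).toMonoidHom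
        simpa [d.nx'] using this
    have h1 : InU gen z x (N * c * N⁻¹ * c⁻¹) := by
      rw [show N * c * N⁻¹ * c⁻¹ =
        n * (q * (n⁻¹ * c * n) * q⁻¹ * (n⁻¹ * c * n)⁻¹) * n⁻¹ by rw [hN]; group]
      exact s.inU_conjN (hqc' _ hc'.1 hc'.2)
    rw [show m * c * m⁻¹ * c⁻¹ = m * (c * (q⁻¹ * c⁻¹ * q)) * m⁻¹ * (N * c * N⁻¹ * c⁻¹) by rw [hm]; group]
    refine s.inU_mul (hUm ?_) h1
    have e := s.inU_conjQ (inv_mem hq) (hqc' c hcz hcx)
    rwa [show q⁻¹ * (q * c * q⁻¹ * c⁻¹) * q⁻¹⁻¹ = c * (q⁻¹ * c⁻¹ * q) by group] at e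
  have hpowc : ∀ k : ℕ, ∀ c, Commute c z → Commute c x →
      InU gen z x (m ^ k * c * (m ^ k)⁻¹ * c⁻¹) := by
    intro k
    induction k with
    | zero => intro c _ _; simpa using s.inU_ee false false |> fun h => by rwa [d.ee_zero] at h
    | succ k ih =>
      intro c hcz hcx
      rw [pow_succ', show m * m ^ k * c * (m * m ^ k)⁻¹ * c⁻¹ =
        m * (m ^ k * c * (m ^ k)⁻¹ * c⁻¹) * m⁻¹ * (m * c * m⁻¹ * c⁻¹) by group]
      exact s.inU_mul (hUm (ih c hcz hcx)) (hmc c hcz hcx)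
  have hmxz : m * (z * x) * m⁻¹ = x := by
    calc m * (z * x) * m⁻¹ = (m * z * m⁻¹) * (m * x * m⁻¹) := by group
      _ = x := by rw [hmz, hmx, ← d.xz.eq, mul_assoc, d.fr.es.sq, mul_one]
  have h3z : Commute (m ^ 3) z := mul_inv_eq_iff_eq_mul.1 (by
    calc m ^ 3 * z * (m ^ 3)⁻¹ = m * (m * (m * z * m⁻¹) * m⁻¹) * m⁻¹ := by
          simp only [pow_succ, pow_zero, one_mul, mul_inv_rev, mul_assoc]
      _ = z := by rw [hmz, hmxz, hmx])
  have h3x : Commute (m ^ 3) x := mul_inv_eq_iff_eq_mul.1 (by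
    calc m ^ 3 * x * (m ^ 3)⁻¹ = m * (m * (m * x * m⁻¹) * m⁻¹) * m⁻¹ := by
          simp only [pow_succ, pow_zero, one_mul, mul_inv_rev, mul_assoc]
      _ = x := by rw [hmx, hmz, hmxz])
  have h3U : InU gen z x (m ^ 3) := by
    have hf := d.fr.iso h3z
    have h1 : ac (m ^ 3) 1 = 1 := by
      rw [← d.cox, ← d.fr.conj _ h3z x d.xQ, mul_inv_eq_iff_eq_mul.2 h3x.eq]
    obtain ⟨a, ha, hk⟩ := hf.eich_of_basis h1 fun j hj => by
      have hj' : j < 64 ∧ b1 j = false ∧ j ∈ v4 ∧ j ≠ 0 ∧ j &&& 60 = j := by revert j; decide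
      set f := ac (m ^ 3) with hfdef
      have hb : b1 (f j) = false := (hf.b1_eq' h1 hj'.1).trans hj'.2.1
      have hy := mem_v4 (hf.lt j hj'.1)
      rcases centre_pairs j hj _ hy (fun p hp hpj => by
        obtain ⟨c, hc, hcx, hck⟩ := d.exists_prE hp
        obtain ⟨u, hu, e⟩ := hpowc 3 c hc hcx
        have hz' : Commute (m ^ 3 * c) z := h3z.mul_left hc
        have e1 : ac (phi gen z x u * c) j = ac (m ^ 3 * c * (m ^ 3)⁻¹) j := by
          rw [e]; congr 1; group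
        have e2 : ac (m ^ 3 * c * (m ^ 3)⁻¹) (f j) = f (pr p j) := by
          rw [d.fr.ac_mul hz' h3z.inv_left (hf.lt j hj'.1), d.fr.ac_inv h3z hj'.1,
            d.fr.ac_mul h3z hc hj'.1, hck j hj'.1]
        rw [hpj] at e2
        have e3 : ac (phi gen z x u * c) (f j) = f j := by
          rw [← e2, e]; congr 1; group
        rw [d.fr.ac_mul (phi_comm d s.gens hu).1 hc (hf.lt j hj'.1), hck _ (hf.lt j hj'.1),
          phi_act d s.gens hu _ (d.fr.ac_lt hc (hf.lt j hj'.1) |> fun h => by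
            rwa [hck _ (hf.lt j hj'.1)] at h)] at e3
        obtain ⟨q1, q2, q3, q4⟩ := pr_spec hp (hf.lt j hj'.1)
        have e4 : eich (aOf u) (pr p (f j)) &&& 60 = pr p (f j) &&& 60 := by
          rw [eich_trivial (aOf_mem u hu) q1 (q3.trans hb)]
          cases bn (aOf u) (pr p (f j))
          · rfl
          · rw [cond_true, xor_mask]; exact Nat.xor_zero _
        rw [e3, q4] at e4
        exact e4.symm) with e | e
      · exfalso
        rcases mask_cases (hf.lt j hj'.1) hb with g | g <;> rw [e] at g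
        · refine hj'.2.2.2.1 ?_
          rw [← d.fr.ac_inv h3z hj'.1, ← hfdef, g, (d.fr.iso h3z.inv_left).zero]
        · have : j = 1 := by
            rw [← d.fr.ac_inv h3z hj'.1, ← hfdef, g, Nat.zero_xor]
            conv_lhs => rw [← h1, hfdef]
            exact d.fr.ac_inv h3z (by norm_num)
          subst this
          simp at hj
      · exact e
    obtain ⟨c, hc, e, -⟩ := exists_code d s.gens h3z h3x ha hk
    exact ⟨c, hc, e⟩
  have h12 : m ^ 12 = 1 := by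
    obtain ⟨u, hu, e⟩ := h3U
    rw [show m ^ 12 = m ^ 3 * m ^ 3 * (m ^ 3 * m ^ 3) by simp only [← pow_add], ← e, s.mul, s.mul,
      exp_four_aux u hu, phi_zero d s.gens]
  refine ⟨m ^ 8, q, s, hq, hqc, ?_, ?_, ?_, ?_, ?_, hpowc 8⟩
  · rw [← pow_mul, show 8 * 3 = 12 * 2 from rfl, pow_mul, h12, one_pow]
  · have e6 : Commute (m ^ 6) z := by
      rw [show m ^ 6 = m ^ 3 * m ^ 3 by rw [← pow_add]]
      exact h3z.mul_left h3z
    calc m ^ 8 * z * (m ^ 8)⁻¹ = m * (m * (m ^ 6 * z * (m ^ 6)⁻¹) * m⁻¹) * m⁻¹ := by group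
      _ = x := by rw [mul_inv_eq_iff_eq_mul.2 e6.eq, hmz, hmxz]
  · have e6 : Commute (m ^ 6) x := by
      rw [show m ^ 6 = m ^ 3 * m ^ 3 by rw [← pow_add]]
      exact h3x.mul_left h3x
    calc m ^ 8 * x * (m ^ 8)⁻¹ = m * (m * (m ^ 6 * x * (m ^ 6)⁻¹) * m⁻¹) * m⁻¹ := by group
      _ = z * x := by rw [mul_inv_eq_iff_eq_mul.2 e6.eq, hmx, hmz]
  · have hqm : q * m * q⁻¹ = m⁻¹ := by
      rw [hm, mul_inv_rev, inv_eq_of_mul_eq_one_right hNN, inv_eq_of_mul_eq_one_right hqq,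
        mul_assoc q, mul_assoc N, hqq, mul_one]
    rw [← conj_pow, hqm, inv_pow]
  · intro u hu hcomm
    have h9 : InU gen z x (m ^ 9) := by
      rw [show m ^ 9 = m ^ 3 * (m ^ 3 * m ^ 3) by simp only [← pow_add]]
      exact s.inU_mul h3U (s.inU_mul h3U h3U)
    obtain ⟨e, he⟩ := s.inU_com h9 hu
    have hmu : m * u * m⁻¹ = ee2 z x e * u := by
      rw [← he]
      calc m * u * m⁻¹ = m ^ 9 * ((m ^ 8)⁻¹ * u * m ^ 8) * (m ^ 9)⁻¹ := by group
        _ = m ^ 9 * u * (m ^ 9)⁻¹ * u⁻¹ * u := by rw [mul_assoc (m ^ 8)⁻¹, hcomm.eq]; group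
    -- the part in `P`
    obtain ⟨c, hclt, hcu⟩ := hu
    obtain ⟨l, r, hl, hla, hr, hrv, hlr, hl', hr'⟩ := phi_split d s.gens hclt
    rw [hcu] at hlr
    set k := q * u * q⁻¹ * u⁻¹ with hk
    have hkQ : k ∈ Q := by
      rw [hk, show q * u * q⁻¹ * u⁻¹ = q * (u * q⁻¹ * u⁻¹) by group]
      exact mul_mem hq (d.fr.norm u (hcu ▸ (phi_comm d s.gens hclt).1) _ (inv_mem hq))
    have heQ : ee2 z x e ∈ Q := d.ee_mem _ _
    have hnk : n⁻¹ * k * n ∈ Q := by
      have h1 : n⁻¹ * k * n = n⁻¹ * (N⁻¹ * ee2 z x e * N) * n * (n⁻¹ * (N⁻¹ * u * N * u⁻¹) * n) := by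
        have : q * u * q⁻¹ = N⁻¹ * (ee2 z x e * u) * N := by rw [← hmu, hm]; group
        rw [hk, this]; group
      rw [h1, show N⁻¹ = N from inv_eq_of_mul_eq_one_right hNN]
      refine mul_mem ?_ ?_
      · rw [show n⁻¹ * (N * ee2 z x e * N) * n = q * (n⁻¹ * ee2 z x e * n) * (n⁻¹ * N * n) by
          rw [hN]; group, show n⁻¹ * N * n = q by rw [hN]; group]
        exact mul_mem (mul_mem hq (d.ee_inB _ _).1) hq
      · rw [show n⁻¹ * (N * u * N * u⁻¹) * n =
          q * ((n⁻¹ * u * n) * (n⁻¹ * N * n) * (n⁻¹ * u * n)⁻¹) by rw [hN]; group,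
          show n⁻¹ * N * n = q by rw [hN]; group]
        refine mul_mem hq (d.fr.norm _ ?_ q hq)
        have := (hcu ▸ (phi_comm d s.gens hclt).2).map (MulAut.conj n⁻¹).toMonoidHom
        simpa [d.nz'] using this
    obtain ⟨i, j, hij⟩ := d.inter hkQ hnk
    have ha0 : aOf c = 0 := by
      have hco : co k &&& 60 = aOf c := by
        have hlt := aOf_mem c hclt
        have e1 : k = q * (u * q⁻¹ * u⁻¹) := by rw [hk]; group
        have huz : Commute u z := hcu ▸ (phi_comm d s.gens hclt).1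
        rw [e1, d.fr.co_mul q hq _ (d.fr.norm u huz _ (inv_mem hq)),
          d.fr.conj u huz _ (inv_mem hq), d.fr.co_inv hq, hqc, ← hcu,
          phi_act d s.gens hclt 2 (by norm_num), Nat.xor_comm]
        exact (eich_two _ hlt).2.1
      rw [hij, d.co_ee] at hco
      rw [← hco]
      cases i <;> rfl
    have hl1 : l = 1 := by
      rw [hl']
      have key : ∀ m < 1024, aOf m = 0 → ∀ i ∈ [0, 1, 2, 3], m.testBit i = false := by decide +kernel
      have hb := key c hclt ha0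
      simp [prodL, pw, hb 0 (by simp), hb 1 (by simp), hb 2 (by simp), hb 3 (by simp)]
    rw [hl1, one_mul] at hlr
    subst hlr
    -- the part in `Q`
    set X := n⁻¹ * u * n with hX
    have hXB : InB Q n z X := by
      have h1 := d.B_of_A hr
      have hnn : Commute (n * n)⁻¹ z ∧ Commute (n * n)⁻¹ x := by
        constructor <;> refine (Commute.inv_left (mul_inv_eq_iff_eq_mul.1 ?_))
        · calc n * n * z * (n * n)⁻¹ = n * (n * z * n⁻¹) * n⁻¹ := by group
            _ = z := by rw [d.nz, d.nx]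
        · calc n * n * x * (n * n)⁻¹ = n * (n * x * n⁻¹) * n⁻¹ := by group
            _ = x := by rw [d.nx, d.nz]
      rw [hX, show n⁻¹ * u * n = (n * n)⁻¹ * (n * u * n⁻¹) * ((n * n)⁻¹)⁻¹ by group]
      exact ⟨d.P_conj hnn.2 h1.1, (hnn.1.mul_left h1.2).mul_left hnn.1.inv_left⟩
    obtain ⟨a, ha, hXa⟩ := d.exists_act hXB
    have hk2 : co (q * X * q⁻¹ * X⁻¹) &&& 60 = a := by
      rw [show q * X * q⁻¹ * X⁻¹ = q * (X * q⁻¹ * X⁻¹) by group,
        d.fr.co_mul q hq _ (d.fr.norm X hXB.2 _ (inv_mem hq)),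
        d.fr.conj X hXB.2 _ (inv_mem hq), d.fr.co_inv hq, hqc, hXa 2 (by norm_num), Nat.xor_comm]
      exact (eich_two _ ha).2.1
    have hzN : ∀ i j, ∃ i' j', N * ee z x i j * N⁻¹ = ee z x i' j' := fun i j => by
      have e : ∀ b c : Bool, N * ee z x b c * N⁻¹ = pw x b * pw (z * x) c := fun b c => by
        cases b <;> cases c <;> simp [ee, pw, hNx, hNz, mul_assoc] <;>
          rw [← mul_assoc N x, mul_inv_eq_iff_eq_mul.1 hNx, mul_assoc x, ← mul_assoc N z,
            mul_inv_eq_iff_eq_mul.1 hNz] <;> group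
      refine ⟨Bool.xor i j, j, (e i j).trans ?_⟩
      cases i <;> cases j <;> simp [ee, pw, d.xz.eq] <;> rw [← mul_assoc, d.xz.eq, mul_assoc, d.xsq, mul_one]
    have hNu : ∃ i j, N * u * N⁻¹ * u⁻¹ = ee z x i j := by
      obtain ⟨i₁, j₁, e₁⟩ := hzN false (bn 2 (co u))
      refine ⟨Bool.xor (e.testBit 0) i₁, Bool.xor (e.testBit 1) j₁, ?_⟩
      have hqu : q * u * q⁻¹ = u * ee z x false (bn 2 (co u)) := by
        rw [d.fr.comm_Q hq hr.1, hqc]
        exact congrArg (u * ·) (one_mul _).symm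
      have h2 : ee2 z x e * u = N * u * N⁻¹ * (N * ee z x false (bn 2 (co u)) * N⁻¹) := by
        rw [← hmu, hm, show N * q * u * (N * q)⁻¹ = N * (q * u * q⁻¹) * N⁻¹ by group, hqu]
        group
      rw [e₁] at h2
      have h3 := eq_mul_inv_of_mul_eq h2.symm
      rw [inv_eq_of_mul_eq_one_right (d.ee_sq i₁ j₁)] at h3
      rw [h3, mul_assoc (ee2 z x e), (d.ee_comm (d.A_comm hr).1 (d.A_comm hr).2 i₁ j₁).eq,
        ← mul_assoc (ee2 z x e), mul_inv_cancel_right, ee2, d.ee_mul]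
    obtain ⟨i', j', hij'⟩ := hNu
    have hX0 : a = 0 := by
      obtain ⟨i₂, j₂, e₂⟩ : ∃ i₂ j₂, n⁻¹ * ee z x i' j' * n = ee z x i₂ j₂ :=
        ⟨j', i', by
          cases i' <;> cases j' <;> simp [ee, pw, d.nx', d.nz']
          calc n⁻¹ * (x * z) * n = n⁻¹ * x * n * (n⁻¹ * z * n) := by group
            _ = x * z := by rw [d.nz', d.nx', d.xz.eq]⟩
      have e3 : q * X * q⁻¹ * X⁻¹ = ee z x i₂ j₂ := by
        rw [← e₂, ← hij', hX, hN]; group
      rw [← hk2, e3, d.co_ee]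
      cases i₂ <;> rfl
    obtain ⟨i₃, j₃, e₃⟩ := d.act_zero hXB (hX0 ▸ hXa)
    have hu : u = ee z x j₃ i₃ := by
      have : n * X * n⁻¹ = u := by rw [hX]; group
      rw [← this, e₃]
      cases i₃ <;> cases j₃ <;> simp [ee, pw, d.nx, d.nz]
      calc n * (x * z) * n⁻¹ = n * x * n⁻¹ * (n * z * n⁻¹) := by group
        _ = x * z := by rw [d.nx, d.nz, d.xz.eq]
    rw [hu] at hcomm
    have hg : m ^ 8 * ee z x j₃ i₃ * (m ^ 8)⁻¹ = ee z x j₃ i₃ :=
      mul_inv_eq_iff_eq_mul.2 hcomm.symm.eq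
    have e6 : Commute (m ^ 6) z ∧ Commute (m ^ 6) x := by
      rw [show m ^ 6 = m ^ 3 * m ^ 3 by rw [← pow_add]]
      exact ⟨h3z.mul_left h3z, h3x.mul_left h3x⟩
    have gz : m ^ 8 * z * (m ^ 8)⁻¹ = x := by
      calc m ^ 8 * z * (m ^ 8)⁻¹ = m * (m * (m ^ 6 * z * (m ^ 6)⁻¹) * m⁻¹) * m⁻¹ := by group
        _ = x := by rw [mul_inv_eq_iff_eq_mul.2 e6.1.eq, hmz, hmxz]
    have gx : m ^ 8 * x * (m ^ 8)⁻¹ = z * x := by
      calc m ^ 8 * x * (m ^ 8)⁻¹ = m * (m * (m ^ 6 * x * (m ^ 6)⁻¹) * m⁻¹) * m⁻¹ := by group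
        _ = z * x := by rw [mul_inv_eq_iff_eq_mul.2 e6.2.eq, hmx, hmz]
    rw [hu]
    cases i₃ <;> cases j₃
    · exact d.ee_zero
    · exfalso
      simp only [ee, pw, cond_false, cond_true, mul_one] at hg
      rw [gx] at hg
      exact d.fr.es.ne (mul_eq_right.1 hg)
    · exfalso
      simp only [ee, pw, cond_false, cond_true, one_mul] at hg
      rw [gz] at hg
      exact d.x_ne.2 hg
    · exfalso
      simp only [ee, pw, cond_true] at hg
      rw [show m ^ 8 * (x * z) * (m ^ 8)⁻¹ = m ^ 8 * x * (m ^ 8)⁻¹ * (m ^ 8 * z * (m ^ 8)⁻¹) by group,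
        gx, gz, mul_assoc, d.xsq, mul_one] at hg
      exact d.x_ne.1 (right_eq_mul.1 hg)

end Std

end Cfsg.Agent.Lib.SuzSeven52
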