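import Cfsg.Agent.Lib.SuzSeven52.Range
import Cfsg.Agent.Lib.SuzSeven52.Checks

/-!
# Suzuki type: `C(z) ∩ C(w)` for the standard involution `w` outside the class of `z`

Owner: helper52.
-/

set_option autoImplicit false

namespace Cfsg.Agent.Lib.SuzSeven52

open Cfsg.Agent.Lib.SuzType52

variable {G : Type*} [Group G]

/-- A duo with chosen lifts. -/
structure Std (z : G) (Q : Subgroup G) (co : G → ℕ) (ac : G → ℕ → ℕ) (x n : G) (gen : ℕ → G) :
    Prop where
  duo : Duo z Q co ac x n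
  gens : Gens Q co ac n z gen

theorem Std.exists {z : G} {Q : Subgroup G} {co : G → ℕ} {ac : G → ℕ → ℕ} {x n : G}
    (d : Duo z Q co ac x n) : ∃ gen, Std z Q co ac x n gen :=
  (exists_gens d).imp fun _ h => ⟨d, h⟩

namespace Std

variable {z : G} {Q : Subgroup G} {co : G → ℕ} {ac : G → ℕ → ℕ} {x n : G} {gen : ℕ → G}
  (s : Std z Q co ac x n gen)
include s

theorem mul (m m' : ℕ) : phi gen z x m * phi gen z x m' = phi gen z x (mu m m') :=
  phi_mul s.duo s.gens m m'

theorem commute_codes {m m' : ℕ} (h : mu m m' = mu m' m) :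
    Commute (phi gen z x m) (phi gen z x m') := by
  show _ * _ = _ * _
  rw [s.mul, s.mul, h]

theorem eq_of_commute {m m' : ℕ} (hm : m < 1024) (hm' : m' < 1024)
    (h : Commute (phi gen z x m) (phi gen z x m')) : mu m m' = mu m' m :=
  phi_inj s.duo s.gens (mu_lt hm hm') (mu_lt hm' hm) (by rw [← s.mul, ← s.mul, h.eq])

theorem sq_one {m : ℕ} (h : mu m m = 0) : phi gen z x m * phi gen z x m = 1 := by
  rw [s.mul, h, phi_zero s.duo s.gens]

theorem sq_eq_zero {m : ℕ} (hm : m < 1024) (h : phi gen z x m * phi gen z x m = 1) : mu m m = 0 :=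
  phi_ne_one s.duo s.gens (mu_lt hm hm) (by rw [← s.mul, h])

/-- The standard involution. -/
theorem w_form : Form Q co ac n z (phi gen z x wc) 16 32 := by
  have := phi_form s.duo s.gens wc_spec.1
  rwa [wc_spec.2.1, wc_spec.2.2.1] at this

theorem w_sq : phi gen z x wc * phi gen z x wc = 1 := s.sq_one wc_spec.2.2.2

theorem w_comm : Commute (phi gen z x wc) z ∧ Commute (phi gen z x wc) x :=
  phi_comm s.duo s.gens wc_spec.1

/-- A code acts as its type. -/
theorem isConj_iff [Finite G] {m : ℕ} (hm : m < 1024) (h2 : mu m m = 0) (h0 : m ≠ 0) :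
    IsConj z (phi gen z x m) ↔ qn (aOf m) = false :=
  isConj_iff_eich s.duo (phi_comm s.duo s.gens hm).1 (s.sq_one h2)
    (fun e => h0 (phi_ne_one s.duo s.gens hm e)) (aOf_mem m hm) (phi_act s.duo s.gens hm)

theorem bt_of_code [Finite G] {m : ℕ} (hm : m < 1024) (h2 : mu m m = 0)
    (hq : qn (aOf m) = true) : BT z (phi gen z x m) := by
  have h0 : m ≠ 0 := fun e => by rw [e] at hq; exact absurd hq (by decide)
  refine ⟨orderOf_two (s.sq_one h2) fun e => h0 (phi_ne_one s.duo s.gens hm e), fun hc => ?_⟩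
  rw [(s.isConj_iff hm h2 h0).1 hc] at hq
  exact Bool.noConfusion hq

theorem w_bt [Finite G] : BT z (phi gen z x wc) :=
  s.bt_of_code wc_spec.1 wc_spec.2.2.2 (by rw [wc_spec.2.1]; decide)

theorem exists_code_w {g : G} {a : ℕ} (hz : Commute g z) (hx : Commute g x)
    (hw : Commute g (phi gen z x wc)) (ha : a ∈ v4) (hg : Act ac g a) :
    ∃ m ∈ Ml, phi gen z x m = g := by
  obtain ⟨m, hm, e, -⟩ := exists_code s.duo s.gens hz hx ha hg
  exact ⟨m, mem_Ml.2 ⟨hm, s.eq_of_commute hm wc_spec.1 (e ▸ hw)⟩, e⟩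

/-- The two kinds of elements commuting with `z` and `w`. -/
theorem cases_T {g : G} (hz : Commute g z) (hw : Commute g (phi gen z x wc)) :
    (∃ m ∈ Ml, phi gen z x m = g) ∨
      (g * x * g⁻¹ = x * z ∧ ∃ a ∈ v4, ∀ k < 64, ac g k = wn 3 a k) := by
  have d := s.duo
  obtain ⟨i, hi, a, ha, hk⟩ := d.ac_of_commute s.w_form hz hw
  have hcox : co (g * x * g⁻¹) = 1 := by
    rw [d.fr.conj g hz x d.xQ, d.cox, hk 1 (by norm_num)]
    exact Nat.eq_of_beq_eq_true (List.all_eq_true.1 (List.all_eq_true.1 wn_one_aux i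
      (List.mem_range.2 hi)) a ha)
  have hxcase : g * x * g⁻¹ = x ∨ g * x * g⁻¹ = x * z :=
    d.fr.co_eq d.xQ (d.fr.norm g hz x d.xQ) (by rw [d.cox, hcox])
  have h16 : (16 : ℕ) ∈ v4 := by decide
  obtain ⟨u₀, r₀, hu₀, hua₀, hr₀, hrv₀, hw₀⟩ := s.w_form
  interval_cases i
  · -- no twist
    rcases hxcase with e | e
    · refine Or.inl (s.exists_code_w hz (mul_inv_eq_iff_eq_mul.1 e) hw ha fun k hk' => ?_)
      rw [hk k hk', wn, (tw_refl _ (eich_lt ha hk')).2.2]
    · exfalso
      obtain ⟨hlt, hA, -, -⟩ := enc4_spec a ha 0 (by decide) 0 (by norm_num)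
      set u := phi gen z x (enc4 a 0 0) with hu
      have huc := phi_comm d s.gens hlt
      have hua : Act ac u a := by
        have := phi_act d s.gens hlt
        rwa [hA] at this
      set r := u⁻¹ * g with hr
      have hrQ : r ∈ Q := d.fr.faithful r (huc.1.inv_left.mul_left hz) fun k hk' => by
        rw [d.fr.ac_mul huc.1.inv_left hz hk', hk k hk', wn, (tw_refl _ (eich_lt ha hk')).2.2,
          ← hua k hk', d.fr.ac_inv huc.1 hk']
      have hrb : b1 (co r) = true := by
        cases h : b1 (co r) with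
        | true => rfl
        | false =>
          exfalso
          have h1 : Commute g x := by
            have := (huc.2.mul_left ((d.commute_x_iff hrQ).2 h))
            rwa [hr, mul_inv_cancel_left] at this
          rw [h1.eq, mul_inv_cancel_right] at e
          exact d.fr.es.ne (left_eq_mul.1 e)
      -- the conjugate of `w` by `r`
      set c := mu (mu (invc (enc4 a 0 0)) wc) (enc4 a 0 0) with hc
      have hclt : c < 1024 := mu_lt (mu_lt (inv_code_spec _ hlt).1 wc_spec.1) hlt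
      have hui : phi gen z x (invc (enc4 a 0 0)) = u⁻¹ := by
        refine (inv_eq_of_mul_eq_one_right ?_).symm
        rw [hu, s.mul, (inv_code_spec _ hlt).2.1, phi_zero d s.gens]
      have hrw : r * phi gen z x wc * r⁻¹ = phi gen z x c := by
        rw [hc, ← s.mul, ← s.mul, hui, hr, ← hu]
        calc u⁻¹ * g * phi gen z x wc * (u⁻¹ * g)⁻¹
            = u⁻¹ * (g * phi gen z x wc * g⁻¹) * u := by group
          _ = u⁻¹ * phi gen z x wc * u := by rw [mul_inv_eq_iff_eq_mul.2 hw.eq]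
      have hce : phi gen z x c = phi gen z x wc * ee2 z x (c >>> 8) := by
        have h8 : wc >>> 8 = 0 := by decide
        rw [phi, phi, h8, ee2_zero d, mul_one]
        congr 1
        refine prodL_congr fun i hi => ?_
        conv_lhs => rw [← low_code c hclt, hc, shift_aux a ha]
        rw [Nat.testBit_xor, testBit_shift _ _ (idx_lt i hi), Bool.xor_false]
      have hcom : r * (phi gen z x wc * r⁻¹ * (phi gen z x wc)⁻¹) =
          phi gen z x wc * ee2 z x (c >>> 8) * (phi gen z x wc)⁻¹ := by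
        rw [← hce, ← hrw]; group
      rw [ee2, (d.ee_comm s.w_comm.2 s.w_comm.1 _ _).eq, mul_inv_cancel_right] at hcom
      have hco := congrArg (fun y => co y &&& 60) hcom
      rw [d.fr.co_mul r hrQ _ (d.fr.norm _ s.w_comm.1 _ (inv_mem hrQ)),
        d.fr.conj _ s.w_comm.1 _ (inv_mem hrQ), d.fr.co_inv hrQ,
        (d.form_commute s.w_form).2 _ (d.fr.co_lt r hrQ), Nat.xor_comm,
        perp_aux _ (d.fr.co_lt r hrQ) hrb] at hco
      have hee : co (ee z x ((c >>> 8).testBit 0) ((c >>> 8).testBit 1)) &&& 60 = 0 := by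
        rw [d.co_ee]
        cases (c >>> 8).testBit 0 <;> rfl
      rw [hee] at hco
      exact absurd hco (by norm_num)
  · exfalso
    obtain ⟨e, he, hek⟩ := d.fr.exists_eich ha
    refine d.fr.not_refl (g * e) (hz.mul_left he) 16 (by norm_num) (by decide) fun k hk' => ?_
    rw [d.fr.ac_mul hz he hk', hek k hk', hk _ (eich_lt ha hk'), wn, eich_self ha hk',
      (tw_refl k hk').1]
  · exfalso
    obtain ⟨e, he, hek⟩ := d.fr.exists_eich ha
    refine d.fr.not_refl (g * e) (hz.mul_left he) 12 (by norm_num) (by decide) fun k hk' => ?_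
    rw [d.fr.ac_mul hz he hk', hek k hk', hk _ (eich_lt ha hk'), wn, eich_self ha hk',
      (tw_refl k hk').2.1]
  · refine Or.inr ⟨hxcase.resolve_left fun e => ?_, a, ha, hk⟩
    have hgx : Commute g x := mul_inv_eq_iff_eq_mul.1 e
    have hu' : InB Q n z (g * u₀ * g⁻¹) :=
      ⟨d.P_conj hgx hu₀.1, (hz.mul_left hu₀.2).mul_left hz.inv_left⟩
    have hr' := d.fr.norm g hz r₀ hr₀.1
    have hmask : ∀ j < 64, b1 j = false → wn 3 a j &&& 60 = tw 3 (j &&& 60) := fun j hj hb => by
      have := List.all_eq_true.1 (List.all_eq_true.1 tw_mask_aux a ha) j (List.mem_range.2 hj)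
      rw [hb, Bool.false_or] at this
      exact Nat.eq_of_beq_eq_true this
    have hb' : co (g * r₀ * g⁻¹) &&& 60 = 48 := by
      rw [d.fr.conj g hz r₀ hr₀.1, hk _ (d.fr.co_lt r₀ hr₀.1), hmask _ (d.fr.co_lt r₀ hr₀.1) hr₀.2,
        hrv₀]
      decide
    have e1 : u₀⁻¹ * (g * u₀ * g⁻¹) = r₀ * (g * r₀ * g⁻¹)⁻¹ := by
      have := mul_inv_eq_iff_eq_mul.2 hw.eq
      rw [hw₀, show g * (u₀ * r₀) * g⁻¹ = g * u₀ * g⁻¹ * (g * r₀ * g⁻¹) by group] at this
      rw [eq_mul_inv_iff_mul_eq, mul_assoc, this, inv_mul_cancel_left]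
    obtain ⟨i, j, hij⟩ := d.inter (u := r₀ * (g * r₀ * g⁻¹)⁻¹) (mul_mem hr₀.1 (inv_mem hr'))
      (e1 ▸ d.P_mul (d.P_inv hu₀.1) hu'.1)
    have hco := congrArg (fun y => co y &&& 60) hij
    rw [d.fr.co_mul _ hr₀.1 _ (inv_mem hr'), d.fr.co_inv hr', xor_mask, hrv₀, hb', d.co_ee] at hco
    cases i <;> exact absurd hco (by decide)

/-- An element moving `x` inside `C(z) ∩ C(w)`. -/
theorem exists_outer :
    ∃ t, Commute t z ∧ Commute t (phi gen z x wc) ∧ t * x * t⁻¹ = x * z := by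
  have d := s.duo
  have h16 : (16 : ℕ) ∈ v4 := by decide
  have hp : ((16, 12) : ℕ × ℕ) ∈ pairs4 := by decide
  obtain ⟨c, hc, hcx, hck⟩ := d.exists_prE hp
  obtain ⟨q, hq, hqc⟩ := d.fr.co_surj 2 (by norm_num)
  have hF := d.form_conj hp h16 hc hcx hck s.w_form
  rw [show pr (16, 12) 16 = 16 by decide, show pr (16, 12) 32 = 48 by decide] at hF
  have hF2 := d.form_shift h16 hF hq hqc
  rw [show 48 ^^^ 16 = 32 by decide] at hF2
  obtain ⟨w', hw', hwb⟩ := d.form_unique hF2 s.w_form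
  refine ⟨w' * q * c, ((d.A_comm hw').2.mul_left (d.fr.es.comm q hq)).mul_left hc,
    mul_inv_eq_iff_eq_mul.1 ?_, ?_⟩
  · calc w' * q * c * phi gen z x wc * (w' * q * c)⁻¹
        = w' * (q * (c * phi gen z x wc * c⁻¹) * q⁻¹) * w'⁻¹ := by group
      _ = phi gen z x wc := hwb
  · calc w' * q * c * x * (w' * q * c)⁻¹ = w' * (q * (c * x * c⁻¹) * q⁻¹) * w'⁻¹ := by group
      _ = w' * (x * z) * w'⁻¹ := by rw [mul_inv_eq_iff_eq_mul.2 hcx.eq, d.xz_conj hq hqc]
      _ = x * z := mul_inv_eq_iff_eq_mul.2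
          ((d.A_comm hw').1.mul_right (d.A_comm hw').2).eq

end Std

end Cfsg.Agent.Lib.SuzSeven52
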