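import Cfsg.Agent.Lib.SuzSeven52.Types
import Cfsg.Agent.Lib.SuzSeven52.Code

/-!
# Suzuki type: the coded subgroup `(Q ∩ C(x))(P ∩ C(z))`

Owner: helper52.
-/

set_option autoImplicit false

namespace Cfsg.Agent.Lib.SuzSeven52

open Cfsg.Agent.Lib.SuzType52

variable {G : Type*} [Group G]

/-- The element of the four-group with the given exponents. -/
def ee2 (z x : G) (e : ℕ) : G := ee z x (e.testBit 0) (e.testBit 1)

/-- A normal product. -/
def prodL (gen : ℕ → G) : List ℕ → ℕ → G
  | [], _ => 1
  | i :: is, g => pw (gen i) (g.testBit i) * prodL gen is g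

/-- Lifts of the basis. -/
structure Gens (Q : Subgroup G) (co : G → ℕ) (ac : G → ℕ → ℕ) (n z : G) (gen : ℕ → G) : Prop where
  lo : ∀ i, i < 4 → InB Q n z (gen i) ∧ Act ac (gen i) (kk i)
  hi : ∀ i, 4 ≤ i → i < 8 → InA Q co (gen i) ∧ co (gen i) = kk i

/-- The element with a code. -/
def phi (gen : ℕ → G) (z x : G) (m : ℕ) : G := prodL gen idx m * ee2 z x (m >>> 8)

theorem kk_mem : ∀ i < 8, kk i ∈ v4 := by decide +kernel

variable {z : G} {Q : Subgroup G} {co : G → ℕ} {ac : G → ℕ → ℕ} {x n : G}
  (d : Duo z Q co ac x n)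
include d

theorem ee2_mul (e f : ℕ) : ee2 z x e * ee2 z x f = ee2 z x (e ^^^ f) := by
  rw [ee2, ee2, ee2, d.ee_mul, Nat.testBit_xor, Nat.testBit_xor]

theorem ee2_two (i j : Bool) : ee2 z x (two i j) = ee z x i j := by
  cases i <;> cases j <;> rfl

theorem ee2_zero : ee2 z x 0 = 1 := by
  rw [ee2, Nat.zero_testBit, Nat.zero_testBit]
  exact d.ee_zero

theorem exists_gens : ∃ gen : ℕ → G, Gens Q co ac n z gen := by
  classical
  have h1 : ∀ i, ∃ g, i < 4 → InB Q n z g ∧ Act ac g (kk i) := fun i => by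
    by_cases h : i < 4
    · obtain ⟨u, hu⟩ := d.lift (kk i) (kk_mem i (by omega))
      exact ⟨u, fun _ => hu⟩
    · exact ⟨1, fun h' => absurd h' h⟩
  have h2 : ∀ i, ∃ g, 4 ≤ i → i < 8 → InA Q co g ∧ co g = kk i := fun i => by
    by_cases h : i < 8
    · have hk := lt_of_mem_v4 _ (kk_mem i h)
      obtain ⟨r, hr, hrc⟩ := d.fr.co_surj (kk i) hk.1
      exact ⟨r, fun _ _ => ⟨⟨hr, by rw [hrc]; exact hk.2.2⟩, hrc⟩⟩
    · exact ⟨1, fun _ h' => absurd h' h⟩
  choose f hf using h1
  choose g hg using h2
  refine ⟨fun i => if i < 4 then f i else g i, fun i hi => ?_, fun i h4 h8 => ?_⟩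
  · simp only [hi, if_true]
    exact hf i hi
  · simp only [show ¬ i < 4 by omega, if_false]
    exact hg i h4 h8

variable {gen : ℕ → G} (hG : Gens Q co ac n z gen)
include hG

theorem gen_comm {i : ℕ} (hi : i < 8) : Commute (gen i) x ∧ Commute (gen i) z := by
  rcases Nat.lt_or_ge i 4 with h | h
  · exact d.B_comm (hG.lo i h).1
  · exact d.A_comm (hG.hi i h hi).1

theorem gen_ee {i : ℕ} (hi : i < 8) (e : ℕ) : Commute (gen i) (ee2 z x e) :=
  d.ee_comm (gen_comm d hG hi).1 (gen_comm d hG hi).2 _ _

theorem gen_sq {i : ℕ} (hi : i < 8) : gen i * gen i = ee2 z x (sqc i) := by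
  rcases Nat.lt_or_ge i 4 with h | h
  · have hb : Nat.blt i 4 = true := by simp only [Nat.blt, Nat.ble_eq]; omega
    rw [sqc, hb, cond_true, ee2_two d, d.sq_act _ (kk_mem i hi) _ (hG.lo i h).1 (hG.lo i h).2]
    exact (mul_one _).symm
  · have hb : Nat.blt i 4 = false := by
      rw [Bool.eq_false_iff]; intro e; simp only [Nat.blt, Nat.ble_eq] at e; omega
    rw [sqc, hb, cond_false, ee2_two d, d.fr.sq _ (hG.hi i h hi).1.1, (hG.hi i h hi).2]
    exact (one_mul _).symm

theorem gen_com {i j : ℕ} (hi : i < 8) (hj : j < 8) : com (gen i) (gen j) = ee2 z x (cm i j) := by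
  have hbt : ∀ {i : ℕ}, i < 4 → Nat.blt i 4 = true := fun h => by
    simp only [Nat.blt, Nat.ble_eq]; omega
  have hbf : ∀ {i : ℕ}, 4 ≤ i → Nat.blt i 4 = false := fun h => by
    rw [Bool.eq_false_iff]; intro e; simp only [Nat.blt, Nat.ble_eq] at e; omega
  rcases Nat.lt_or_ge i 4 with h | h <;> rcases Nat.lt_or_ge j 4 with h' | h'
  · rw [cm, hbt h, hbt h', cond_true, cond_true, ee2_two d,
      d.com_BB (kk_mem i hi) (kk_mem j hj) (hG.lo i h).1 (hG.lo j h').1 (hG.lo i h).2 (hG.lo j h').2]
    exact (mul_one _).symm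
  · rw [cm, hbt h, hbf h', cond_true, cond_false, ee2_two d, ← com_inv,
      d.com_act _ (kk_mem i hi) _ _ (hG.lo i h).1 (hG.lo i h).2 (hG.hi j h' hj).1, (hG.hi j h' hj).2,
      inv_eq_of_mul_eq_one_right (d.ee_sq _ _)]
  · rw [cm, hbf h, hbt h', cond_false, cond_true, ee2_two d,
      d.com_act _ (kk_mem j hj) _ _ (hG.lo j h').1 (hG.lo j h').2 (hG.hi i h hi).1, (hG.hi i h hi).2,
      bn_comm (kk j)]
  · rw [cm, hbf h, hbf h', cond_false, cond_false, ee2_two d]
    have e := d.fr.comm_Q (hG.hi i h hi).1.1 (hG.hi j h' hj).1.1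
    rw [(hG.hi i h hi).2, (hG.hi j h' hj).2] at e
    simp only [com]
    rw [e, ← (show Commute (gen j) (pw z (bn (kk i) (kk j))) from by
      cases bn (kk i) (kk j)
      · exact Commute.one_right _
      · exact (gen_comm d hG hj).2).eq.symm]
    rw [mul_inv_cancel_right]
    exact (one_mul _).symm

omit hG in
theorem pw_comm {g : G} (b : Bool) {e : ℕ} (h : Commute g (ee2 z x e)) :
    Commute (pw g b) (ee2 z x e) := by
  cases b
  · exact Commute.one_left _
  · exact h

theorem prodL_ee {l : List ℕ} (hl : ∀ i ∈ l, i < 8) (g e : ℕ) :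
    Commute (prodL gen l g) (ee2 z x e) := by
  induction l with
  | nil => exact Commute.one_left _
  | cons i is ih =>
    exact (pw_comm d _ (gen_ee d hG (hl i (by simp)) e)).mul_left (ih fun j hj => hl j (by simp [hj]))

theorem prodL_swap {l : List ℕ} (hl : ∀ i ∈ l, i < 8) {i : ℕ} (hi : i < 8) (g : ℕ) :
    prodL gen l g * gen i = gen i * prodL gen l g * ee2 z x (cmL l i g) := by
  induction l with
  | nil => simp [prodL, cmL, ee2_zero d]
  | cons j js ih =>
    have hj : j < 8 := hl j (by simp)
    have ih' := ih fun k hk => hl k (by simp [hk])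
    simp only [prodL, cmL]
    rw [mul_assoc, ih', ← mul_assoc, ← mul_assoc, ← ee2_mul d]
    cases g.testBit j
    · simp [pw, ee2_zero d]
    · simp only [pw, cond_true]
      have e : gen j * gen i = gen i * gen j * ee2 z x (cm j i) := by
        rw [← gen_com d hG hj hi]
        have hc := ((gen_ee d hG hi (cm j i)).mul_left (gen_ee d hG hj (cm j i))).eq
        rw [← gen_com d hG hj hi] at hc
        rw [hc]
        simp only [com]; group
      rw [e, mul_assoc (gen i * gen j) (ee2 z x (cm j i)),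
        ← (prodL_ee d hG (fun k hk => hl k (by simp [hk])) g (cm j i)).eq]
      simp only [mul_assoc]

theorem prodL_mul {l : List ℕ} (hl : ∀ i ∈ l, i < 8) (g h : ℕ) :
    prodL gen l g * prodL gen l h = prodL gen l (g ^^^ h) * ee2 z x (cocL l g h) := by
  induction l with
  | nil => simp [prodL, cocL, ee2_zero d]
  | cons i is ih =>
    have hi : i < 8 := hl i (by simp)
    have his : ∀ k ∈ is, k < 8 := fun k hk => hl k (by simp [hk])
    have ih' := ih his
    simp only [prodL, cocL, Nat.testBit_xor]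
    have s : prodL gen is g * pw (gen i) (h.testBit i) =
        pw (gen i) (h.testBit i) * prodL gen is g *
          ee2 z x (bif h.testBit i then cmL is i g else 0) := by
      cases h.testBit i
      · simp [pw, ee2_zero d]
      · exact prodL_swap d hG his hi g
    have t : pw (gen i) (g.testBit i) * pw (gen i) (h.testBit i) =
        pw (gen i) (Bool.xor (g.testBit i) (h.testBit i)) *
          ee2 z x (bif g.testBit i && h.testBit i then sqc i else 0) := by
      cases g.testBit i <;> cases h.testBit i <;> simp [pw, ee2_zero d, gen_sq d hG hi]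
    calc pw (gen i) (g.testBit i) * prodL gen is g * (pw (gen i) (h.testBit i) * prodL gen is h)
        = pw (gen i) (g.testBit i) * (prodL gen is g * pw (gen i) (h.testBit i)) * prodL gen is h := by
          simp only [mul_assoc]
      _ = pw (gen i) (g.testBit i) * pw (gen i) (h.testBit i) * (prodL gen is g *
            (ee2 z x (bif h.testBit i then cmL is i g else 0) * prodL gen is h)) := by
          rw [s]; simp only [mul_assoc]
      _ = pw (gen i) (Bool.xor (g.testBit i) (h.testBit i)) *
            (ee2 z x (bif g.testBit i && h.testBit i then sqc i else 0) * (prodL gen is g *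
              prodL gen is h)) * ee2 z x (bif h.testBit i then cmL is i g else 0) := by
          rw [t, ← (prodL_ee d hG his h _).eq]; simp only [mul_assoc]
      _ = pw (gen i) (Bool.xor (g.testBit i) (h.testBit i)) * prodL gen is (g ^^^ h) *
            (ee2 z x (bif g.testBit i && h.testBit i then sqc i else 0) *
              ee2 z x (bif h.testBit i then cmL is i g else 0) * ee2 z x (cocL is g h)) := by
          rw [ih', ← mul_assoc (ee2 z x _) (prodL gen is (g ^^^ h)), ← (prodL_ee d hG his _ _).eq]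
          simp only [mul_assoc]
          rw [ee2_mul d, ee2_mul d, Nat.xor_comm (cocL is g h)]
          simp only [← mul_assoc, ee2_mul d]
      _ = _ := by rw [ee2_mul d, ee2_mul d]

omit d hG in
theorem testBit_shift (c j : ℕ) (hj : j < 8) : (c <<< 8).testBit j = false := by
  rw [Nat.testBit_shiftLeft]
  simp [show ¬ 8 ≤ j by omega]

omit d hG in
theorem prodL_congr {l : List ℕ} {g g' : ℕ} (h : ∀ i ∈ l, g.testBit i = g'.testBit i) :
    prodL gen l g = prodL gen l g' := by
  induction l with
  | nil => rfl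
  | cons i is ih => rw [prodL, prodL, h i (by simp), ih fun j hj => h j (by simp [hj])]

theorem phi_mul (m m' : ℕ) : phi gen z x m * phi gen z x m' = phi gen z x (mu m m') := by
  have e1 : prodL gen idx (mu m m') = prodL gen idx (m ^^^ m') := prodL_congr fun i hi => by
    rw [mu, Nat.testBit_xor, testBit_shift _ _ (idx_lt i hi), Bool.xor_false]
  have e2 : mu m m' >>> 8 = (m >>> 8) ^^^ (m' >>> 8) ^^^ cocL idx m m' := by
    rw [mu, Nat.shiftRight_xor_distrib, Nat.shiftRight_xor_distrib, Nat.shiftLeft_shiftRight]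
  rw [phi, phi, phi, e1, e2]
  calc prodL gen idx m * ee2 z x (m >>> 8) * (prodL gen idx m' * ee2 z x (m' >>> 8))
      = prodL gen idx m * prodL gen idx m' * (ee2 z x (m >>> 8) * ee2 z x (m' >>> 8)) := by
        rw [mul_assoc, ← mul_assoc (ee2 z x (m >>> 8)), ← (prodL_ee d hG idx_lt m' _).eq]
        simp only [mul_assoc]
    _ = _ := by
      rw [prodL_mul d hG idx_lt, mul_assoc, ee2_mul d, ee2_mul d, Nat.xor_comm (cocL idx m m')]

theorem phi_zero : phi gen z x 0 = 1 := by
  simp [phi, prodL, idx, pw, ee2_zero d]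

end Cfsg.Agent.Lib.SuzSeven52
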