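import Cfsg.Agent.Lib.SuzSeven52.Simple
import Cfsg.Agent.Lib.CIT.Main
import Cfsg.Agent.Lib.Golay.PSL34
import Cfsg.Agent.S0820

/-!
# Suzuki type: the quotient is `PSL(3, 4)`

Owner: helper52.
-/

set_option autoImplicit false
set_option maxRecDepth 100000

namespace Cfsg.Agent.Lib.SuzSeven52

open Cfsg.Agent.Lib.SuzType52 Cfsg.Agent.Lib

variable {G : Type*} [Group G] {z : G} {Q : Subgroup G} {co : G → ℕ} {ac : G → ℕ → ℕ} {x n : G}
  {gen : ℕ → G} {w v g q r t k : G}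

/-- The order of `PSL(3,4)`. -/
theorem card_psl {F : Type*} [Field F] [Fintype F] (hF : Fintype.card F = 4) :
    Nat.card (Matrix.ProjectiveSpecialLinearGroup (Fin 3) F) = 20160 := by
  obtain ⟨σ⟩ := PSL34Orders.exists_fieldEquiv F hF
  obtain ⟨e⟩ := Golay.PSL34.psl_congr σ
  rw [Nat.card_congr e.toEquiv, Golay.PSL34.card_PSL]

namespace Pack

variable [Finite G] (p : Pack z Q co ac x n gen w v g q r)
include p

theorem card_SB : Nat.card (SB z w v) = 64 := by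
  classical
  have hVsub : V4 w v ≤ (CZ z w v).subgroupOf (CV w v) := fun a ha =>
    Subgroup.mem_subgroupOf.2 (p.V_le_CZ (Subgroup.mem_subgroupOf.1 ha))
  have h4 : Nat.card (V4 w v) = 4 := by
    have hcl : Subgroup.closure ({w, v} : Set G) ≤ CV w v := fun a ha => p.CZ_le_CV (p.V_le_CZ ha)
    rw [V4, Nat.card_congr (Subgroup.subgroupOfEquivOfLe hcl).toEquiv]
    have he : ((Subgroup.closure ({w, v} : Set G) : Subgroup G) : Set G) =
        (({1, w, v, v * w} : Finset G) : Set G) := by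
      ext a
      rw [SetLike.mem_coe, p.mem_V]
      simp
    have hw1 := p.bt_w.ne_one
    have hv1 := p.v_facts.1.ne_one
    have hvw1 := p.bt_vw.ne_one
    have hwv : w ≠ v := fun e => hvw1 (by rw [← e, p.bt_w.sq])
    have hwvw : w ≠ v * w := fun e => hv1 (right_eq_mul.1 e)
    have hvvw : v ≠ v * w := fun e => hw1 (left_eq_mul.1 e)
    show Nat.card ((Subgroup.closure ({w, v} : Set G) : Subgroup G) : Set G) = 4
    rw [he, Nat.card_coe_set_eq, Set.ncard_coe_finset]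
    simp [Ne.symm hw1, Ne.symm hv1, Ne.symm hvw1, hwv, hwvw, hvvw, hw1]
  have h := Subgroup.card_eq_card_quotient_mul_card_subgroup
    ((V4 w v).subgroupOf ((CZ z w v).subgroupOf (CV w v)))
  have h256 : Nat.card ↥((CZ z w v).subgroupOf (CV w v)) = 256 := by
    rw [Nat.card_congr (Subgroup.subgroupOfEquivOfLe p.CZ_le_CV).toEquiv, p.card_CZ]
  rw [h256, Nat.card_congr (Subgroup.subgroupOfEquivOfLe hVsub).toEquiv, h4] at h
  let φ : ↥((CZ z w v).subgroupOf (CV w v)) →* WQ w v :=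
    (QuotientGroup.mk' (V4 w v)).comp ((CZ z w v).subgroupOf (CV w v)).subtype
  have hr : φ.range = SB z w v := by
    rw [MonoidHom.range_comp, Subgroup.range_subtype]
    rfl
  have hk : φ.ker = (V4 w v).subgroupOf ((CZ z w v).subgroupOf (CV w v)) := by
    ext a
    simp [φ, MonoidHom.mem_ker, Subgroup.mem_subgroupOf]
  rw [← hr, ← Subgroup.index_ker, hk, Subgroup.index_eq_card]
  omega

/-- The quotient is `PSL(3,4)`. -/
theorem exists_psl (ft : Fus z x w v g t k) :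
    ∃ (F : Type) (_ : Field F) (_ : Fintype F), Fintype.card F = 4 ∧
      Nonempty (WQ w v ≃* Matrix.ProjectiveSpecialLinearGroup (Fin 3) F) := by
  classical
  haveI : Fact (Nat.Prime 2) := ⟨Nat.prime_two⟩
  obtain ⟨N, hNn, hNs, hzN, hxN, hrN, hsN⟩ := p.exists_simple ft
  haveI := hNn
  haveI := hNs
  obtain ⟨S, hS⟩ := p.exists_sylow
  set r₁ := bar w v (g * z * g⁻¹) with hr₁
  set r₂ := bar w v (t * (g * z * g⁻¹) * t⁻¹) with hr₂
  have hzS : bar w v z ∈ SB z w v := p.bar_mem_SB p.z_mem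
  have hxS : bar w v x ∈ SB z w v := p.bar_mem_SB p.x_mem
  have hrS : r₁ ∈ SB z w v := p.bar_mem_SB ft.m1
  have hsS : r₂ ∈ SB z w v := p.bar_mem_SB ft.m2
  have hcz : ∀ a ∈ SB z w v, Commute a (bar w v z) := fun a ha =>
    Subgroup.mem_centralizer_singleton_iff.1 (p.cent_zb.symm ▸ ha)
  have hcx : ∀ a ∈ SB z w v, Commute a (bar w v x) := by
    intro a ha
    obtain ⟨y, hy, rfl⟩ := p.SB_surj ha
    show _ * _ = _ * _
    rw [← bar_mul (p.CZ_le_CV hy) (p.CZ_le_CV p.x_mem),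
      ← bar_mul (p.CZ_le_CV p.x_mem) (p.CZ_le_CV hy), (p.CZ_comm_x hy).eq]
  have hG : CIT.IsCIT ↥N := by
    intro u hu
    have h := p.isCIT (u : WQ w v) (by rwa [Subgroup.orderOf_coe])
    refine (h.comap_of_injective N.subtype N.subtype_injective).to_le fun a ha => ?_
    rw [Subgroup.mem_comap, Subgroup.mem_centralizer_singleton_iff]
    exact congrArg Subtype.val (Subgroup.mem_centralizer_singleton_iff.1 ha)
  have hnc : ¬ Commute (⟨r₁, hrN⟩ : ↥N) ⟨r₂, hsN⟩ := fun h => ft.nc (congrArg Subtype.val h)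
  have hna : ∃ a b : ↥N, a * b ≠ b * a := ⟨⟨r₁, hrN⟩, ⟨r₂, hsN⟩, hnc⟩
  obtain ⟨T, hT⟩ := Transfer.Fusion.exists_sylow_map_eq_inf N S
  have hT' : ∀ a : ↥N, a ∈ (T : Subgroup ↥N) ↔ (a : WQ w v) ∈ SB z w v := by
    intro a
    rw [← hS]
    constructor
    · intro ha
      have : (a : WQ w v) ∈ N ⊓ (S : Subgroup (WQ w v)) := hT ▸ ⟨a, ha, rfl⟩
      exact this.2
    · intro ha
      obtain ⟨b, hb, e⟩ : (a : WQ w v) ∈ (T : Subgroup ↥N).map N.subtype := hT.symm ▸ ⟨a.2, ha⟩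
      exact Subtype.ext e ▸ hb
  -- the Sylow subgroups are not TI
  have hnti : ¬ ∀ T : Sylow 2 ↥N, ∀ c : ↥N, c ∉ Subgroup.normalizer ((T : Subgroup ↥N) : Set ↥N) →
      (T : Subgroup ↥N) ⊓ (T : Subgroup ↥N).map (MulAut.conj c).toMonoidHom = ⊥ := by
    intro hti
    obtain ⟨T₁, hT₁⟩ := Transfer.Fusion.exists_sylow_map_eq_inf N (bar w v g • S)
    obtain ⟨c, hc⟩ := MulAction.exists_smul_eq ↥N T T₁
    have hr1eq : r₁ = bar w v g * bar w v z * (bar w v g)⁻¹ := bar_conj ft.gCV (p.CZ_le_CV p.z_mem)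
    have hmem : ∀ a : ↥N, a ∈ (T₁ : Subgroup ↥N) ↔
        (bar w v g)⁻¹ * a * bar w v g ∈ SB z w v := by
      intro a
      have : a ∈ (T₁ : Subgroup ↥N) ↔ (a : WQ w v) ∈ ((bar w v g • S : Sylow 2 (WQ w v)) : Subgroup (WQ w v)) := by
        constructor
        · intro ha
          have : (a : WQ w v) ∈ N ⊓ ((bar w v g • S : Sylow 2 (WQ w v)) : Subgroup (WQ w v)) :=
            hT₁ ▸ ⟨a, ha, rfl⟩
          exact this.2
        · intro ha
          obtain ⟨b, hb, e⟩ : (a : WQ w v) ∈ (T₁ : Subgroup ↥N).map N.subtype := hT₁.symm ▸ ⟨a.2, ha⟩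
          exact Subtype.ext e ▸ hb
      rw [this, Sylow.coe_subgroup_smul, hS]
      constructor
      · rintro ⟨b, hb, e⟩
        rw [← e]
        simpa [mul_assoc] using hb
      · intro h
        exact ⟨_, h, by simp [mul_assoc]⟩
    have hne : c ∉ Subgroup.normalizer ((T : Subgroup ↥N) : Set ↥N) := by
      intro h
      have e : T₁ = T := by rw [← hc]; exact Sylow.smul_eq_iff_mem_normalizer.2 h
      have h2 : (bar w v g)⁻¹ * r₂ * bar w v g ∈ SB z w v :=
        (hmem ⟨r₂, hsN⟩).1 (e.symm ▸ (hT' ⟨r₂, hsN⟩).2 hsS)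
      have h3 := (hcz _ h2).map (MulAut.conj (bar w v g)).toMonoidHom
      refine ft.nc (Commute.symm ?_)
      show Commute r₂ r₁
      rw [hr1eq]
      simpa [mul_assoc] using h3
    have hz1 : (⟨bar w v z, hzN⟩ : ↥N) ∈ (T₁ : Subgroup ↥N) := by
      rw [hmem, ← p.cent_zb, Subgroup.mem_centralizer_singleton_iff]
      have h := (hcz r₁ hrS).symm.map (MulAut.conj (bar w v g)⁻¹).toMonoidHom
      rw [hr1eq] at h
      simpa [mul_assoc] using h.eq
    have hz0 : (⟨bar w v z, hzN⟩ : ↥N) ∈ (T : Subgroup ↥N) := (hT' _).2 hzS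
    have h1 : (⟨bar w v z, hzN⟩ : ↥N) ∈
        (T : Subgroup ↥N) ⊓ (T : Subgroup ↥N).map (MulAut.conj c).toMonoidHom :=
      ⟨hz0, by rw [← hc, Sylow.coe_subgroup_smul] at hz1; exact hz1⟩
    rw [hti T c hne, Subgroup.mem_bot] at h1
    have h2 := p.bar_z_mem.1
    rw [show bar w v z = 1 from congrArg Subtype.val h1, orderOf_one] at h2
    norm_num at h2
  rcases CIT.exists_pair_or_ti hG with hp | hti
  swap
  · exact absurd hti hnti
  obtain ⟨M₁, M₂, P, pr⟩ := hp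
  obtain ⟨A, B, R, s⟩ := pr.shape hG
  obtain ⟨j, hj⟩ := IsPGroup.iff_card.1 (s.isP.to_le (inf_le_left.trans s.V_le : A ⊓ B ≤ R))
  have h4 := s.card_inf_le hG
  have h1 := s.one_lt hG
  rw [hj] at h4 h1
  have hj2 : j ≤ 2 := by
    by_contra hlt
    have := Nat.pow_le_pow_right two_pos (show 3 ≤ j by omega)
    omega
  interval_cases j
  · simp at h1
  · -- a dihedral Sylow subgroup is impossible
    exfalso
    obtain ⟨D, zd, vd, ad, m, d, -⟩ := s.exists_dihedral hG hna (by rw [hj]; norm_num)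
    let TD : Sylow 2 ↥N := ⟨D, d.max.isP, fun hY hle => d.max.max _ hY hle⟩
    obtain ⟨c, hc⟩ := MulAction.exists_smul_eq ↥N T TD
    have hin : ∀ a : ↥N, (a : WQ w v) ∈ SB z w v → c * a * c⁻¹ ∈ D := fun a ha =>
      (show ((c • T : Sylow 2 ↥N) : Subgroup ↥N) = D by rw [hc]) ▸ ⟨a, (hT' a).2 ha, rfl⟩
    have hdc : ∀ (u : WQ w v) (hu : u ∈ N), u ∈ SB z w v → (∀ a ∈ SB z w v, Commute a u) →
        c * ⟨u, hu⟩ * c⁻¹ = 1 ∨ c * ⟨u, hu⟩ * c⁻¹ = zd := by
      intro u hu huS hcu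
      refine dih_central d (hin ⟨r₁, hrN⟩ hrS) (hin ⟨r₂, hsN⟩ hsS) (hin ⟨u, hu⟩ huS) ?_ ?_ ?_
      · exact fun h => hnc (h.of_map (f := (MulAut.conj c).toMonoidHom) (MulAut.conj c).injective)
      · exact (show Commute (⟨u, hu⟩ : ↥N) ⟨r₁, hrN⟩ from Subtype.ext (hcu _ hrS).symm.eq).map
          (MulAut.conj c).toMonoidHom
      · exact (show Commute (⟨u, hu⟩ : ↥N) ⟨r₂, hsN⟩ from Subtype.ext (hcu _ hsS).symm.eq).map
          (MulAut.conj c).toMonoidHom
    obtain ⟨o1, o2, o3⟩ := p.bar_z_mem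
    have hne : ∀ {u : WQ w v} (hu : u ∈ N), orderOf u = 2 → c * ⟨u, hu⟩ * c⁻¹ ≠ 1 := by
      intro u hu ho h
      rw [show u = 1 from congrArg Subtype.val (conj_eq_one_iff.1 h), orderOf_one] at ho
      norm_num at ho
    have e := ((hdc _ hzN hzS hcz).resolve_left (hne hzN o1)).trans
      ((hdc _ hxN hxS hcx).resolve_left (hne hxN o2)).symm
    have e' : bar w v z = bar w v x := congrArg Subtype.val (mul_left_cancel (mul_right_cancel e))
    rw [bar_mul (p.CZ_le_CV p.x_mem) (p.CZ_le_CV p.z_mem), e', orderOf_mul_self o2, orderOf_one] at o3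
    norm_num at o3
  have hq : Nat.card ↥(A ⊓ B) = 4 := by rw [hj]; norm_num
  haveI : Fintype ↥N := Fintype.ofFinite _
  obtain ⟨F, iF, iFin, hF, ⟨e⟩⟩ := CIT.PlaneCase.psl ⟨hG, s, hq, s.maxTwo_of_four hG hq⟩
  -- the Sylow subgroup lies in the simple normal subgroup
  have hNc : Nat.card ↥N = 20160 := by rw [Nat.card_congr e.toEquiv, card_psl hF]
  have hSN : SB z w v ≤ N := by
    obtain ⟨H, hH⟩ := Sylow.exists_subgroup_card_pow_prime (G := ↥N) 2 (n := 6)
      (by rw [hNc]; norm_num)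
    obtain ⟨U, hU⟩ := (IsPGroup.of_card hH).exists_le_sylow
    have h64 : 64 ≤ Nat.card ↥(N ⊓ SB z w v) := by
      have h1 := Subgroup.card_le_of_le hU
      rw [hH, U.card_eq_multiplicity, ← T.card_eq_multiplicity, ← Subgroup.card_subtype, hT, hS] at h1
      simpa using h1
    rw [← p.card_SB] at h64
    exact (Subgroup.eq_of_le_of_card_ge inf_le_right h64).ge.trans inf_le_left
  have htop : N = ⊤ := by
    rw [eq_top_iff]
    intro h _
    have ho : orderOf (e ⟨h * bar w v z * h⁻¹, hNn.conj_mem _ hzN h⟩) = 2 := by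
      rw [MulEquiv.orderOf_eq, Subgroup.orderOf_mk, ← MulAut.conj_apply, MulEquiv.orderOf_eq,
        p.bar_z_mem.1]
    have hoz : orderOf (e ⟨bar w v z, hzN⟩) = 2 := by
      rw [MulEquiv.orderOf_eq, Subgroup.orderOf_mk, p.bar_z_mem.1]
    obtain ⟨c, hc⟩ := isConj_iff.1 (e.symm.toMonoidHom.map_isConj (S0820.result hF _ _ hoz ho))
    simp only [MulEquiv.coe_toMonoidHom, MulEquiv.symm_apply_apply] at hc
    have hc' : (c : WQ w v) * bar w v z * (c : WQ w v)⁻¹ = h * bar w v z * h⁻¹ :=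
      congrArg Subtype.val hc
    have hd : (c : WQ w v)⁻¹ * h ∈ SB z w v := by
      rw [← p.cent_zb, Subgroup.mem_centralizer_singleton_iff]
      calc (c : WQ w v)⁻¹ * h * bar w v z = (c : WQ w v)⁻¹ * (h * bar w v z * h⁻¹) * h := by group
        _ = bar w v z * ((c : WQ w v)⁻¹ * h) := by rw [← hc']; group
    have := mul_mem c.2 (hSN hd)
    rwa [mul_inv_cancel_left] at this
  exact ⟨F, iF, iFin, hF, ⟨(Subgroup.topEquiv.symm.trans (MulEquiv.subgroupCongr htop.symm)).trans e⟩⟩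

end Pack

end Cfsg.Agent.Lib.SuzSeven52
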