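import Cfsg.Agent.Lib.PSL34Orders.Basic
import Cfsg.Agent.Lib.CIT.Basic
import Cfsg.Agent.Lib.SuzSeven52.Psl
import Cfsg.Agent.S0819

/-!
# The elements of order five and seven of `PSL(3, 4)`

In a group isomorphic to `PSL(3,4)` with `2`-groups as involution centralisers, an element of order
seven or five generates its own centraliser; the normalisers have orders 21 and 10.

Owner: helper52.
-/

set_option autoImplicit false
set_option maxRecDepth 100000

namespace Cfsg.Agent.Lib.SuzSeven52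

open Cfsg.Agent.Lib Cfsg.Agent.Lib.PSL34Orders Cfsg.Agent.Lib.Golay.PSL34

theorem key2_twentyone : ∀ a b : F4, (co2 a b 21).1 = 0 → (co2 a b 7).1 = 0 ∨ (co2 a b 3).1 = 0 := by
  decide +kernel

theorem key3_twentyone : ∀ a b : F4, ((co3 a b 1 21).1 = 0 ∧ (co3 a b 1 21).2.1 = 0) →
    ((co3 a b 1 7).1 = 0 ∧ (co3 a b 1 7).2.1 = 0) ∨ ((co3 a b 1 3).1 = 0 ∧ (co3 a b 1 3).2.1 = 0) := by
  decide +kernel

theorem key2_thirtyfive : ∀ a b : F4, (co2 a b 35).1 = 0 → (co2 a b 7).1 = 0 ∨ (co2 a b 5).1 = 0 := by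
  decide +kernel

theorem key3_thirtyfive : ∀ a b : F4, ((co3 a b 1 35).1 = 0 ∧ (co3 a b 1 35).2.1 = 0) →
    ((co3 a b 1 7).1 = 0 ∧ (co3 a b 1 7).2.1 = 0) ∨ ((co3 a b 1 5).1 = 0 ∧ (co3 a b 1 5).2.1 = 0) := by
  decide +kernel

local notation "M3" => Matrix (Fin 3) (Fin 3) F4

theorem scal_pow_gen {N d₁ d₂ : ℕ}
    (k2 : ∀ a b : F4, (co2 a b N).1 = 0 → (co2 a b d₁).1 = 0 ∨ (co2 a b d₂).1 = 0)
    (k3 : ∀ a b : F4, ((co3 a b 1 N).1 = 0 ∧ (co3 a b 1 N).2.1 = 0) →
      ((co3 a b 1 d₁).1 = 0 ∧ (co3 a b 1 d₁).2.1 = 0) ∨ ((co3 a b 1 d₂).1 = 0 ∧ (co3 a b 1 d₂).2.1 = 0))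
    (m : M3) (hm : m.det = 1) (h : IsScal (m ^ N)) : IsScal (m ^ d₁) ∨ IsScal (m ^ d₂) := by
  by_cases hs : IsScal m
  · obtain ⟨r, hr⟩ := hs
    exact Or.inr ⟨r ^ d₂, by rw [hr, smul_pow, one_pow]⟩
  have indep2 : ∀ β γ : F4, β • m + γ • (1 : M3) = 0 → β = 0 := by
    intro β γ he
    by_contra hb
    refine hs ⟨β⁻¹ * -γ, ?_⟩
    rw [← smul_smul, neg_smul, ← eq_neg_of_add_eq_zero_left he, smul_smul, inv_mul_cancel₀ hb, one_smul]
  obtain ⟨r, hr⟩ := h
  by_cases hA : ∃ a b : F4, m * m = a • m + b • (1 : M3)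
  · obtain ⟨a, b, hab⟩ := hA
    have hN : (co2 a b N).1 = 0 := by
      refine indep2 _ ((co2 a b N).2 - r) ?_
      rw [sub_smul, ← hr, pow_co2 m hab N]
      abel
    rcases k2 a b hN with h1 | h2
    · exact Or.inl ⟨_, by rw [pow_co2 m hab d₁, h1, zero_smul, zero_add]⟩
    · exact Or.inr ⟨_, by rw [pow_co2 m hab d₂, h2, zero_smul, zero_add]⟩
  · have indep3 : ∀ α β γ : F4, α • (m * m) + β • m + γ • (1 : M3) = 0 → α = 0 ∧ β = 0 := by
      intro α β γ he
      by_cases ha : α = 0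
      · subst ha
        rw [zero_smul, zero_add] at he
        exact ⟨rfl, indep2 β γ he⟩
      · refine absurd ⟨α⁻¹ * -β, α⁻¹ * -γ, ?_⟩ hA
        rw [← smul_smul, ← smul_smul, neg_smul, neg_smul, ← smul_add, ← neg_add,
          ← eq_neg_of_add_eq_zero_left (by rwa [← add_assoc]), smul_smul, inv_mul_cancel₀ ha, one_smul]
    obtain ⟨a, b, habc⟩ := exists_cubic m hm
    have hN : (co3 a b 1 N).1 = 0 ∧ (co3 a b 1 N).2.1 = 0 := by
      refine indep3 _ _ ((co3 a b 1 N).2.2 - r) ?_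
      rw [sub_smul, ← hr, pow_co3 m habc N]
      abel
    rcases k3 a b hN with ⟨h1, h1'⟩ | ⟨h2, h2'⟩
    · exact Or.inl ⟨_, by rw [pow_co3 m habc d₁, h1, h1', zero_smul, zero_smul, zero_add, zero_add]⟩
    · exact Or.inr ⟨_, by rw [pow_co3 m habc d₂, h2, h2', zero_smul, zero_smul, zero_add, zero_add]⟩

theorem orderOf_ne_gen {N d₁ d₂ : ℕ} (h1 : ¬ N ∣ d₁) (h2 : ¬ N ∣ d₂)
    (k2 : ∀ a b : F4, (co2 a b N).1 = 0 → (co2 a b d₁).1 = 0 ∨ (co2 a b d₂).1 = 0)
    (k3 : ∀ a b : F4, ((co3 a b 1 N).1 = 0 ∧ (co3 a b 1 N).2.1 = 0) →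
      ((co3 a b 1 d₁).1 = 0 ∧ (co3 a b 1 d₁).2.1 = 0) ∨ ((co3 a b 1 d₂).1 = 0 ∧ (co3 a b 1 d₂).2.1 = 0))
    (x : Matrix.ProjectiveSpecialLinearGroup (Fin 3) F4) : orderOf x ≠ N := by
  intro h
  obtain ⟨g, rfl⟩ := QuotientGroup.mk_surjective x
  have key : ∀ k, (QuotientGroup.mk g : Matrix.ProjectiveSpecialLinearGroup (Fin 3) F4) ^ k = 1 ↔
      IsScal ((g : M3) ^ k) := fun k => by
    rw [← QuotientGroup.mk_pow, QuotientGroup.eq_one_iff, mem_center_iff_scal]
    simp
  have hN := (key N).1 (by rw [← h, pow_orderOf_eq_one])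
  rcases scal_pow_gen k2 k3 _ g.2 hN with e | e
  · exact h1 (h ▸ orderOf_dvd_of_pow_eq_one ((key d₁).2 e))
  · exact h2 (h ▸ orderOf_dvd_of_pow_eq_one ((key d₂).2 e))

variable {W : Type*} [Group W] {F : Type} [Field F] [Fintype F]

theorem orders_ne (hF : Fintype.card F = 4)
    (e : W ≃* Matrix.ProjectiveSpecialLinearGroup (Fin 3) F) (u : W) :
    orderOf u ≠ 15 ∧ orderOf u ≠ 21 ∧ orderOf u ≠ 35 := by
  obtain ⟨σ⟩ := exists_fieldEquiv F hF
  obtain ⟨e'⟩ := psl_congr σ
  refine ⟨fun h => S0819.result hF (e u) (by rw [e.orderOf_eq, h]), fun h => ?_, fun h => ?_⟩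
  · exact orderOf_ne_gen (by norm_num) (by norm_num) key2_twentyone key3_twentyone (e' (e u))
      (by rw [e'.orderOf_eq, e.orderOf_eq, h])
  · exact orderOf_ne_gen (by norm_num) (by norm_num) key2_thirtyfive key3_thirtyfive (e' (e u))
      (by rw [e'.orderOf_eq, e.orderOf_eq, h])

variable [Finite W]

/-- The centraliser of an element of order five or seven. -/
theorem cent_prime (hW : CIT.IsCIT W) (hF : Fintype.card F = 4)
    (e : W ≃* Matrix.ProjectiveSpecialLinearGroup (Fin 3) F) {u : W} {l : ℕ} (hl : l = 5 ∨ l = 7)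
    (hu : orderOf u = l) :
    Subgroup.centralizer ({u} : Set W) = Subgroup.zpowers u := by
  have hcard : Nat.card W = 20160 := by rw [Nat.card_congr e.toEquiv, card_psl hF]
  set C := Subgroup.centralizer ({u} : Set W) with hC
  have hle : Subgroup.zpowers u ≤ C :=
    Subgroup.zpowers_le.2 (Subgroup.mem_centralizer_singleton_iff.2 rfl)
  refine (Subgroup.eq_of_le_of_card_ge hle ?_).symm
  rw [Nat.card_zpowers, hu]
  have hlC : l ∣ Nat.card C := hu ▸ (Nat.card_zpowers u ▸ Subgroup.card_dvd_of_le hle)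
  have hdvd : Nat.card C ∣ 20160 := hcard ▸ Subgroup.card_subgroup_dvd_card C
  have hno : ∀ r : ℕ, r.Prime → r ≠ l → ¬ r ∣ Nat.card C := by
    intro r hr hrl hd
    haveI : Fact r.Prime := ⟨hr⟩
    obtain ⟨a, ha⟩ := exists_prime_orderOf_dvd_card' (G := C) r hd
    have hc : Commute (a : W) u := Subgroup.mem_centralizer_singleton_iff.1 a.2
    have hr' : r ∣ 20160 := hd.trans hdvd
    have hlp : l.Prime := by rcases hl with rfl | rfl <;> norm_num
    have ho : orderOf ((a : W) * u) = r * l := by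
      rw [← Subgroup.orderOf_coe] at ha
      rw [hc.orderOf_mul_eq_mul_orderOf_of_coprime (by
        rw [ha, hu]; exact (Nat.coprime_primes hr hlp).2 hrl), ha, hu]
    by_cases hr2 : r = 2
    · subst hr2
      rw [← Subgroup.orderOf_coe] at ha
      have := CIT.eq_one_of_odd_of_two (hW (a : W) ha) (CIT.mem_centralizer_singleton' hc.symm.eq)
        (by rw [hu]; rcases hl with rfl | rfl <;> decide)
      rw [this, orderOf_one] at hu
      rcases hl with rfl | rfl <;> norm_num at hu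
    obtain ⟨o1, o2, o3⟩ := orders_ne hF e ((a : W) * u)
    rw [ho] at o1 o2 o3
    have hle7 : r = 3 ∨ r = 5 ∨ r = 7 := by
      have h1 : r ∣ 2 ^ 6 * (3 ^ 2 * (5 * 7)) := by norm_num; exact hr'
      rcases hr.dvd_mul.1 h1 with h | h
      · exact absurd ((Nat.prime_dvd_prime_iff_eq hr Nat.prime_two).1 (hr.dvd_of_dvd_pow h)) hr2
      rcases hr.dvd_mul.1 h with h | h
      · exact Or.inl ((Nat.prime_dvd_prime_iff_eq hr Nat.prime_three).1 (hr.dvd_of_dvd_pow h))
      rcases hr.dvd_mul.1 h with h | h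
      · exact Or.inr (Or.inl ((Nat.prime_dvd_prime_iff_eq hr (by norm_num)).1 h))
      · exact Or.inr (Or.inr ((Nat.prime_dvd_prime_iff_eq hr (by norm_num)).1 h))
    rcases hl with rfl | rfl <;> rcases hle7 with rfl | rfl | rfl <;> simp_all
  obtain ⟨m, hm⟩ := hlC
  have hm1 : m = 1 := by
    by_contra hne
    obtain ⟨r, hr, hrm⟩ := Nat.exists_prime_and_dvd hne
    by_cases hrl : r = l
    · subst hrl
      have h2 : r * r ∣ 20160 := (mul_dvd_mul_left r hrm).trans (hm ▸ hdvd)
      rcases hl with rfl | rfl <;> norm_num at h2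
    · exact hno r hr hrl (hm ▸ hrm.mul_left l)
  rw [hm, hm1, mul_one]

/-- The normaliser of a subgroup of order five or seven. -/
theorem norm_prime (hW : CIT.IsCIT W) (hF : Fintype.card F = 4)
    (e : W ≃* Matrix.ProjectiveSpecialLinearGroup (Fin 3) F) {u : W} :
    (orderOf u = 5 → Nat.card (Subgroup.normalizer (Subgroup.zpowers u : Set W)) = 10) ∧
      (orderOf u = 7 → Nat.card (Subgroup.normalizer (Subgroup.zpowers u : Set W)) = 21) := by
  have hcard : Nat.card W = 20160 := by rw [Nat.card_congr e.toEquiv, card_psl hF]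
  have key : ∀ l : ℕ, (l = 5 ∨ l = 7) → orderOf u = l →
      ∃ k, k ∣ l - 1 ∧ Nat.card (Subgroup.normalizer (Subgroup.zpowers u : Set W)) = l * k ∧
        20160 / (l * k) % l = 1 := by
    intro l hl hu
    haveI : Fact l.Prime := ⟨by rcases hl with rfl | rfl <;> norm_num⟩
    set Z := Subgroup.zpowers u with hZ
    set N := Subgroup.normalizer (Z : Set W) with hN
    -- the automiser
    have hidx : ((Z.subgroupOf N)).index ∣ l - 1 := by
      haveI hn : (Z.subgroupOf N).Normal := Subgroup.normal_in_normalizer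
      have hker : Z.normalizerMonoidHom.ker = Z.subgroupOf N := by
        rw [Subgroup.normalizerMonoidHom_ker]
        ext a
        rw [Subgroup.mem_subgroupOf, Subgroup.mem_subgroupOf]
        constructor
        · intro ha
          show (a : W) ∈ Subgroup.zpowers u
          rw [← cent_prime hW hF e hl hu]
          exact Subgroup.mem_centralizer_singleton_iff.2
            (Subgroup.mem_centralizer_iff.1 ha u (Subgroup.mem_zpowers u)).symm
        · intro ha
          refine Subgroup.mem_centralizer_iff.2 fun b hb => ?_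
          obtain ⟨i, rfl⟩ := hb
          obtain ⟨j, hj⟩ := ha
          rw [← hj]
          exact (Commute.zpow_zpow_self u i j).eq
      rw [← hker, Subgroup.index_ker]
      refine (Subgroup.card_subgroup_dvd_card _).trans ?_
      haveI : IsCyclic ↥Z := by rw [hZ]; infer_instance
      rw [IsCyclic.card_mulAut, Nat.card_zpowers, hu, Nat.totient_prime Fact.out]
    refine ⟨_, hidx, ?_, ?_⟩
    · rw [← Subgroup.card_mul_index (Z.subgroupOf N),
        Nat.card_congr (Subgroup.subgroupOfEquivOfLe Subgroup.le_normalizer).toEquiv, hZ,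
        Nat.card_zpowers, hu]
    · obtain ⟨S, hS⟩ := (IsPGroup.of_card (p := l) (n := 1)
        (show Nat.card Z = l ^ 1 by rw [hZ, Nat.card_zpowers, hu, pow_one])).exists_le_sylow
      have hSc : Nat.card (S : Subgroup W) = l := by
        rw [S.card_eq_multiplicity, hcard]
        rcases hl with rfl | rfl
        · rw [show 20160 = 5 ^ 1 * 4032 by norm_num, Nat.factorization_mul (by norm_num) (by norm_num),
            Finsupp.add_apply, Nat.Prime.factorization_pow Fact.out,
            Nat.factorization_eq_zero_of_not_dvd (by norm_num : ¬ 5 ∣ 4032)]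
          simp
        · rw [show 20160 = 7 ^ 1 * 2880 by norm_num, Nat.factorization_mul (by norm_num) (by norm_num),
            Finsupp.add_apply, Nat.Prime.factorization_pow Fact.out,
            Nat.factorization_eq_zero_of_not_dvd (by norm_num : ¬ 7 ∣ 2880)]
          simp
      have hSe : Z = (S : Subgroup W) :=
        Subgroup.eq_of_le_of_card_ge hS (by rw [hSc, hZ, Nat.card_zpowers, hu])
      have h1 := card_sylow_modEq_one l W
      rw [S.card_eq_index_normalizer, Nat.ModEq, Nat.one_mod_eq_one.2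
        (Fact.out : l.Prime).one_lt.ne',
        show Subgroup.normalizer (S : Set W) = N by rw [hN, hSe]; rfl] at h1
      have h2 := Subgroup.card_mul_index N
      rw [hcard] at h2
      have h3 : Nat.card N = l * (Z.subgroupOf N).index := by
        rw [← Subgroup.card_mul_index (Z.subgroupOf N),
          Nat.card_congr (Subgroup.subgroupOfEquivOfLe Subgroup.le_normalizer).toEquiv, hZ,
          Nat.card_zpowers, hu]
      rw [← h3, ← h2, Nat.mul_div_cancel_left _ Nat.card_pos]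
      exact h1
  constructor
  · intro hu
    obtain ⟨k, hk, hN, hm⟩ := key 5 (Or.inl rfl) hu
    rw [hN]
    have : k ≤ 4 := Nat.le_of_dvd (by norm_num) hk
    interval_cases k <;> simp_all
  · intro hu
    obtain ⟨k, hk, hN, hm⟩ := key 7 (Or.inr rfl) hu
    rw [hN]
    have : k ≤ 6 := Nat.le_of_dvd (by norm_num) hk
    interval_cases k <;> simp_all

end Cfsg.Agent.Lib.SuzSeven52
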