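import Cfsg.Agent.Lib.SuzSeven52.Card
import Cfsg.Agent.Lib.SuzSeven52.PslOrders

/-!
# Suzuki type: no element outside the four-group's centraliser centralises an element of order 5 or 7

Owner: helper52.
-/

set_option autoImplicit false
set_option maxRecDepth 100000

namespace Cfsg.Agent.Lib.SuzSeven52

open Cfsg.Agent.Lib.SuzType52 Cfsg.Agent.Lib

theorem comm_fix_aux : v4.all (fun a => v4.all fun b =>
    qn b || Nat.beq b 0 || Nat.beq (b &&& 12) 12 ||
      (List.range 64).any fun k => !(Nat.beq (wn 3 a (eich b k)) (eich b (wn 3 a k)))) = true := by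
  decide +kernel

theorem mask_fix_aux : ∀ y ∈ [0, 4, 8, 12], (tw 3 y = y → y = 0 ∨ y = 12) ∧
    (tw 3 y ^^^ y = 0 ∨ tw 3 y ^^^ y = 12) := by decide +kernel

theorem H0_length : (Ml.filter fun m => Nat.beq (aOf m) 0).length = 16 := by decide +kernel

theorem S12_length : (Ml.filter fun m => Nat.beq (aOf m) 0 && (Nat.beq (vOf m) 0 || Nat.beq (vOf m) 12)).length = 8 := by
  decide +kernel

theorem x_code : (256 : ℕ) ∈ Ml.filter fun m => Nat.beq (aOf m) 0 && (Nat.beq (vOf m) 0 || Nat.beq (vOf m) 12) := by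
  decide +kernel

variable {G : Type*} [Group G] {z : G} {Q : Subgroup G} {co : G → ℕ} {ac : G → ℕ → ℕ} {x n : G}
  {gen : ℕ → G} {w v g q r : G}

namespace Pack

variable [Finite G] (p : Pack z Q co ac x n gen w v g q r)
include p

theorem bar_pow {y : G} (hy : y ∈ CV w v) (m : ℕ) : bar w v (y ^ m) = bar w v y ^ m := by
  induction m with
  | zero => simp [bar_one]
  | succ m ih => rw [pow_succ, bar_mul (pow_mem hy m) hy, ih, pow_succ]

theorem orderOf_bar {f : G} {l : ℕ} (hl : l = 5 ∨ l = 7) (hf : f ∈ CV w v) (ho : orderOf f = l) :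
    orderOf (bar w v f) = l := by
  have : Fact l.Prime := ⟨by rcases hl with rfl | rfl <;> norm_num⟩
  refine orderOf_eq_prime (by rw [← p.bar_pow hf, ← ho, pow_orderOf_eq_one, bar_one]) fun h => ?_
  have h2 := p.V_sq ((bar_eq_one hf).1 h)
  have := orderOf_dvd_of_pow_eq_one (show f ^ 2 = 1 by rw [pow_two, h2])
  rw [ho] at this
  rcases hl with rfl | rfl <;> norm_num at this

/-- The centraliser in `C(V)` of an element of order five or seven. -/
theorem cent_CV {f : G} {l : ℕ} (hl : l = 5 ∨ l = 7) (hf : f ∈ CV w v) (ho : orderOf f = l) {y : G}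
    (hy : y ∈ CV w v) (hc : Commute y f) :
    ∃ a ∈ Subgroup.closure ({w, v} : Set G), ∃ i : ℤ, y = a * f ^ i := by
  obtain ⟨F, iF, iFin, hF, ⟨e⟩⟩ := p.exists_psl'
  have hm : bar w v y ∈ Subgroup.zpowers (bar w v f) := by
    rw [← cent_prime p.isCIT hF e hl (p.orderOf_bar hl hf ho), Subgroup.mem_centralizer_singleton_iff,
      ← bar_mul hy hf, ← bar_mul hf hy, hc.eq]
  obtain ⟨i, hi⟩ := hm
  refine ⟨y * (f ^ i)⁻¹, ?_, i, by group⟩
  have hfi := zpow_mem hf i
  have he : bar w v (f ^ i) = bar w v f ^ i := by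
    rw [bar_of_mem hfi, bar_of_mem hf]
    rfl
  rw [← bar_eq_one (mul_mem hy (inv_mem hfi)), bar_mul hy (inv_mem hfi), bar_inv hfi, he, mul_inv_eq_one]
  exact hi.symm

/-- A conjugate of `z` in the coded centraliser commuting with an outer element. -/
theorem fixed_ztype {t i : G} (ht : t ∈ TT z w) (htn : t ∉ CZ z w v) (hi : i ∈ CZ z w v)
    (hz : IsConj z i) (hc : Commute t i) : i = z := by
  have d := p.std.duo
  have s := p.std
  obtain ⟨htz, htw⟩ := mem_cent_two.1 ht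
  rcases s.cases_T htz (p.w_eq ▸ htw) with ⟨m', hm', e⟩ | ⟨htx, a, ha, hk⟩
  · exact absurd (p.mem_CZ.2 ⟨m', hm', e⟩) htn
  obtain ⟨m, hm, em⟩ := p.mem_CZ.1 hi
  have hlt := (mem_Ml.1 hm).1
  have hiz := (phi_comm d s.gens hlt).1
  have hii : i * i = 1 := by
    obtain ⟨c, hc'⟩ := isConj_iff.1 hz
    rw [← hc', show c * z * c⁻¹ * (c * z * c⁻¹) = c * (z * z) * c⁻¹ by group, d.fr.es.sq]
    group
  have hmm : mu m m = 0 := s.sq_eq_zero hlt (em ▸ hii)
  have hm0 : m ≠ 0 := fun h0 => by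
    rw [h0, phi_zero d s.gens] at em
    rw [← em] at hz
    have := d.fr.ord
    rw [isConj_one_left.1 hz] at this
    simp at this
  have hq : qn (aOf m) = false := (s.isConj_iff hlt hmm hm0).1 (em ▸ hz)
  have hcomm : ∀ j < 64, wn 3 a (eich (aOf m) j) = eich (aOf m) (wn 3 a j) := fun j hj => by
    rw [← phi_act d s.gens hlt j hj, ← hk _ (d.fr.ac_lt hiz hj), ← hk j hj,
      ← phi_act d s.gens hlt _ (d.fr.ac_lt htz hj), em,
      ← d.fr.ac_mul htz (em ▸ hiz) hj, ← d.fr.ac_mul (em ▸ hiz) htz hj, hc.eq]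
  have h := List.all_eq_true.1 (List.all_eq_true.1 comm_fix_aux a ha) _ (aOf_mem m hlt)
  rw [hq, Bool.false_or, Bool.or_eq_true, Bool.or_eq_true] at h
  rcases h with (h0 | h12) | hany
  · -- in `Q`
    have h0' := Nat.eq_of_beq_eq_true h0
    have hiQ : i ∈ Q := d.fr.faithful i (em ▸ hiz) fun j hj => by
      rw [← em, phi_act d s.gens hlt j hj, h0', eich_zero hj]
    obtain ⟨m₂, -, -, -, hix, hmask⟩ := p.code_Q hiQ (mem_cent_three.1 hi).2.1
    have hb := (d.commute_x_iff hiQ).1 hix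
    have hlt' := d.fr.co_lt i hiQ
    have hfix : tw 3 (co i &&& 60) = co i &&& 60 := by
      have := List.all_eq_true.1 (List.all_eq_true.1 tw_mask_aux a ha) _ (List.mem_range.2 hlt')
      rw [hb, Bool.false_or] at this
      rw [← Nat.eq_of_beq_eq_true this, ← hk _ hlt', ← d.fr.conj t htz i hiQ,
        mul_inv_eq_iff_eq_mul.2 hc.eq]
    have hqi : qn (co i) = false := by
      have h := d.fr.sq i hiQ
      rw [hii] at h
      cases hq' : qn (co i) with
      | false => rfl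
      | true =>
        rw [hq'] at h
        have := d.fr.ord
        rw [show z = 1 from h.symm] at this
        simp at this
    have h60 : co i &&& 60 = 0 := by
      refine ((mask_fix_aux _ hmask).1 hfix).resolve_right fun e => ?_
      rw [mask_qn_aux _ hlt' hb e] at hqi
      exact Bool.noConfusion hqi
    have hco : co i = co (1 : G) ∨ co i = co x := by
      rw [d.fr.co_one, d.cox]
      have key : ∀ k < 64, b1 k = false → k &&& 60 = 0 → k = 0 ∨ k = 1 := by decide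
      exact key _ hlt' hb h60
    rcases hco with e | e
    · rcases d.fr.co_eq (one_mem Q) hiQ e.symm with h | h
      · rw [h] at hz
        have := d.fr.ord
        rw [isConj_one_left.1 hz] at this
        simp at this
      · rw [h, one_mul]
    · exfalso
      rcases d.fr.co_eq d.xQ hiQ e.symm with h | h
      · rw [h] at hc
        rw [hc.eq, mul_inv_cancel_right] at htx
        exact d.fr.es.ne (left_eq_mul.1 htx)
      · rw [h] at hc
        have h2 : t * (x * z) * t⁻¹ = x * z := mul_inv_eq_iff_eq_mul.2 hc.eq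
        rw [← conj_mul, htx, mul_inv_eq_iff_eq_mul.2 htz.eq, mul_assoc, d.fr.es.sq, mul_one] at h2
        exact d.fr.es.ne (left_eq_mul.1 h2)
  · exfalso
    obtain ⟨e₀, he₀, -, -⟩ := p.code
    have h' := List.all_eq_true.1 (List.all_eq_true.1 fixed_aux e₀ (List.mem_range.2 he₀)) m hm
    have h0V : inV e₀ (mu m m) = true := inV_of_mem (by rw [hmm]; simp [Vl])
    rw [Nat.eq_of_beq_eq_true h12, Nat.beq_refl, h0V] at h'
    exact absurd h' (by simp)
  · exfalso
    obtain ⟨j, hj, hne⟩ := List.any_eq_true.1 hany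
    rw [hcomm j (List.mem_range.1 hj), Nat.beq_refl] at hne
    exact absurd hne (by simp)

theorem T_sq {t : G} (ht : t ∈ TT z w) : t * t ∈ CZ z w v :=
  mem_cent_three.2 ⟨(mem_cent_two.1 ht).1.mul_left (mem_cent_two.1 ht).1,
    (mem_cent_two.1 ht).2.mul_left (mem_cent_two.1 ht).2, (mem_cent_two.1 (p.sq_mem_CV (mem_cent_two.1 ht).2)).2⟩

/-- An outer element of `T` commutes with no element of order five or seven of `C(V)`. -/
theorem outer_T {t f : G} {l : ℕ} (hl : l = 5 ∨ l = 7) (ht : t ∈ TT z w) (htn : t ∉ CZ z w v)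
    (hf : f ∈ CV w v) (ho : orderOf f = l) (hc : Commute t f) : False := by
  classical
  haveI : Fact (Nat.Prime 2) := ⟨Nat.prime_two⟩
  haveI : Fact l.Prime := ⟨by rcases hl with rfl | rfl <;> norm_num⟩
  obtain ⟨htz, htw⟩ := mem_cent_two.1 ht
  have hfodd : Odd (orderOf f) := by rw [ho]; rcases hl with rfl | rfl <;> decide
  set D := CV w v ⊓ Subgroup.centralizer ({t} : Set G) with hD
  have hDt : ∀ {y : G}, y ∈ D ↔ y ∈ CV w v ∧ Commute y t := fun {y} => by
    rw [hD, Subgroup.mem_inf, Subgroup.mem_centralizer_singleton_iff]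
    rfl
  let zD : ↥D := ⟨z, hDt.2 ⟨p.CZ_le_CV p.z_mem, htz.symm⟩⟩
  let fD : ↥D := ⟨f, hDt.2 ⟨hf, hc.symm⟩⟩
  set Z0 := Subgroup.centralizer ({zD} : Set ↥D) with hZ0
  have hZ0M : ∀ y : ↥D, y ∈ Z0 → (y : G) ∈ CZ z w v := by
    intro y hy
    refine mem_cent_three.2 ⟨?_, mem_cent_two.1 (hDt.1 y.2).1⟩
    exact congrArg Subtype.val (Subgroup.mem_centralizer_singleton_iff.1 hy)
  have hZ0p : IsPGroup 2 Z0 :=
    (IsPGroup.comap_of_injective p.isPGroup_CZ D.subtype D.subtype_injective).to_le hZ0M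
  have hfix : ∀ i : ↥D, IsConj z (i : G) → Commute i zD → i = zD := fun i hi hc' =>
    Subtype.ext (p.fixed_ztype ht htn
      (mem_cent_three.2 ⟨congrArg Subtype.val hc'.eq, mem_cent_two.1 (hDt.1 i.2).1⟩) hi (hDt.1 i.2).2.symm)
  have hz2 : zD * zD = 1 := Subtype.ext p.std.duo.fr.es.sq
  have hzord : orderOf zD = 2 := by rw [← Subgroup.orderOf_coe]; exact p.std.duo.fr.ord
  have hzZ : zD ∈ Z0 := Subgroup.mem_centralizer_singleton_iff.2 rfl
  obtain ⟨P, hP⟩ := hZ0p.exists_le_sylow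
  have hPe : (P : Subgroup ↥D) = Z0 := by
    refine le_antisymm (fun y hy => ?_) hP
    by_contra hyn
    have hlt : Z0.subgroupOf (P : Subgroup ↥D) < ⊤ := lt_top_iff_ne_top.2 fun e => hyn (by
      rw [Subgroup.subgroupOf_eq_top] at e
      exact e hy)
    haveI : Group.IsNilpotent ↥(P : Subgroup ↥D) := P.2.isNilpotent
    obtain ⟨a, ha, haZ⟩ := SetLike.exists_of_lt (Group.normalizerCondition_of_isNilpotent _ hlt)
    rw [Subgroup.mem_subgroupOf] at haZ
    have h := (Subgroup.mem_normalizer_iff.1 ha ⟨zD, hP hzZ⟩).1 (Subgroup.mem_subgroupOf.2 hzZ)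
    have h' : Commute ((a : ↥D) * zD * (a : ↥D)⁻¹) zD :=
      Subgroup.mem_centralizer_singleton_iff.1 (Subgroup.mem_subgroupOf.1 h)
    refine haZ (Subgroup.mem_centralizer_singleton_iff.2 (mul_inv_eq_iff_eq_mul.1 ?_))
    exact hfix _ (isConj_iff.2 ⟨((a : ↥D) : G), rfl⟩) h'
  obtain ⟨N, hN, hodd, hcen⟩ := S0215.result P zD hzord (hP hzZ) fun c hc' =>
    hfix _ (isConj_iff.2 ⟨(c : G), rfl⟩) (Subgroup.mem_centralizer_singleton_iff.1 (show c * zD * c⁻¹ ∈ Z0 by rw [← hPe]; exact hc'))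
  have hNfix : ∀ a ∈ N, Commute zD a → a = 1 := fun a ha hc' =>
    CIT.eq_one_of_odd_of_two hZ0p (CIT.mem_centralizer_singleton' hc'.symm.eq)
      (hodd.of_dvd_nat (Subgroup.orderOf_dvd_natCard N ha))
  -- every element is `N` times a fixed one
  have hdec : ∀ d : ↥D, ∃ m ∈ N, m * d ∈ Z0 := by
    intro d
    let φ : N → N := fun m => ⟨(zD * m * zD⁻¹)⁻¹ * m,
      mul_mem (inv_mem (hN.conj_mem _ m.2 _)) m.2⟩
    have hinj : Function.Injective φ := fun a b h => by
      have h' : (zD * (a : ↥D) * zD⁻¹)⁻¹ * a = (zD * b * zD⁻¹)⁻¹ * b := congrArg Subtype.val h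
      have h2 : zD * (b * (a : ↥D)⁻¹) * zD⁻¹ = b * (a : ↥D)⁻¹ := by
        calc zD * (b * (a : ↥D)⁻¹) * zD⁻¹ = zD * b * zD⁻¹ * ((zD * (a : ↥D) * zD⁻¹)⁻¹ * a) * (a : ↥D)⁻¹ := by group
          _ = b * (a : ↥D)⁻¹ := by rw [h']; group
      exact Subtype.ext (mul_inv_eq_one.1 (hNfix _ (mul_mem b.2 (inv_mem a.2))
        (mul_inv_eq_iff_eq_mul.1 h2))).symm
    obtain ⟨m, hm⟩ := Finite.surjective_of_injective hinj ⟨zD * d * zD⁻¹ * d⁻¹, hcen d⟩
    have hm' : (zD * (m : ↥D) * zD⁻¹)⁻¹ * m = zD * d * zD⁻¹ * d⁻¹ := congrArg Subtype.val hm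
    refine ⟨m, m.2, Subgroup.mem_centralizer_singleton_iff.2 ?_⟩
    calc (m : ↥D) * d * zD = zD * (m : ↥D) * zD⁻¹ * ((zD * (m : ↥D) * zD⁻¹)⁻¹ * m) * d * zD := by group
      _ = zD * ((m : ↥D) * d) := by rw [hm']; group
  have hfN : fD ∈ N := by
    haveI := hN
    obtain ⟨m, hm, hmf⟩ := hdec fD
    obtain ⟨j, hj⟩ := hZ0p ⟨_, hmf⟩
    have hj' : (m * fD) ^ 2 ^ j = 1 := by simpa using congrArg Subtype.val hj
    have h1 : (QuotientGroup.mk fD : ↥D ⧸ N) ^ 2 ^ j = 1 := by
      have e : (QuotientGroup.mk (m * fD) : ↥D ⧸ N) = QuotientGroup.mk fD := by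
        rw [QuotientGroup.mk_mul, (QuotientGroup.eq_one_iff m).2 hm, one_mul]
      rw [← e, ← QuotientGroup.mk_pow, hj', QuotientGroup.mk_one]
    have h2 : (QuotientGroup.mk fD : ↥D ⧸ N) ^ l = 1 := by
      rw [← QuotientGroup.mk_pow, show fD ^ l = 1 from Subtype.ext (by
        show f ^ l = 1
        rw [← ho, pow_orderOf_eq_one]), QuotientGroup.mk_one]
    have hd := Nat.dvd_gcd (orderOf_dvd_of_pow_eq_one h1) (orderOf_dvd_of_pow_eq_one h2)
    rw [show Nat.gcd (2 ^ j) l = 1 from Nat.Coprime.pow_left j (by rcases hl with rfl | rfl <;> norm_num),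
      Nat.dvd_one, orderOf_eq_one_iff] at hd
    exact (QuotientGroup.eq_one_iff fD).1 hd
  have hinv := fpf_inv hz2 (fun k hk => hN.conj_mem k hk zD) hNfix
  have hab : ∀ a ∈ N, ∀ b ∈ N, Commute a b := by
    intro a ha b hb
    have h := hinv _ (mul_mem ha hb)
    rw [mul_inv_rev, ← conj_mul, hinv a ha, hinv b hb, ← mul_inv_rev, ← mul_inv_rev] at h
    exact (inv_injective h).symm
  have hNf : ∀ a ∈ N, (a : G) ∈ Subgroup.zpowers f := by
    intro a ha
    obtain ⟨b, hb, i, e⟩ := p.cent_CV hl hf ho (hDt.1 a.2).1 (congrArg Subtype.val (hab a ha fD hfN).eq)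
    have hoa : Odd (orderOf (a : G)) := by
      rw [Subgroup.orderOf_coe]
      exact hodd.of_dvd_nat (Subgroup.orderOf_dvd_natCard N ha)
    obtain ⟨k, hk⟩ := hoa
    have hbf : Commute b (f ^ i) := (comm_closure hb (zpow_mem hf i)).symm
    have e2 : (a : G) * a = f ^ i * f ^ i := by
      rw [e, show b * f ^ i * (b * f ^ i) = b * (f ^ i * b) * f ^ i by group, ← hbf.eq,
        show b * (b * f ^ i) * f ^ i = b * b * (f ^ i * f ^ i) by group, p.V_sq hb, one_mul]
    have e3 : ((a : G) * a) ^ (k + 1) = a := by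
      rw [← pow_two, ← pow_mul, show 2 * (k + 1) = orderOf (a : G) + 1 by omega, pow_succ,
        pow_orderOf_eq_one, one_mul]
    rw [← e3, e2]
    exact pow_mem (mul_mem (zpow_mem (Subgroup.mem_zpowers f) i) (zpow_mem (Subgroup.mem_zpowers f) i)) _
  have hDn : ∀ d : ↥D, (d : G) * f * (d : G)⁻¹ ∈ Subgroup.zpowers f := fun d =>
    hNf _ (hN.conj_mem fD hfN d)
  -- inside the quotient
  obtain ⟨F, iF, iFin, hF, ⟨e⟩⟩ := p.exists_psl'
  have hfb := p.orderOf_bar hl hf ho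
  set NF := Subgroup.normalizer (Subgroup.zpowers (bar w v f) : Set (WQ w v)) with hNF
  have hDNF : ∀ d : ↥D, bar w v (d : G) ∈ NF := by
    intro d
    have hd := (hDt.1 d.2).1
    refine Subgroup.mem_normalizer_iff_map_conj_eq.2 (Subgroup.eq_of_le_of_card_ge ?_
      (Subgroup.card_map_of_injective (MulAut.conj _).injective).ge)
    rw [MonoidHom.map_zpowers, Subgroup.zpowers_le]
    obtain ⟨i, hi⟩ := hDn d
    refine ⟨i, ?_⟩
    show bar w v f ^ i = bar w v (d : G) * bar w v f * (bar w v (d : G))⁻¹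
    rw [← bar_conj hd hf]
    simp only at hi
    rw [← hi, bar_of_mem (zpow_mem hf i), bar_of_mem hf]
    rfl
  have hzNF : bar w v z ∈ NF := hDNF zD
  have hz1 := p.bar_z_mem.1
  rcases hl with rfl | rfl
  swap
  · have h := Subgroup.orderOf_dvd_natCard NF hzNF
    rw [hz1, (norm_prime p.isCIT hF e).2 hfb] at h
    norm_num at h
  -- order five
  have hNc := (norm_prime p.isCIT hF e).1 hfb
  have hsmall : ∀ y : G, y ∈ CZ z w v → Commute y t → bar w v y = 1 ∨ bar w v y = bar w v z := by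
    intro y hy hyt
    have hy' := p.CZ_le_CV hy
    set B := NF ⊓ SB z w v with hB
    have hBc : Nat.card B ≤ 2 := by
      obtain ⟨j, hj⟩ := IsPGroup.iff_card.1 (p.isPGroup_SB.to_le (inf_le_right : B ≤ SB z w v))
      have hd : Nat.card B ∣ 10 := hNc ▸ Subgroup.card_dvd_of_le (inf_le_left : B ≤ NF)
      rw [hj] at hd ⊢
      by_contra h
      push Not at h
      have hj2 : 2 ≤ j := by
        by_contra h'
        have : 2 ^ j ≤ 2 := by interval_cases j <;> norm_num
        omega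
      have h4 : 2 ^ 2 ∣ 10 := (pow_dvd_pow 2 hj2).trans hd
      norm_num at h4
    by_contra hne
    push Not at hne
    haveI : Fintype ↥B := Fintype.ofFinite _
    let a₁ : ↥B := 1
    let a₂ : ↥B := ⟨bar w v z, hzNF, p.bar_mem_SB p.z_mem⟩
    let a₃ : ↥B := ⟨bar w v y, hDNF ⟨y, hDt.2 ⟨hy', hyt⟩⟩, p.bar_mem_SB hy⟩
    have h12 : a₁ ≠ a₂ := fun h => by
      rw [show bar w v z = 1 from (congrArg Subtype.val h).symm, orderOf_one] at hz1
      norm_num at hz1
    have h13 : a₁ ≠ a₃ := fun h => hne.1 (congrArg Subtype.val h).symm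
    have h23 : a₂ ≠ a₃ := fun h => hne.2 (congrArg Subtype.val h).symm
    have hc3 : ({a₁, a₂, a₃} : Finset ↥B).card = 3 := by
      rw [Finset.card_insert_of_notMem (by simp [h12, h13]), Finset.card_pair h23]
    have := Finset.card_le_univ ({a₁, a₂, a₃} : Finset ↥B)
    rw [hc3, ← Nat.card_eq_fintype_card] at this
    omega
  -- elements of `Q` commuting with `t`
  have hQt : ∀ y, y ∈ Q → y ∈ CZ z w v → Commute y t → y = 1 ∨ y = z := by
    intro y hy hyM hyt
    rcases hsmall y hyM hyt with h | h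
    · exact Or.inl (p.V_inf_Q ((bar_eq_one (p.CZ_le_CV hyM)).1 h) hy)
    · refine Or.inr (inv_mul_eq_one.1 (p.V_inf_Q ((bar_eq (p.CZ_le_CV hyM) (p.CZ_le_CV p.z_mem)).1 h)
        (mul_mem (inv_mem hy) p.std.duo.fr.es.mem)))
  -- the square of `t` is central in the coded centraliser
  have htt : ∀ y ∈ CZ z w v, Commute (t * t) y := by
    intro y hy
    have key : ∀ a : G, a ∈ Subgroup.closure ({w, v} : Set G) → Commute a y := fun a ha =>
      (comm_closure ha (p.CZ_le_CV hy)).symm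
    rcases hsmall _ (p.T_sq ht) ((Commute.refl t).mul_left (Commute.refl t)) with h | h
    · exact key _ ((bar_eq_one (p.CZ_le_CV (p.T_sq ht))).1 h)
    · have h' := (bar_eq (p.CZ_le_CV p.z_mem) (p.CZ_le_CV (p.T_sq ht))).1 h.symm
      have := (mem_cent_three.1 hy).1.symm.mul_left (key _ h')
      rwa [mul_inv_cancel_left] at this
  -- count
  have s := p.std
  have d := s.duo
  rcases s.cases_T htz (p.w_eq ▸ htw) with ⟨m', hm', e'⟩ | ⟨htx, a, ha, hk⟩
  · exact htn (p.mem_CZ.2 ⟨m', hm', e'⟩)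
  set A := ((Ml.filter fun m => Nat.beq (aOf m) 0).toFinset.image (phi gen z x)) with hA
  set B := ((Ml.filter fun m => Nat.beq (aOf m) 0 && (Nat.beq (vOf m) 0 || Nat.beq (vOf m) 12)).toFinset.image
    (phi gen z x)) with hB
  have hinjOn : ∀ L : List ℕ, (∀ m ∈ L, m ∈ Ml) → L.Nodup →
      (L.toFinset.image (phi gen z x)).card = L.length := by
    intro L hL hnd
    rw [Finset.card_image_of_injOn, List.toFinset_card_of_nodup hnd]
    intro a ha b hb e
    simp only [Finset.mem_coe, List.mem_toFinset] at ha hb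
    exact phi_inj d s.gens (mem_Ml.1 (hL a ha)).1 (mem_Ml.1 (hL b hb)).1 e
  have hAc : A.card = 16 := by
    rw [hA, hinjOn _ (fun m hm => List.mem_of_mem_filter hm) (Ml_nodup.filter _), H0_length]
  have hBc : B.card = 8 := by
    rw [hB, hinjOn _ (fun m hm => List.mem_of_mem_filter hm) (Ml_nodup.filter _), S12_length]
  have hAmem : ∀ y ∈ A, y ∈ Q ∧ y ∈ CZ z w v := by
    intro y hy
    obtain ⟨m, hm, rfl⟩ := Finset.mem_image.1 hy
    obtain ⟨hm, h0⟩ := List.mem_filter.1 (List.mem_toFinset.1 hm)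
    refine ⟨d.fr.faithful _ (phi_comm d s.gens (mem_Ml.1 hm).1).1 fun j hj => ?_, p.mem_CZ.2 ⟨m, hm, rfl⟩⟩
    rw [phi_act d s.gens (mem_Ml.1 hm).1 j hj, Nat.eq_of_beq_eq_true h0, eich_zero hj]
  let ψ : G → G := fun y => t * y * t⁻¹ * y⁻¹
  have hψ : ∀ y ∈ A, ψ y ∈ B := by
    intro y hy
    obtain ⟨hyQ, hyM⟩ := hAmem y hy
    have hyQ' := d.fr.norm t htz y hyQ
    have hψQ : ψ y ∈ Q := mul_mem hyQ' (inv_mem hyQ)
    have hyw : Commute y w := (mem_cent_three.1 hyM).2.1
    have hψw : Commute (ψ y) w := ((htw.mul_left hyw).mul_left htw.inv_left).mul_left hyw.inv_left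
    obtain ⟨m, hm, em, am, -, -⟩ := p.code_Q hψQ hψw
    obtain ⟨my, -, -, -, hyx, hymask⟩ := p.code_Q hyQ hyw
    have hb := (d.commute_x_iff hyQ).1 hyx
    have hlt := d.fr.co_lt y hyQ
    have hv : vOf m = tw 3 (co y &&& 60) ^^^ (co y &&& 60) := by
      rw [← s.mask_Q (mem_Ml.1 hm).1 am, em, d.fr.co_mul _ hyQ' _ (inv_mem hyQ), d.fr.co_inv hyQ,
        xor_mask, d.fr.conj t htz y hyQ, hk _ hlt]
      have := List.all_eq_true.1 (List.all_eq_true.1 tw_mask_aux a ha) _ (List.mem_range.2 hlt)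
      rw [hb, Bool.false_or] at this
      rw [Nat.eq_of_beq_eq_true this]
    refine Finset.mem_image.2 ⟨m, List.mem_toFinset.2 (List.mem_filter.2 ⟨hm, ?_⟩), em⟩
    rw [am, hv]
    rcases (mask_fix_aux _ hymask).2 with h | h <;> rw [h] <;> decide
  have hfib : ∀ b ∈ A.image ψ, (A.filter fun y => ψ y = b).card ≤ 2 := by
    intro b hb
    obtain ⟨y₀, hy₀, rfl⟩ := Finset.mem_image.1 hb
    refine (Finset.card_le_card (t := ({y₀, y₀ * z} : Finset G)) fun y hy => ?_).trans Finset.card_le_two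
    obtain ⟨hyA, hye⟩ := Finset.mem_filter.1 hy
    obtain ⟨h1, h2⟩ := hAmem y hyA
    obtain ⟨h3, h4⟩ := hAmem y₀ hy₀
    have he : t * y * t⁻¹ * y⁻¹ = t * y₀ * t⁻¹ * y₀⁻¹ := hye
    have hcm : Commute (y₀⁻¹ * y) t := by
      refine Commute.symm (mul_inv_eq_iff_eq_mul.1 ?_)
      calc t * (y₀⁻¹ * y) * t⁻¹ = (t * y₀ * t⁻¹)⁻¹ * (t * y * t⁻¹ * y⁻¹) * y := by group
        _ = y₀⁻¹ * y := by rw [he]; group
    rcases hQt _ (mul_mem (inv_mem h3) h1) (mul_mem (inv_mem h4) h2) hcm with h | h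
    · simp [(inv_mul_eq_one.1 h).symm]
    · simp [inv_mul_eq_iff_eq_mul.1 h]
  have himg : A.image ψ = B := by
    refine Finset.eq_of_subset_of_card_le (Finset.image_subset_iff.2 hψ) ?_
    have := Finset.card_le_mul_card_image A 2 hfib
    omega
  have hxB : x ∈ B := by
    refine Finset.mem_image.2 ⟨256, List.mem_toFinset.2 x_code, ?_⟩
    rw [s.phi_low (by norm_num), show 256 &&& 255 = 0 from rfl, phi_zero d s.gens, one_mul]
    simp [ee2, Nat.testBit, ee, pw]
  rw [← himg] at hxB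
  obtain ⟨y, hy, hye⟩ := Finset.mem_image.1 hxB
  have hye' : t * y * t⁻¹ * y⁻¹ = x := hye
  have htty := htt y (hAmem y hy).2
  have h1 : t * x * t⁻¹ = x⁻¹ := by
    rw [← hye']
    calc t * (t * y * t⁻¹ * y⁻¹) * t⁻¹ = t * t * y * (t * t)⁻¹ * (t * y * t⁻¹)⁻¹ := by group
      _ = y * (t * y * t⁻¹)⁻¹ := by rw [htty.eq, mul_inv_cancel_right]
      _ = _ := by group
  rw [htx, inv_eq_of_mul_eq_one_right d.xsq] at h1
  exact d.fr.es.ne (left_eq_mul.1 h1.symm)

/-- An element centralising `w` and an element of order five or seven centralises `v`. -/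
theorem mem_CV_of_commute {f y : G} {l : ℕ} (hl : l = 5 ∨ l = 7) (hf : Commute f w)
    (ho : orderOf f = l) (hyw : Commute y w) (hc : Commute y f) : y ∈ CV w v := by
  classical
  haveI : Fact (Nat.Prime 2) := ⟨Nat.prime_two⟩
  by_contra hy
  set C := Subgroup.centralizer ({w} : Set G) with hC
  obtain ⟨a, m, hm, hord⟩ := Nat.exists_eq_two_pow_mul_odd (n := orderOf y) (orderOf_pos y).ne'
  set t := y ^ m with ht
  have htn : t ∉ CV w v := by
    intro h
    obtain ⟨k, hk⟩ := hm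
    refine hy ?_
    have h2 := pow_mem (p.sq_mem_CV hyw) k
    have : (y * y) ^ k * y = t := by
      rw [← pow_two, ← pow_mul, ← pow_succ, ht, hk]
    have h3 := mul_mem (inv_mem h2) h
    rwa [← this, inv_mul_cancel_left] at h3
  have ht2 : t ^ 2 ^ a = 1 := by rw [ht, ← pow_mul, mul_comm, ← hord, pow_orderOf_eq_one]
  have htw : Commute t w := hyw.pow_left m
  let tC : ↥C := ⟨t, Subgroup.mem_centralizer_singleton_iff.2 htw.eq⟩
  have hp : IsPGroup 2 ↥(Subgroup.zpowers tC) := by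
    obtain ⟨j, -, hj⟩ := (Nat.dvd_prime_pow Nat.prime_two).1
      (orderOf_dvd_of_pow_eq_one (show tC ^ 2 ^ a = 1 from Subtype.ext (by simpa using ht2)))
    exact IsPGroup.of_card (n := j) (by rw [Nat.card_zpowers, hj])
  obtain ⟨S, hS⟩ := hp.exists_le_sylow
  obtain ⟨S₀, hS₀⟩ :=
    (IsPGroup.comap_of_injective p.isPGroup_T C.subtype C.subtype_injective).exists_le_sylow
  have hS₀e : (S₀ : Subgroup C).map C.subtype = TT z w :=
    p.T_max (S₀.2.map _) (fun y hy => ⟨⟨y, Subgroup.mem_centralizer_singleton_iff.2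
      (mem_cent_two.1 hy).2.eq⟩, hS₀ hy, rfl⟩) (Subgroup.map_subtype_le _)
  obtain ⟨c, hc'⟩ := MulAction.exists_smul_eq C S S₀
  have hcw : Commute (c : G) w := Subgroup.mem_centralizer_singleton_iff.1 c.2
  have hT : (c : G) * t * (c : G)⁻¹ ∈ TT z w := by
    rw [← hS₀e]
    exact ⟨c * tC * c⁻¹, hc' ▸ ⟨_, hS (Subgroup.mem_zpowers tC), rfl⟩, rfl⟩
  have hfCV := p.mem_CV_of_odd hf (by rw [ho]; rcases hl with rfl | rfl <;> decide)
  refine p.outer_T hl hT (fun h => htn ?_) (p.normal_CV hcw hfCV) ?_ ?_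
  · have := p.normal_CV hcw.inv_left (p.CZ_le_CV h)
    rwa [show (c : G)⁻¹ * ((c : G) * t * (c : G)⁻¹) * (c : G)⁻¹⁻¹ = t by group] at this
  · rw [← MulAut.conj_apply, MulEquiv.orderOf_eq, ho]
  · simpa using (hc.pow_left m).map (MulAut.conj (c : G)).toMonoidHom

end Pack

end Cfsg.Agent.Lib.SuzSeven52
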