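import Cfsg.Agent.Lib.SuzSeven52.Four

/-!
# Suzuki type: the chosen four-group `{1, w, v, v w}`

An element of order three centralises it and carries `z` into `Q`; another one rotates it and
centralises `z`.

Owner: helper52.
-/

set_option autoImplicit false
set_option maxRecDepth 100000

namespace Cfsg.Agent.Lib.SuzSeven52

open Cfsg.Agent.Lib.SuzType52

theorem wn_not_id : ∀ a ∈ v4, ∃ k < 64, wn 3 a k ≠ k := by decide +kernel

theorem fixed_outer_aux : v4.all (fun a => (List.range 64).all fun j => (List.range 64).all fun k =>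
    b1 j || b1 k || !(Nat.beq (wn 3 a j) j) || !(Nat.beq (wn 3 a k) k) || bn 16 j || bn 16 k ||
      bn (j &&& 60) 32 || bn (k &&& 60) 32 || !(bn j k)) = true := by decide +kernel

theorem Ml_Q_aux : Ml.all (fun p => !(Nat.beq (aOf p) 0) ||
    (!(bn 16 (vOf p)) && !(bn (vOf p) 32))) = true := by decide +kernel

theorem low_bits : ∀ m < 1024, aOf m = 0 → ∀ i ∈ [0, 1, 2, 3], m.testBit i = false := by
  decide +kernel

variable {G : Type*} [Group G] {z : G} {Q : Subgroup G} {co : G → ℕ} {ac : G → ℕ → ℕ} {x n : G}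
  {gen : ℕ → G}

theorem Std.mask_Q (s : Std z Q co ac x n gen) {m : ℕ} (hm : m < 1024) (ha : aOf m = 0) :
    co (phi gen z x m) &&& 60 = vOf m := by
  obtain ⟨u, r, -, -, -, hrv, hur, hu, -⟩ := phi_split s.duo s.gens hm
  have hb := low_bits m hm ha
  have hu1 : u = 1 := by
    rw [hu]
    simp [prodL, pw, hb 0 (by simp), hb 1 (by simp), hb 2 (by simp), hb 3 (by simp)]
  rw [← hrv, hur, hu1, one_mul]

/-- The chosen four-group with its two elements of order three. -/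
structure Pack (z : G) (Q : Subgroup G) (co : G → ℕ) (ac : G → ℕ → ℕ) (x n : G) (gen : ℕ → G)
    (w v g q r : G) : Prop where
  std : Std z Q co ac x n gen
  code : ∃ e < 4, w = phi gen z x wc ∧ v = phi gen z x (vc e)
  g3 : g ^ 3 = 1
  gw : Commute g w
  gv : Commute g v
  xQ : g * z * g⁻¹ ∈ Q
  qQ : q ∈ Q
  qw : Commute q w
  qv : Commute q v
  xw : Commute (g * z * g⁻¹) w
  xv : Commute (g * z * g⁻¹) v
  noncomm : ¬ Commute q (g * z * g⁻¹)
  r3 : r ^ 3 = 1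
  rz : Commute r z
  rx : Commute r (g * z * g⁻¹)
  rq : Commute r q
  rg : Commute r g
  rot : r * w * r⁻¹ = v ∧ r * v * r⁻¹ = w * v ∨ r * w * r⁻¹ = v * w ∧ r * v * r⁻¹ = w

theorem exists_pack [Finite G] (d : Duo z Q co ac x n) :
    ∃ gen w v g q r, Pack z Q co ac x n gen w v g q r := by
  obtain ⟨gen, s⟩ := Std.exists d
  obtain ⟨g, q, t⟩ := s.exists_tri
  obtain ⟨d₁, d₂, r, ⟨b1', b2', b3', hne, hc⟩, ⟨r3, r1, r2⟩, hcom⟩ := t.exists_four
  obtain ⟨cz1, cx1, cg1, cq1⟩ := hcom d₁ (by simp)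
  obtain ⟨cz2, cx2, cg2, cq2⟩ := hcom d₂ (by simp)
  obtain ⟨czr, cxr, cgr, cqr⟩ := hcom r (by simp)
  obtain ⟨c, hcz, hce⟩ := b1'.to_form d cz1 s.w_form
  set w := phi gen z x wc with hw
  have hC : ∀ {a b : G}, Commute a b → Commute (c * a * c⁻¹) (c * b * c⁻¹) := fun h => by
    simpa using h.map (MulAut.conj c).toMonoidHom
  have hcc : c * z * c⁻¹ = z := mul_inv_eq_iff_eq_mul.2 hcz.eq
  set v' := c * d₂ * c⁻¹ with hv'
  set x' := c * x * c⁻¹ with hx'
  set q' := c * q * c⁻¹ with hq'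
  have hx'Q : x' ∈ Q := d.fr.norm c hcz x d.xQ
  have hq'Q : q' ∈ Q := d.fr.norm c hcz q t.qQ
  have hgz : c * g * c⁻¹ * z * (c * g * c⁻¹)⁻¹ = x' := by
    calc c * g * c⁻¹ * z * (c * g * c⁻¹)⁻¹ = c * (g * (c⁻¹ * z * c) * g⁻¹) * c⁻¹ := by group
      _ = x' := by rw [mul_assoc c⁻¹, ← hcz.eq, inv_mul_cancel_left, t.gz]
  have hnc : ¬ Commute q' x' := fun h => by
    have h' := h.of_map (f := (MulAut.conj c).toMonoidHom) (MulAut.conj c).injective
    have e := d.xz_conj t.qQ t.qco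
    rw [h'.eq, mul_inv_cancel_right] at e
    exact d.fr.es.ne (left_eq_mul.1 e)
  have hv'z : Commute v' z := (hcz.mul_left cz2).mul_left hcz.inv_left
  have hv'w : Commute v' w := hce ▸ hC hc.symm
  have hxw : Commute x' w := hce ▸ hC cx1.symm
  have hqw : Commute q' w := hce ▸ hC cq1.symm
  -- elements of `Q` commuting with `w` are coded
  have hQw : ∀ y, y ∈ Q → Commute y w → ∃ m ∈ Ml, phi gen z x m = y ∧ aOf m = 0 := by
    intro y hy hyw
    rcases s.cases_T (d.fr.es.comm y hy) hyw with ⟨m, hm, e⟩ | ⟨-, a, ha, hk⟩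
    · refine ⟨m, hm, e, eich_inj (aOf_mem m (mem_Ml.1 hm).1) (by decide) fun k hk => ?_⟩
      rw [← phi_act d s.gens (mem_Ml.1 hm).1 k hk, e, d.fr.ac_Q hy hk, eich_zero hk]
    · obtain ⟨k, hk', hne'⟩ := wn_not_id a ha
      exact absurd ((hk k hk').symm.trans (d.fr.ac_Q hy hk')) hne'
  obtain ⟨mx, hmx, ex, ax⟩ := hQw x' hx'Q hxw
  obtain ⟨mq, hmq, eq, aq⟩ := hQw q' hq'Q hqw
  rcases s.cases_T hv'z hv'w with ⟨u, hu, eu⟩ | ⟨-, a, ha, hk⟩
  swap
  · exfalso
    refine hnc ((d.fr.commute_Q hq'Q hx'Q).2 ?_)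
    have hfix : ∀ y ∈ Q, Commute y v' → ∀ m ∈ Ml, phi gen z x m = y → aOf m = 0 →
        b1 (co y) = false ∧ Nat.beq (wn 3 a (co y)) (co y) = true ∧ bn 16 (co y) = false ∧
          bn (co y &&& 60) 32 = false := by
      intro y hy hyv m hm e am
      have hb : b1 (co y) = false :=
        (d.commute_x_iff hy).1 (e ▸ (phi_comm d s.gens (mem_Ml.1 hm).1).2)
      have hmask : co y &&& 60 = vOf m := by rw [← e]; exact s.mask_Q (mem_Ml.1 hm).1 am
      have h := List.all_eq_true.1 Ml_Q_aux m hm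
      rw [am] at h
      simp only [Nat.beq_refl, Bool.not_true, Bool.false_or, Bool.and_eq_true, Bool.not_eq_true'] at h
      refine ⟨hb, ?_, ?_, ?_⟩
      · rw [← hk _ (d.fr.co_lt y hy), ← d.fr.conj v' hv'z y hy, mul_inv_eq_iff_eq_mul.2 hyv.symm.eq]
        exact Nat.beq_refl _
      · rw [← bn_mask (show (16 : ℕ) ∈ v4 by decide) (d.fr.co_lt y hy) hb, hmask]
        exact h.1
      · rw [hmask]
        exact h.2
    obtain ⟨p1, p2, p3, p4⟩ := hfix q' hq'Q (hC cq2.symm) mq hmq eq aq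
    obtain ⟨r1', r2', r3', r4'⟩ := hfix x' hx'Q (hC cx2.symm) mx hmx ex ax
    have h := List.all_eq_true.1 (List.all_eq_true.1 (List.all_eq_true.1 fixed_outer_aux a ha) (co q')
      (List.mem_range.2 (d.fr.co_lt q' hq'Q))) (co x') (List.mem_range.2 (d.fr.co_lt x' hx'Q))
    rw [p1, p2, p3, p4, r1', r2', r3', r4'] at h
    simpa using h
  have hu' := mem_Ml.1 hu
  have hv'b : BT z v' := b2'.conj c
  have hvwb : BT z (v' * w) := by
    have h : BT z (c * (d₁ * d₂) * c⁻¹) := b3'.conj c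
    rwa [hc.eq, show c * (d₂ * d₁) * c⁻¹ = c * d₂ * c⁻¹ * (c * d₁ * c⁻¹) by group, hce] at h
  have hqu : ∀ {m}, m < 1024 → mu m m = 0 → BT z (phi gen z x m) → qn (aOf m) = true := by
    intro m hm h2 hb
    cases hq : qn (aOf m) with
    | true => rfl
    | false =>
      refine absurd ((s.isConj_iff hm h2 fun e => hb.ne_one ?_).2 hq) hb.ne
      rw [e, phi_zero d s.gens]
  have huu : mu u u = 0 := s.sq_eq_zero hu'.1 (by rw [eu]; exact hv'b.sq)
  have hpu : qn (aOf u) = true := hqu hu'.1 huu (eu.symm ▸ hv'b)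
  have hpuw : qn (aOf (mu u wc)) = true := by
    have hlt := mu_lt hu'.1 wc_spec.1
    refine hqu hlt (s.sq_eq_zero hlt ?_) ?_ <;> rw [← s.mul, eu]
    · exact hvwb.sq
    · exact hvwb
  have key := List.all_eq_true.1 centre_aux u (List.mem_range.2 hu'.1)
  rw [hpu, hpuw, huu, hu'.2] at key
  simp only [Nat.beq_refl, Bool.and_self, Bool.not_true, Bool.false_or,
    Bool.or_eq_true, List.any_eq_true, List.mem_range] at key
  rcases key with (h0 | hall) | ⟨e, he, hin⟩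
  · simp at h0
  · exfalso
    refine hnc ?_
    have hm : ∀ m ∈ Ml, aOf m = 0 → Commute (phi gen z x m) v' →
        m ∈ Ml.filter fun p => Nat.beq (aOf p) 0 && Nat.beq (mu p u) (mu u p) := fun m hm am hcv => by
      rw [List.mem_filter]
      refine ⟨hm, ?_⟩
      rw [am, s.eq_of_commute (mem_Ml.1 hm).1 hu'.1 (eu.symm ▸ hcv)]
      simp
    have h1 := hm mq hmq aq (eq.symm ▸ hC cq2.symm)
    have h2 := hm mx hmx ax (ex.symm ▸ hC cx2.symm)
    rw [List.all_eq_true] at hall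
    have h := List.all_eq_true.1 (hall mq h1) mx h2
    rw [← eq, ← ex]
    exact s.commute_codes (Nat.eq_of_beq_eq_true h)
  obtain ⟨a, ha, hau⟩ := List.any_eq_true.1 hin
  have hau := Nat.eq_of_beq_eq_true hau
  subst hau
  have rw1 : c * r * c⁻¹ * w * (c * r * c⁻¹)⁻¹ = v' := by rw [← hce, hv', ← r1]; group
  have rw2 : c * r * c⁻¹ * v' * (c * r * c⁻¹)⁻¹ = w * v' := by
    calc c * r * c⁻¹ * v' * (c * r * c⁻¹)⁻¹ = c * (r * d₂ * r⁻¹) * c⁻¹ := by rw [hv']; group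
      _ = c * d₁ * c⁻¹ * v' := by rw [r2, hv']; group
      _ = w * v' := by rw [hce]
  have base : ∀ v, (∃ e < 4, v = phi gen z x (vc e)) → Commute (c * g * c⁻¹) v → Commute q' v →
      Commute x' v →
      (c * r * c⁻¹ * w * (c * r * c⁻¹)⁻¹ = v ∧ c * r * c⁻¹ * v * (c * r * c⁻¹)⁻¹ = w * v ∨
        c * r * c⁻¹ * w * (c * r * c⁻¹)⁻¹ = v * w ∧ c * r * c⁻¹ * v * (c * r * c⁻¹)⁻¹ = w) →
      ∃ gen w v g q r, Pack z Q co ac x n gen w v g q r := by
    rintro v ⟨e, he, hve⟩ hgv hqv hxv hrot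
    refine ⟨gen, w, v, c * g * c⁻¹, q', c * r * c⁻¹, s, ⟨e, he, rfl, hve⟩, ?_, hce ▸ hC cg1.symm,
      hgv, hgz.symm ▸ hx'Q, hq'Q, hqw, hqv, hgz.symm ▸ hxw, hgz.symm ▸ hxv,
      hgz.symm ▸ hnc, ?_, ?_, hgz.symm ▸ hC cxr, hC cqr, hC cgr, hrot⟩
    · rw [conj_pow, t.g3, mul_one, mul_inv_cancel]
    · rw [conj_pow, r3, mul_one, mul_inv_cancel]
    · exact (hcz.mul_left czr).mul_left hcz.inv_left
  simp only [Vl, List.mem_cons, List.not_mem_nil, or_false] at ha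
  rcases ha with rfl | rfl | rfl | rfl
  · exact absurd (eu.symm.trans (phi_zero d s.gens)) hv'b.ne_one
  · refine absurd ?_ hne
    have h : c * d₁ * c⁻¹ = c * d₂ * c⁻¹ := hce.trans eu
    exact mul_left_cancel (mul_right_cancel h)
  · exact base v' ⟨e, he, eu.symm⟩ (hC cg2.symm) (hC cq2.symm) (hC cx2.symm) (Or.inl ⟨rw1, rw2⟩)
  · have hve : phi gen z x (vc e) = v' * w := by
      have h := eu
      rw [← s.mul, ← hw] at h
      rw [← h, mul_assoc, s.w_sq, mul_one]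
    refine base (phi gen z x (vc e)) ⟨e, he, rfl⟩
      (hve ▸ (hC cg2.symm).mul_right (hce ▸ hC cg1.symm))
      (hve ▸ (hC cq2.symm).mul_right hqw) (hve ▸ (hC cx2.symm).mul_right hxw) (Or.inr ⟨?_, ?_⟩)
    · rw [rw1, hve, mul_assoc, s.w_sq, mul_one]
    · rw [hve, ← conj_mul, rw1, rw2, mul_assoc, hv'b.sq, mul_one]

end Cfsg.Agent.Lib.SuzSeven52
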