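import Cfsg.Agent.Lib.SuzSeven52.Two
import Cfsg.Agent.Lib.CIT.Basic

/-!
# Suzuki type: the centraliser of the four-group modulo the four-group

Every involution of the quotient lifts to exactly one conjugate of `z`; all involution centralisers
are `2`-groups.

Owner: helper52.
-/

set_option autoImplicit false
set_option maxRecDepth 100000

namespace Cfsg.Agent.Lib.SuzSeven52

open Cfsg.Agent.Lib.SuzType52

theorem moving_aux : Ml.all (fun y => !(Nat.beq (aOf y) 0) || Nat.beq (vOf y) 0 ||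
    Ml.any fun k => [1, 3].any fun e => Nat.beq (mu k y) (mu (e <<< 8) (mu y k))) = true := by
  decide +kernel

theorem mask_move_aux : ∀ y ∈ [4, 8], tw 3 y ∈ [4, 8] ∧ bn y (tw 3 y) = true := by decide +kernel

theorem mask_qn_aux : ∀ k < 64, b1 k = false → k &&& 60 = 12 → qn k = true := by decide +kernel

theorem low_zero_aux : ∀ e < 4, e <<< 8 < 1024 ∧ e <<< 8 &&& 255 = 0 ∧ (e <<< 8) >>> 8 = e := by
  decide +kernel

section Bar

variable {G : Type*} [Group G]

/-- The four-group inside its centraliser. -/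
def V4 (w v : G) : Subgroup ↥(CV w v) := (Subgroup.closure ({w, v} : Set G)).subgroupOf (CV w v)

theorem comm_closure {w v a y : G} (ha : a ∈ Subgroup.closure ({w, v} : Set G)) (hy : y ∈ CV w v) :
    Commute y a := by
  induction ha using Subgroup.closure_induction with
  | mem c hc =>
    rcases hc with rfl | rfl
    exacts [(mem_cent_two.1 hy).1, (mem_cent_two.1 hy).2]
  | one => exact Commute.one_right y
  | mul a b _ _ h1 h2 => exact h1.mul_right h2
  | inv a _ h => exact h.inv_right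

instance V4.normal (w v : G) : (V4 w v).Normal :=
  ⟨fun a ha c => by
    have h : c * a * c⁻¹ = a := Subtype.ext (mul_inv_eq_iff_eq_mul.2 (comm_closure ha c.2).eq)
    rwa [h]⟩

/-- The quotient. -/
abbrev WQ (w v : G) : Type _ := ↥(CV w v) ⧸ V4 w v

open scoped Classical in
/-- The image of an element in the quotient (the identity outside the centraliser). -/
noncomputable def bar (w v y : G) : WQ w v :=
  if h : y ∈ CV w v then QuotientGroup.mk (⟨y, h⟩ : ↥(CV w v)) else 1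

theorem bar_of_mem {w v y : G} (h : y ∈ CV w v) :
    bar w v y = QuotientGroup.mk (⟨y, h⟩ : ↥(CV w v)) := by
  rw [bar, dif_pos h]

theorem bar_mul {w v a b : G} (ha : a ∈ CV w v) (hb : b ∈ CV w v) :
    bar w v (a * b) = bar w v a * bar w v b := by
  rw [bar_of_mem ha, bar_of_mem hb, bar_of_mem (mul_mem ha hb)]
  rfl

theorem bar_inv {w v a : G} (ha : a ∈ CV w v) : bar w v a⁻¹ = (bar w v a)⁻¹ := by
  rw [bar_of_mem ha, bar_of_mem (inv_mem ha)]
  rfl

theorem bar_one {w v : G} : bar w v (1 : G) = 1 := by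
  rw [bar_of_mem (one_mem _)]
  rfl

theorem bar_conj {w v a b : G} (ha : a ∈ CV w v) (hb : b ∈ CV w v) :
    bar w v (a * b * a⁻¹) = bar w v a * bar w v b * (bar w v a)⁻¹ := by
  rw [bar_mul (mul_mem ha hb) (inv_mem ha), bar_mul ha hb, bar_inv ha]

theorem bar_surj {w v : G} (q : WQ w v) : ∃ y ∈ CV w v, bar w v y = q := by
  obtain ⟨⟨y, hy⟩, rfl⟩ := QuotientGroup.mk_surjective q
  exact ⟨y, hy, bar_of_mem hy⟩

theorem bar_eq_one {w v y : G} (hy : y ∈ CV w v) :
    bar w v y = 1 ↔ y ∈ Subgroup.closure ({w, v} : Set G) := by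
  rw [bar_of_mem hy, QuotientGroup.eq_one_iff]
  exact Subgroup.mem_subgroupOf

theorem bar_eq {w v a b : G} (ha : a ∈ CV w v) (hb : b ∈ CV w v) :
    bar w v a = bar w v b ↔ a⁻¹ * b ∈ Subgroup.closure ({w, v} : Set G) := by
  rw [← bar_eq_one (mul_mem (inv_mem ha) hb), bar_mul (inv_mem ha) hb, bar_inv ha, inv_mul_eq_one]

end Bar

variable {G : Type*} [Group G] {z : G} {Q : Subgroup G} {co : G → ℕ} {ac : G → ℕ → ℕ} {x n : G}
  {gen : ℕ → G} {w v g q r : G}

namespace Pack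

variable [Finite G] (p : Pack z Q co ac x n gen w v g q r)
include p

theorem w_mem : w ∈ CV w v := mem_cent_two.2 ⟨Commute.refl w, p.v_facts.2.2.2.2.symm⟩

theorem v_mem : v ∈ CV w v := mem_cent_two.2 ⟨p.v_facts.2.2.2.2, Commute.refl v⟩

/-- The four elements. -/
theorem mem_V {a : G} :
    a ∈ Subgroup.closure ({w, v} : Set G) ↔ a = 1 ∨ a = w ∨ a = v ∨ a = v * w := by
  have hw := p.bt_w.sq
  have hv := p.v_facts.1.sq
  have hc : w * v = v * w := p.v_facts.2.2.2.2.eq.symm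
  have hvw : v * (v * w) = w := by rw [← mul_assoc, hv, one_mul]
  have hwv : w * (v * w) = v := by rw [← mul_assoc, hc, mul_assoc, hw, mul_one]
  constructor
  · intro h
    induction h using Subgroup.closure_induction with
    | mem c hc =>
      rcases hc with rfl | rfl
      exacts [Or.inr (Or.inl rfl), Or.inr (Or.inr (Or.inl rfl))]
    | one => exact Or.inl rfl
    | mul a b _ _ h1 h2 =>
      rcases h1 with rfl | rfl | rfl | rfl <;> rcases h2 with rfl | rfl | rfl | rfl <;>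
        simp [mul_assoc, hw, hv, hc, hvw, hwv]
    | inv a _ h =>
      rcases h with rfl | rfl | rfl | rfl
      · simp
      · exact Or.inr (Or.inl (inv_eq_of_mul_eq_one_right hw))
      · exact Or.inr (Or.inr (Or.inl (inv_eq_of_mul_eq_one_right hv)))
      · refine Or.inr (Or.inr (Or.inr (inv_eq_of_mul_eq_one_right ?_)))
        rw [mul_assoc, hwv, hv]
  · rintro (rfl | rfl | rfl | rfl)
    · exact one_mem _
    · exact Subgroup.subset_closure (by simp)
    · exact Subgroup.subset_closure (by simp)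
    · exact mul_mem (Subgroup.subset_closure (by simp)) (Subgroup.subset_closure (by simp))

theorem CZ_le_CV : CZ z w v ≤ CV w v := fun _ hy => mem_cent_two.2 (mem_cent_three.1 hy).2

theorem V_le_CZ {a : G} (ha : a ∈ Subgroup.closure ({w, v} : Set G)) : a ∈ CZ z w v := by
  have hwm : w ∈ CZ z w v := mem_cent_three.2 ⟨p.wz, mem_cent_two.1 p.w_mem⟩
  have hvm : v ∈ CZ z w v := mem_cent_three.2 ⟨p.v_facts.2.2.1, mem_cent_two.1 p.v_mem⟩
  rcases p.mem_V.1 ha with rfl | rfl | rfl | rfl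
  exacts [one_mem _, hwm, hvm, mul_mem hvm hwm]

theorem V_sq {a : G} (ha : a ∈ Subgroup.closure ({w, v} : Set G)) : a * a = 1 := by
  rcases p.mem_V.1 ha with rfl | rfl | rfl | rfl
  exacts [one_mul 1, p.bt_w.sq, p.v_facts.1.sq, p.bt_vw.sq]

/-- No element of `Q` but the identity lies in the four-group. -/
theorem V_inf_Q {a : G} (ha : a ∈ Subgroup.closure ({w, v} : Set G)) (hQ : a ∈ Q) : a = 1 := by
  rcases p.mem_V.1 ha with rfl | rfl | rfl | rfl
  · rfl
  · exact absurd hQ (p.bt_w.notMem p.std.duo)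
  · exact absurd hQ (p.v_facts.1.notMem p.std.duo)
  · exact absurd hQ (p.bt_vw.notMem p.std.duo)

theorem V_not_ztype {a : G} (ha : a ∈ Subgroup.closure ({w, v} : Set G)) : ¬ IsConj z a := by
  rcases p.mem_V.1 ha with rfl | rfl | rfl | rfl
  · intro h
    have := p.std.duo.fr.ord
    rw [isConj_one_left.1 h] at this
    simp at this
  · exact p.bt_w.ne
  · exact p.v_facts.1.ne
  · exact p.bt_vw.ne

/-- The involutions of one coset in the coded centraliser. -/
theorem invol_CZ {s : G} (hs : s ∈ CZ z w v) (h1 : s ∉ Subgroup.closure ({w, v} : Set G))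
    (h2 : s * s ∈ Subgroup.closure ({w, v} : Set G)) :
    (∀ a ∈ Subgroup.closure ({w, v} : Set G), s * a * (s * a) = 1) ∧
      ∃! a, a ∈ Subgroup.closure ({w, v} : Set G) ∧ IsConj z (s * a) := by
  obtain ⟨e, he, hw, hv⟩ := p.code
  have st := p.std
  have hV : ∀ a, a ∈ Subgroup.closure ({w, v} : Set G) ↔ ∃ k ∈ Vl e, phi gen z x k = a := by
    intro a
    rw [p.mem_V]
    simp only [Vl, List.mem_cons, List.not_mem_nil, or_false, exists_eq_or_imp, exists_eq_left,
      phi_zero st.duo st.gens, ← hw, ← hv, ← st.mul]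
    tauto
  obtain ⟨m, hm, rfl⟩ := p.mem_CZ.1 hs
  have hlt := (mem_Ml.1 hm).1
  have hnin : inV e m = false := by
    cases h : inV e m with
    | false => rfl
    | true => exact absurd ((hV _).2 ⟨m, inV_true h, rfl⟩) h1
  have hsin : inV e (mu m m) = true := by
    obtain ⟨k, hk, ek⟩ := (hV _).1 h2
    rw [st.mul] at ek
    exact inV_of_mem (phi_inj st.duo st.gens (Vl_mem e he k hk).1 (mu_lt hlt hlt) ek ▸ hk)
  have h := List.all_eq_true.1 (List.all_eq_true.1 coset_aux e (List.mem_range.2 he)) m hm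
  rw [hnin, hsin] at h
  simp only [Bool.not_true, Bool.false_or, Bool.and_eq_true, List.all_eq_true] at h
  obtain ⟨hsq, hone⟩ := h
  have hone' := Nat.eq_of_beq_eq_true hone
  have hk1 : ∀ k ∈ Vl e, mu m k < 1024 ∧ mu (mu m k) (mu m k) = 0 ∧ mu m k ≠ 0 := by
    intro k hk
    refine ⟨mu_lt hlt (Vl_mem e he k hk).1, Nat.eq_of_beq_eq_true (hsq k hk), fun e0 => h1 ?_⟩
    have h3 : phi gen z x m * phi gen z x k = 1 := by rw [st.mul, e0, phi_zero st.duo st.gens]
    rw [eq_inv_of_mul_eq_one_left h3]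
    exact inv_mem ((hV _).2 ⟨k, hk, rfl⟩)
  have hz : ∀ k ∈ Vl e, IsConj z (phi gen z x m * phi gen z x k) ↔ qn (aOf (mu m k)) = false := by
    intro k hk
    rw [st.mul]
    exact st.isConj_iff (hk1 k hk).1 (hk1 k hk).2.1 (hk1 k hk).2.2
  refine ⟨fun a ha => ?_, ?_⟩
  · obtain ⟨k, hk, rfl⟩ := (hV a).1 ha
    rw [st.mul, st.sq_one (hk1 k hk).2.1]
  obtain ⟨k₀, hk₀⟩ := List.length_eq_one_iff.1 hone'
  have hmem : ∀ k, k = k₀ ↔ k ∈ Vl e ∧ qn (aOf (mu m k)) = false := fun k => by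
    have : k ∈ (Vl e).filter (fun a => !(qn (aOf (mu m a)))) ↔ k = k₀ := by rw [hk₀]; simp
    rw [← this, List.mem_filter, Bool.not_eq_true']
  obtain ⟨hk₀V, hk₀q⟩ := (hmem k₀).1 rfl
  refine ⟨phi gen z x k₀, ⟨(hV _).2 ⟨k₀, hk₀V, rfl⟩, (hz k₀ hk₀V).2 hk₀q⟩, ?_⟩
  rintro a ⟨ha, hza⟩
  obtain ⟨k, hk, rfl⟩ := (hV a).1 ha
  rw [(hmem k).2 ⟨hk, (hz k hk).1 hza⟩]

/-- A `2`-element of the centraliser is conjugate there into the coded centraliser. -/
theorem conj_into {y : G} (hy : y ∈ CV w v) (h2 : ∃ k : ℕ, y ^ 2 ^ k = 1) :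
    ∃ h ∈ CV w v, h * y * h⁻¹ ∈ CZ z w v := by
  haveI : Fact (Nat.Prime 2) := ⟨Nat.prime_two⟩
  obtain ⟨k, hk⟩ := h2
  have hp : IsPGroup 2 ↥(Subgroup.zpowers (⟨y, hy⟩ : ↥(CV w v))) := by
    have h1 : (⟨y, hy⟩ : ↥(CV w v)) ^ 2 ^ k = 1 := Subtype.ext (by simpa using hk)
    obtain ⟨j, -, hj⟩ := (Nat.dvd_prime_pow Nat.prime_two).1 (orderOf_dvd_of_pow_eq_one h1)
    exact IsPGroup.of_card (n := j) (by rw [Nat.card_zpowers, hj])
  obtain ⟨S, hS⟩ := hp.exists_le_sylow
  obtain ⟨S₀, hS₀⟩ :=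
    (IsPGroup.comap_of_injective p.isPGroup_CZ (CV w v).subtype (CV w v).subtype_injective).exists_le_sylow
  have hS₀e : (S₀ : Subgroup ↥(CV w v)).map (CV w v).subtype = CZ z w v :=
    p.CZ_max (S₀.2.map _) (fun y hy' => ⟨⟨y, p.CZ_le_CV hy'⟩, hS₀ hy', rfl⟩)
      (Subgroup.map_subtype_le _)
  obtain ⟨c, hc⟩ := MulAction.exists_smul_eq ↥(CV w v) S S₀
  refine ⟨c, c.2, ?_⟩
  rw [← hS₀e]
  exact ⟨c * ⟨y, hy⟩ * c⁻¹, hc ▸ ⟨_, hS (Subgroup.mem_zpowers _), rfl⟩, rfl⟩

/-- Every involution of the quotient lifts to exactly one conjugate of `z`. -/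
theorem exists_lift_z {t : WQ w v} (ht : orderOf t = 2) :
    ∃ i ∈ CV w v, bar w v i = t ∧ IsConj z i ∧
      ∀ j ∈ CV w v, bar w v j = t → IsConj z j → j = i := by
  obtain ⟨y, hy, rfl⟩ := bar_surj t
  have h2 : y * y ∈ Subgroup.closure ({w, v} : Set G) := by
    rw [← bar_eq_one (mul_mem hy hy), bar_mul hy hy, ← pow_two, ← ht, pow_orderOf_eq_one]
  have h1 : y ∉ Subgroup.closure ({w, v} : Set G) := fun h => by
    rw [(bar_eq_one hy).2 h, orderOf_one] at ht
    norm_num at ht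
  obtain ⟨h, hh, hm⟩ := p.conj_into hy ⟨2, by
    rw [show 2 ^ 2 = 2 * 2 from rfl, pow_mul, pow_two, pow_two]
    exact p.V_sq h2⟩
  have hfix : ∀ {a : G}, a ∈ Subgroup.closure ({w, v} : Set G) → h * a * h⁻¹ = a := fun ha =>
    mul_inv_eq_iff_eq_mul.2 (comm_closure ha hh).eq
  obtain ⟨-, a, ⟨ha, hza⟩, huniq⟩ := p.invol_CZ hm
    (fun hV => h1 (by
      have : y = h⁻¹ * (h * y * h⁻¹) * h := by group
      rw [this, mul_assoc, ← (comm_closure hV hh).eq, inv_mul_cancel_left]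
      exact hV))
    (by rw [conj_mul, hfix h2]; exact h2)
  have key : ∀ {b : G}, b ∈ Subgroup.closure ({w, v} : Set G) →
      h * (y * b) * h⁻¹ = h * y * h⁻¹ * b := fun hb => by rw [← conj_mul, hfix hb]
  have hconj : ∀ u : G, IsConj u (h * u * h⁻¹) := fun u => isConj_iff.2 ⟨h, rfl⟩
  refine ⟨y * a, mul_mem hy (p.CZ_le_CV (p.V_le_CZ ha)), ?_, ?_, ?_⟩
  · rw [bar_eq (mul_mem hy (p.CZ_le_CV (p.V_le_CZ ha))) hy,
      show (y * a)⁻¹ * y = a⁻¹ by group]
    exact inv_mem ha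
  · exact hza.trans (key ha ▸ hconj (y * a)).symm
  · intro j hj hjb hjz
    have hb : y⁻¹ * j ∈ Subgroup.closure ({w, v} : Set G) := (bar_eq hy hj).1 hjb.symm
    have := huniq _ ⟨hb, key hb ▸ ((mul_inv_cancel_left y j).symm ▸ hjz).trans (hconj _)⟩
    rw [← this, mul_inv_cancel_left]

theorem bar_z_mem : orderOf (bar w v z) = 2 ∧ orderOf (bar w v x) = 2 ∧
    orderOf (bar w v (x * z)) = 2 := by
  have key : ∀ u : G, u ∈ CV w v → u * u = 1 → IsConj z u → orderOf (bar w v u) = 2 := by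
    intro u hu h2 hz
    refine orderOf_eq_prime (p := 2) ?_ fun h => p.V_not_ztype ((bar_eq_one hu).1 h) hz
    rw [pow_two, ← bar_mul hu hu, h2, bar_one]
  have hz := p.CZ_le_CV p.z_mem
  have hx := p.CZ_le_CV p.x_mem
  refine ⟨key z hz p.std.duo.fr.es.sq (IsConj.refl z), key x hx p.std.duo.xsq
    (p.ee_ztype (Or.inr (Or.inl rfl))), key _ (mul_mem hx hz) ?_ (p.ee_ztype (Or.inr (Or.inr rfl)))⟩
  rw [show x * z * (x * z) = x * (z * x) * z by group,
    ← (p.std.duo.fr.es.comm x p.std.duo.xQ).eq,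
    show x * (x * z) * z = x * x * (z * z) by group, p.std.duo.xsq, p.std.duo.fr.es.sq, one_mul]

/-- The centraliser of an involution of the quotient. -/
theorem cent_lift {i : G} (hi : i ∈ CV w v) (ho : orderOf (bar w v i) = 2) (hz : IsConj z i)
    {y : G} (hy : y ∈ CV w v) (hc : Commute (bar w v y) (bar w v i)) : Commute y i := by
  obtain ⟨j, -, -, -, hu⟩ := p.exists_lift_z ho
  have h1 : y * i * y⁻¹ ∈ CV w v := mul_mem (mul_mem hy hi) (inv_mem hy)
  have h2 : y * i * y⁻¹ = j := hu _ h1 (by rw [bar_conj hy hi, hc.eq, mul_inv_cancel_right])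
    (hz.trans (isConj_iff.2 ⟨y, rfl⟩))
  rw [← hu i hi rfl hz] at h2
  exact mul_inv_eq_iff_eq_mul.1 h2

theorem isCIT : CIT.IsCIT (WQ w v) := by
  intro t ht
  obtain ⟨i, hi, rfl, hz, -⟩ := p.exists_lift_z ht
  intro c
  obtain ⟨y, hy, e⟩ := bar_surj (c : WQ w v)
  have hc : Commute (bar w v y) (bar w v i) := by
    rw [e]
    exact Subgroup.mem_centralizer_singleton_iff.1 c.2
  have hcy : Commute y i := p.cent_lift hi ht hz hy hc
  obtain ⟨k, hk⟩ := isPGroup_pair p.std.duo hz p.bt_w (mem_cent_two.1 hi).1.symm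
    ⟨y, mem_cent_two.2 ⟨hcy, (mem_cent_two.1 hy).1⟩⟩
  refine ⟨k, Subtype.ext ?_⟩
  have hk' : y ^ 2 ^ k = 1 := by simpa using congrArg Subtype.val hk
  have hpow : ∀ m : ℕ, bar w v (y ^ m) = bar w v y ^ m := by
    intro m
    induction m with
    | zero => simp [bar_one]
    | succ m ih => rw [pow_succ, bar_mul (pow_mem hy m) hy, ih, pow_succ]
  simp only [SubmonoidClass.coe_pow, OneMemClass.coe_one, ← e, ← hpow, hk', bar_one]

end Pack

end Cfsg.Agent.Lib.SuzSeven52
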