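import Cfsg.Agent.Lib.SuzSeven52.Model

/-!
# Suzuki type: the range of the coded subgroup

Owner: helper52.
-/

set_option autoImplicit false
set_option maxRecDepth 100000

namespace Cfsg.Agent.Lib.SuzSeven52

open Cfsg.Agent.Lib.SuzType52

/-- The sum of the parameters of the chosen generators. -/
def sumK : List ℕ → ℕ → ℕ
  | [], _ => 0
  | i :: is, g => (bif g.testBit i then kk i else 0) ^^^ sumK is g

theorem sum_lo : ∀ m < 1024, sumK [0, 1, 2, 3] m = aOf m ∧ sumK [4, 5, 6, 7] m = vOf m := by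
  decide +kernel

theorem code_eq : ∀ m < 1024, enc4 (aOf m) (vOf m) (m >>> 8) = m := by decide +kernel

theorem aOf_mu_aux : ∀ i < 10, aOf (2 ^ i) = (bif Nat.blt i 4 then kk i else 0) := by decide +kernel

variable {G : Type*} [Group G] {z : G} {Q : Subgroup G} {co : G → ℕ} {ac : G → ℕ → ℕ}
  {x n : G} {gen : ℕ → G}

theorem prodL_append (l l' : List ℕ) (g : ℕ) :
    prodL gen (l ++ l') g = prodL gen l g * prodL gen l' g := by
  induction l with
  | nil => exact (one_mul _).symm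
  | cons i is ih => rw [List.cons_append, prodL, prodL, ih, mul_assoc]

variable (d : Duo z Q co ac x n) (hG : Gens Q co ac n z gen)
include d hG

theorem prodLo {l : List ℕ} (hl : ∀ i ∈ l, i < 4) (g : ℕ) :
    InB Q n z (prodL gen l g) ∧ Act ac (prodL gen l g) (sumK l g) ∧ sumK l g ∈ v4 := by
  induction l with
  | nil =>
    exact ⟨⟨by simp [prodL], Commute.one_left z⟩, fun k hk => by
      rw [prodL, d.fr.ac_Q (one_mem Q) hk, sumK, eich_zero hk], List.mem_cons_self⟩
  | cons i is ih =>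
    obtain ⟨h1, h2, h3⟩ := ih fun j hj => hl j (by simp [hj])
    have hi : i < 4 := hl i (by simp)
    rw [prodL, sumK]
    cases g.testBit i
    · simp only [pw, cond_false, one_mul, Nat.zero_xor]
      exact ⟨h1, h2, h3⟩
    · obtain ⟨g1, g2⟩ := d.act_mul (hG.lo i hi).1 h1 (kk_mem i (by omega)) h3 (hG.lo i hi).2 h2
      exact ⟨g1, g2, v4_xor _ (kk_mem i (by omega)) _ h3⟩

theorem prodHi {l : List ℕ} (hl : ∀ i ∈ l, 4 ≤ i ∧ i < 8) (g : ℕ) :
    InA Q co (prodL gen l g) ∧ co (prodL gen l g) = sumK l g := by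
  induction l with
  | nil => exact ⟨⟨one_mem Q, by rw [prodL, d.fr.co_one]; rfl⟩, d.fr.co_one⟩
  | cons i is ih =>
    obtain ⟨h1, h2⟩ := ih fun j hj => hl j (by simp [hj])
    obtain ⟨hi, hi'⟩ := hl i (by simp)
    rw [prodL, sumK]
    cases g.testBit i
    · simp only [pw, cond_false, one_mul, Nat.zero_xor]
      exact ⟨h1, h2⟩
    · refine ⟨d.A_mul (hG.hi i hi hi').1 h1, ?_⟩
      show co (gen i * _) = kk i ^^^ _
      rw [d.fr.co_mul _ (hG.hi i hi hi').1.1 _ h1.1, (hG.hi i hi hi').2, h2]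

/-- A code as the product of the two halves. -/
theorem phi_split {m : ℕ} (hm : m < 1024) : ∃ u r, InB Q n z u ∧ Act ac u (aOf m) ∧ InA Q co r ∧
    co r &&& 60 = vOf m ∧ phi gen z x m = u * r ∧ u = prodL gen [0, 1, 2, 3] m ∧
    r = prodL gen [4, 5, 6, 7] m * ee2 z x (m >>> 8) := by
  obtain ⟨s1, s2⟩ := sum_lo m hm
  obtain ⟨h1, h2, -⟩ := prodLo d hG (l := [0, 1, 2, 3]) (by simp) m
  obtain ⟨h3, h4⟩ := prodHi d hG (l := [4, 5, 6, 7]) (by simp) m
  rw [s1] at h2
  rw [s2] at h4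
  have he : InA Q co (ee2 z x (m >>> 8)) :=
    ⟨d.ee_mem _ _, by rw [ee2, d.co_ee]; cases (m >>> 8).testBit 0 <;> rfl⟩
  refine ⟨_, _, h1, h2, d.A_mul h3 he, ?_, ?_, rfl, rfl⟩
  · rw [d.fr.co_mul _ h3.1 _ he.1, h4, ee2, d.co_ee, xor_mask, (lt_of_mem_v4 _ (vOf_mem m hm)).2.1]
    cases (m >>> 8).testBit 0 <;> exact Nat.xor_zero _
  · rw [phi, show idx = [0, 1, 2, 3] ++ [4, 5, 6, 7] from rfl, prodL_append, mul_assoc]

theorem phi_form {m : ℕ} (hm : m < 1024) :
    Form Q co ac n z (phi gen z x m) (aOf m) (vOf m) := by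
  obtain ⟨u, r, h1, h2, h3, h4, h5, -, -⟩ := phi_split d hG hm
  exact ⟨u, r, h1, h2, h3, h4, h5⟩

theorem phi_comm {m : ℕ} (hm : m < 1024) :
    Commute (phi gen z x m) z ∧ Commute (phi gen z x m) x := by
  obtain ⟨u, r, h1, -, h3, -, h5, -, -⟩ := phi_split d hG hm
  rw [h5]
  exact ⟨(d.B_comm h1).2.mul_left (d.A_comm h3).2, (d.B_comm h1).1.mul_left (d.A_comm h3).1⟩

theorem phi_act {m : ℕ} (hm : m < 1024) : Act ac (phi gen z x m) (aOf m) :=
  (d.form_commute (phi_form d hG hm)).2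

theorem phi_ne_one {m : ℕ} (hm : m < 1024) (h : phi gen z x m = 1) : m = 0 := by
  obtain ⟨u, r, h1, h2, h3, h4, h5, hu, hr⟩ := phi_split d hG hm
  have ha : aOf m = 0 := by
    refine eich_inj (aOf_mem m hm) (by decide) fun k hk => ?_
    rw [← phi_act d hG hm k hk, h, d.fr.ac_Q (one_mem Q) hk, eich_zero hk]
  have hu1 : u = 1 := by
    rw [hu]
    have key : ∀ m < 1024, aOf m = 0 → ∀ i ∈ [0, 1, 2, 3], m.testBit i = false := by decide +kernel
    have hb := key m hm ha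
    simp [prodL, pw, hb 0 (by simp), hb 1 (by simp), hb 2 (by simp), hb 3 (by simp)]
  rw [h, hu1, one_mul] at h5
  have hv : vOf m = 0 := by rw [← h4, ← h5, d.fr.co_one]; rfl
  have key : ∀ m < 1024, vOf m = 0 → ∀ i ∈ [4, 5, 6, 7], m.testBit i = false := by decide +kernel
  have hb := key m hm hv
  have hr' : r = ee2 z x (m >>> 8) := by
    rw [hr]
    simp [prodL, pw, hb 4 (by simp), hb 5 (by simp), hb 6 (by simp), hb 7 (by simp)]
  rw [← h5] at hr'
  have he : (m >>> 8).testBit 0 = false ∧ (m >>> 8).testBit 1 = false := by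
    obtain ⟨e1, e2⟩ := d.ee_inj (i := false) (j := false) (d.ee_zero.trans hr')
    exact ⟨e1.symm, e2.symm⟩
  have key : ∀ m < 1024, aOf m = 0 → vOf m = 0 → (m >>> 8).testBit 0 = false →
      (m >>> 8).testBit 1 = false → m = 0 := by decide +kernel
  exact key m hm ha hv he.1 he.2

/-- Every element of `C(z) ∩ C(x)` acting as a transvection of the point is coded. -/
theorem exists_code {g : G} {a : ℕ} (hz : Commute g z) (hx : Commute g x) (ha : a ∈ v4)
    (hg : Act ac g a) : ∃ m < 1024, phi gen z x m = g ∧ aOf m = a := by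
  have h0 : ∀ e < 4, enc4 a 0 e < 1024 ∧ aOf (enc4 a 0 e) = a := fun e he =>
    ⟨(enc4_spec a ha 0 (by decide) e he).1, (enc4_spec a ha 0 (by decide) e he).2.1⟩
  obtain ⟨u, r, h1, h2, -, -, -, hu, -⟩ := phi_split d hG (h0 0 (by norm_num)).1
  rw [(h0 0 (by norm_num)).2] at h2
  set s := u⁻¹ * g with hs
  have hsQ : s ∈ Q := d.fr.faithful s (h1.2.inv_left.mul_left hz) fun k hk => by
    rw [d.fr.ac_mul h1.2.inv_left hz hk, hg k hk, ← h2 k hk, d.fr.ac_inv h1.2 hk]
  have hsb : b1 (co s) = false :=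
    (d.commute_x_iff hsQ).1 ((d.B_comm h1).1.inv_left.mul_left hx)
  have hv := mem_v4 (d.fr.co_lt s hsQ)
  set v := co s &&& 60 with hvdef
  have hm0 := enc4_spec a ha v hv 0 (by norm_num)
  obtain ⟨u', r', h1', h2', h3', h4', h5', hu', hr'⟩ := phi_split d hG hm0.1
  have huu : u' = u := by
    rw [hu, hu']
    refine prodL_congr fun i hi => ?_
    have key : ∀ a ∈ v4, ∀ v ∈ v4, ∀ i ∈ [0, 1, 2, 3],
        (enc4 a v 0).testBit i = (enc4 a 0 0).testBit i := by decide +kernel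
    exact key a ha v hv i hi
  obtain ⟨i, j, e⟩ := d.exists_ee (mul_mem (inv_mem h3'.1) hsQ) (by
    rw [d.fr.co_mul _ (inv_mem h3'.1) _ hsQ, d.fr.co_inv h3'.1]
    rcases mask_cases (d.fr.co_lt _ h3'.1) h3'.2 with e | e <;>
      rcases mask_cases (d.fr.co_lt s hsQ) hsb with e' | e' <;>
      rw [h4', hm0.2.2.1] at e <;> rw [← hvdef] at e' <;> rw [e, e']
    · exact Or.inl (Nat.xor_self v)
    · exact Or.inr (by rw [← Nat.xor_assoc, Nat.xor_self, Nat.zero_xor])
    · exact Or.inr (by rw [Nat.xor_comm v 1, Nat.xor_assoc, Nat.xor_self, Nat.xor_zero])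
    · exact Or.inl (Nat.xor_self _))
  have hij : two i j < 4 := by cases i <;> cases j <;> decide
  obtain ⟨hlt, hA, -, hE⟩ := enc4_spec a ha v hv (two i j) hij
  refine ⟨_, hlt, ?_, hA⟩
  have key : ∀ a ∈ v4, ∀ v ∈ v4, ∀ e < 4, ∀ i ∈ idx,
      (enc4 a v e).testBit i = (enc4 a v 0).testBit i := by decide +kernel
  rw [inv_mul_eq_iff_eq_mul] at e
  calc phi gen z x (enc4 a v (two i j)) = phi gen z x (enc4 a v 0) * ee z x i j := by
        rw [phi, phi, hE, hm0.2.2.2, prodL_congr (key a ha v hv _ hij), ee2_zero d, mul_one, ee2_two d]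
    _ = g := by
      rw [h5', huu, mul_assoc, ← e, hs]
      group

theorem phi_inj {m m' : ℕ} (hm : m < 1024) (hm' : m' < 1024)
    (h : phi gen z x m = phi gen z x m') : m = m' := by
  have hz := inv_code_spec m' hm'
  have e := phi_ne_one d hG (mu_lt hm hz.1) (by
    rw [← phi_mul d hG, h, phi_mul d hG, hz.2.1, phi_zero d hG])
  rw [mu] at e
  have hc := cocL_lt idx idx_lt m (invc m')
  generalize hcdef : cocL idx m (invc m') = c at e hc
  have e1 : invc m' = m ^^^ (c <<< 8) := by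
    have := congrArg (m ^^^ ·) (Nat.eq_of_xor_eq_zero e)
    simp only [← Nat.xor_assoc, Nat.xor_self, Nat.zero_xor] at this
    exact this
  have e2 : c = cocL idx m m := by
    rw [← hcdef, e1]
    exact Nat.eq_of_beq_eq_true (List.all_eq_true.1 (List.all_eq_true.1 cocL_shift_aux m
      (List.mem_range.2 hm)) c (List.mem_range.2 hc))
  have e3 : invc m' = invc m := by rw [e1, e2]; rfl
  rw [← (inv_code_spec m hm).2.2, ← e3, hz.2.2]

end Cfsg.Agent.Lib.SuzSeven52
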