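import Cfsg.Agent.Lib.SuzSeven52.Checks

/-!
# Suzuki type: further computations for the four-group

Owner: helper52.
-/

set_option autoImplicit false
set_option maxRecDepth 100000

namespace Cfsg.Agent.Lib.SuzSeven52

open Cfsg.Agent.Lib.SuzType52

theorem cent_v_aux : (List.range 4).all (fun e => (List.range 1024).all fun m =>
    !(Nat.beq (mu m (vc e)) (mu (vc e) m)) || Nat.beq (mu m wc) (mu wc m)) = true := by decide +kernel

/-- The codes central in the coded centraliser are the products with the four-group. -/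
theorem central_aux : Ml.all (fun m => !(Ml.all fun k => Nat.beq (mu m k) (mu k m)) ||
    ((Nat.beq (aOf m) 0 && Nat.beq (m &&& 255) 0) || (Nat.beq (aOf m) 16 && Nat.beq (m &&& 255) wc) ||
      (Nat.beq (aOf m) 32 && (List.range 4).any fun e => Nat.beq m (vc e)) ||
      (Nat.beq (aOf m) 48 && (List.range 4).any fun e => Nat.beq m (mu (vc e) wc)))) = true := by
  decide +kernel

theorem vc_vOf : ∀ e < 4, vOf (vc e) = 48 ∧ vc e &&& 255 = 200 := by decide +kernel

theorem v_move_aux : v4.all (fun a => (List.range 64).all fun k =>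
    Nat.beq (wn 3 a (eich 32 k)) (eich 48 (wn 3 a k)) && Nat.beq (wn 3 a (eich 16 k)) (eich 16 (wn 3 a k)))
      = true := by decide +kernel

theorem plane_mask_aux : ∀ a ∈ v4, ∀ y ∈ [4, 8, 12],
    b1 (wn 3 a y) = false ∧ wn 3 a y &&& 60 ∈ [4, 8, 12] := by decide +kernel

theorem vOf_span : ∀ y ∈ v4, bn 16 y = false → bn y 32 = false → y ∈ [0, 4, 8, 12] := by decide +kernel

end Cfsg.Agent.Lib.SuzSeven52
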