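import Cfsg.Agent.Lib.SuzSeven52.Pack
import Cfsg.Agent.Lib.SuzSeven52.VChecks

/-!
# Suzuki type: `C(z) ∩ C(w)` normalises the four-group

Owner: helper52.
-/

set_option autoImplicit false
set_option maxRecDepth 100000

namespace Cfsg.Agent.Lib.SuzSeven52

open Cfsg.Agent.Lib.SuzType52

variable {G : Type*} [Group G] {z : G} {Q : Subgroup G} {co : G → ℕ} {ac : G → ℕ → ℕ} {x n : G}
  {gen : ℕ → G} {w v g q r : G}

/-- The action on the parameters of the part in `Q` of a conjugate. -/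
theorem Std.mask_of_conj (s : Std z Q co ac x n gen) {u : G} (hz : Commute u z) (hx : Commute u x)
    {m m' : ℕ} (hm : m < 1024) (hm' : m' < 1024) (he : u * phi gen z x m * u⁻¹ = phi gen z x m') :
    ∃ k, k < 64 ∧ b1 k = false ∧ k &&& 60 = vOf m ∧ ac u k &&& 60 = vOf m' := by
  have d := s.duo
  obtain ⟨a, r, ha, -, hr, hrv, har, -, -⟩ := phi_split d s.gens hm
  obtain ⟨a', r', ha', -, hr', hrv', har', -, -⟩ := phi_split d s.gens hm'
  have hcA : InB Q n z (u * a * u⁻¹) := ⟨d.P_conj hx ha.1, (hz.mul_left ha.2).mul_left hz.inv_left⟩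
  have hcR := d.fr.norm u hz r hr.1
  have e : a'⁻¹ * (u * a * u⁻¹) = r' * (u * r * u⁻¹)⁻¹ := by
    rw [har, har'] at he
    rw [eq_mul_inv_iff_mul_eq, mul_assoc, show u * a * u⁻¹ * (u * r * u⁻¹) = u * (a * r) * u⁻¹ by group,
      he, inv_mul_cancel_left]
  obtain ⟨i, j, hij⟩ := d.inter (u := r' * (u * r * u⁻¹)⁻¹) (mul_mem hr'.1 (inv_mem hcR))
    (e ▸ d.P_mul (d.P_inv ha'.1) hcA.1)
  refine ⟨co r, d.fr.co_lt r hr.1, hr.2, hrv, ?_⟩
  have hco : co (r' * (u * r * u⁻¹)⁻¹) &&& 60 = co (ee z x i j) &&& 60 := by rw [hij]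
  rw [d.fr.co_mul _ hr'.1 _ (inv_mem hcR), d.fr.co_inv hcR, d.fr.conj u hz r hr.1, xor_mask, hrv',
    d.co_ee] at hco
  have h0 : (bif i then 1 else 0 : ℕ) &&& 60 = 0 := by cases i <;> rfl
  rw [h0] at hco
  exact (Nat.eq_of_xor_eq_zero hco).symm

/-- The map of the small space induced by an element fixing the point. -/
theorem _root_.Cfsg.Agent.Lib.SuzType52.Iso6.mask_map {f : ℕ → ℕ} (hf : Iso6 f) (h1 : f 1 = 1) {k : ℕ} (hk : k < 64)
    (hb : b1 k = false) : f k &&& 60 = f (k &&& 60) &&& 60 := by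
  rcases mask_cases hk hb with e | e
  · rw [← e]
  · conv_lhs => rw [e, hf.add _ (lt_of_mem_v4 _ (mem_v4 hk)).1 1 (by norm_num), h1, xor_mask]
    exact Nat.xor_zero _

namespace Pack

variable (p : Pack z Q co ac x n gen w v g q r)
include p

theorem w_eq : w = phi gen z x wc := by
  obtain ⟨e, -, hw, -⟩ := p.code
  exact hw

theorem v_facts [Finite G] : BT z v ∧ BT z (v * w) ∧ Commute v z ∧ Commute v x ∧ Commute v w := by
  obtain ⟨e, he, hw, hv⟩ := p.code
  obtain ⟨h1, h2, h3, h4, h5, h6, h7⟩ := vc_spec e he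
  subst hw hv
  refine ⟨p.std.bt_of_code h1 h3 (by rw [h2]; decide), ?_, (phi_comm p.std.duo p.std.gens h1).1,
    (phi_comm p.std.duo p.std.gens h1).2, p.std.commute_codes h4⟩
  rw [p.std.mul]
  exact p.std.bt_of_code h5 h7 (by rw [h6]; decide)

theorem M_comm {m : ℕ} (hm : m ∈ Ml) :
    Commute (phi gen z x m) w ∧ Commute (phi gen z x m) v := by
  obtain ⟨e, he, hw, hv⟩ := p.code
  subst hw hv
  exact ⟨p.std.commute_codes (mem_Ml.1 hm).2, p.std.commute_codes (Nat.eq_of_beq_eq_true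
    (List.all_eq_true.1 (List.all_eq_true.1 vc_central_aux e (List.mem_range.2 he)) m hm))⟩

/-- `C(z) ∩ C(w) ∩ C(v)` is coded. -/
theorem exists_code_M {y : G} (hz : Commute y z) (hw : Commute y w) (hv : Commute y v) :
    ∃ m ∈ Ml, phi gen z x m = y := by
  obtain ⟨e, he, hw', hv'⟩ := p.code
  subst hw' hv'
  rcases p.std.cases_T hz hw with h | ⟨-, a, ha, hk⟩
  · exact h
  exfalso
  obtain ⟨k, hk', hne⟩ := tw_noncomm_aux a ha 32 (by simp)
  obtain ⟨h1, h2, -, -, -, -, -⟩ := vc_spec e he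
  refine hne ?_
  have hvz := (phi_comm p.std.duo p.std.gens h1).1
  have ha32 : (32 : ℕ) ∈ v4 := by decide
  have hvk : ∀ j < 64, ac (phi gen z x (vc e)) j = eich 32 j := fun j hj => by
    rw [phi_act p.std.duo p.std.gens h1 j hj, h2]
  rw [← hvk k hk', ← hk _ (p.std.duo.fr.ac_lt hvz hk'), ← hk k hk',
    ← hvk _ (p.std.duo.fr.ac_lt hz hk'), ← p.std.duo.fr.ac_mul hz hvz hk',
    ← p.std.duo.fr.ac_mul hvz hz hk', hv.eq]

/-- An element of `C(z) ∩ C(w)` normalises the coded centraliser. -/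
theorem conj_code {t y : G} (htz : Commute t z) (htw : Commute t w) {m : ℕ} (hm : m ∈ Ml)
    (hy : phi gen z x m = y) : ∃ m' ∈ Ml, phi gen z x m' = t * y * t⁻¹ := by
  have d := p.std.duo
  obtain ⟨hyz, hyx⟩ := phi_comm d p.std.gens (mem_Ml.1 hm).1
  rw [hy] at hyz hyx
  have hyw : Commute y w := hy ▸ (p.M_comm hm).1
  have hz' : Commute (t * y * t⁻¹) z := (htz.mul_left hyz).mul_left htz.inv_left
  have hw' : Commute (t * y * t⁻¹) w := (htw.mul_left hyw).mul_left htw.inv_left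
  rw [p.w_eq] at hw' htw
  rcases p.std.cases_T hz' hw' with h | ⟨hne, -⟩
  · exact h
  exfalso
  have hx' : Commute (t * y * t⁻¹) x := by
    have key : Commute y (t⁻¹ * x * t) := by
      rcases p.std.cases_T htz.inv_left htw.inv_left with ⟨m', hm', e⟩ | ⟨e, -⟩
      · have hx2 := (phi_comm d p.std.gens (mem_Ml.1 hm').1).2
        rw [e] at hx2
        have : t⁻¹ * x * t⁻¹⁻¹ = x := mul_inv_eq_iff_eq_mul.2 hx2.eq
        rw [inv_inv] at this
        rwa [this]
      · rw [inv_inv] at e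
        rw [e]
        exact hyx.mul_right hyz
    have := key.map (MulAut.conj t).toMonoidHom
    simpa [mul_assoc] using this
  rw [hx'.eq, mul_inv_cancel_right] at hne
  exact d.fr.es.ne (left_eq_mul.1 hne)

/-- An element of `Q` commuting with `w`. -/
theorem code_Q {y : G} (hy : y ∈ Q) (hw : Commute y w) :
    ∃ m ∈ Ml, phi gen z x m = y ∧ aOf m = 0 ∧ Commute y x ∧ co y &&& 60 ∈ [0, 4, 8, 12] := by
  have d := p.std.duo
  have s := p.std
  rw [p.w_eq] at hw
  rcases s.cases_T (d.fr.es.comm y hy) hw with ⟨m, hm, e⟩ | ⟨-, a, ha, hk⟩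
  · have hlt := (mem_Ml.1 hm).1
    have ha : aOf m = 0 := eich_inj (aOf_mem m hlt) (by decide) fun k hk => by
      rw [← phi_act d s.gens hlt k hk, e, d.fr.ac_Q hy hk, eich_zero hk]
    refine ⟨m, hm, e, ha, e ▸ (phi_comm d s.gens hlt).2, ?_⟩
    rw [← e, s.mask_Q hlt ha]
    have h := List.all_eq_true.1 Ml_Q_aux m hm
    rw [ha] at h
    simp only [Nat.beq_refl, Bool.not_true, Bool.false_or, Bool.and_eq_true, Bool.not_eq_true'] at h
    exact vOf_span _ (vOf_mem m hlt) h.1 h.2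
  · obtain ⟨k, hk', hne⟩ := wn_not_id a ha
    exact absurd ((hk k hk').symm.trans (d.fr.ac_Q hy hk')) hne

/-- The rotation, normalised. -/
theorem exists_rot : ∃ r, r ^ 3 = 1 ∧ Commute r z ∧ Commute r (g * z * g⁻¹) ∧ Commute r q ∧
    r * w * r⁻¹ = v ∧ r * v * r⁻¹ = w * v := by
  rcases p.rot with ⟨h1, h2⟩ | ⟨h1, h2⟩
  · exact ⟨r, p.r3, p.rz, p.rx, p.rq, h1, h2⟩
  · refine ⟨r⁻¹, by rw [inv_pow, p.r3, inv_one], p.rz.inv_left, p.rx.inv_left, p.rq.inv_left, ?_, ?_⟩
    · conv_lhs => rw [← h2]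
      group
    · have e : r⁻¹ = r * r := by
        refine inv_eq_of_mul_eq_one_right ?_
        rw [← pow_three, p.r3]
      rw [e, show r * r * v * (r * r)⁻¹ = r * (r * v * r⁻¹) * r⁻¹ by group, h2, h1]
      obtain ⟨e', he, hw, hv⟩ := p.code
      subst hw hv
      exact p.std.commute_codes (vc_spec e' he).2.2.2.1

/-- A rotation of the four-group in `C(z)` commutes with `x`. -/
theorem rot_x [Finite G] {r : G} (h3 : r ^ 3 = 1) (hz : Commute r z) (h1 : r * w * r⁻¹ = v)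
    (h2 : r * v * r⁻¹ = w * v) : Commute r x := by
  have d := p.std.duo
  have hwx : Commute w x := p.w_eq ▸ (p.std.w_comm).2
  obtain ⟨-, -, hvz, hvx, hvw⟩ := p.v_facts
  have hwz : Commute w z := p.w_eq ▸ (p.std.w_comm).1
  have hinv2 : r⁻¹ * w * r ∈ ({v * w, w * v} : Set G) := by
    have e : r⁻¹ = r * r := inv_eq_of_mul_eq_one_right (by rw [← pow_three, h3])
    have : r⁻¹ * w * r = r * (r * w * r⁻¹) * r⁻¹ := by
      conv_lhs => rw [e]
      have e2 : r = (r * r)⁻¹ := by rw [← e, inv_inv]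
      conv_lhs => arg 2; rw [e2]
      group
    rw [this, h1, h2]
    exact Or.inr rfl
  have hxv' : Commute x (r⁻¹ * w * r) ∧ Commute x (r⁻¹ * v * r) := by
    constructor
    · rcases hinv2 with e | e <;> rw [e]
      · exact hvx.symm.mul_right hwx.symm
      · exact hwx.symm.mul_right hvx.symm
    · have : r⁻¹ * v * r = w := by rw [← h1]; group
      rw [this]
      exact hwx.symm
  have hm1 : Commute (r * x * r⁻¹) w := by
    have := hxv'.1.map (MulAut.conj r).toMonoidHom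
    simpa [mul_assoc] using this
  have hm2 : Commute (r * x * r⁻¹) v := by
    have := hxv'.2.map (MulAut.conj r).toMonoidHom
    simpa [mul_assoc] using this
  have hyQ : r * x * r⁻¹ ∈ Q := d.fr.norm r hz x d.xQ
  obtain ⟨m, hm, em, am, -, -⟩ := p.code_Q hyQ hm1
  -- it is central in the coded centraliser
  have hcen : ∀ k ∈ Ml, Commute (phi gen z x m) (phi gen z x k) := by
    intro k hk
    obtain ⟨hkz, hkx⟩ := phi_comm d p.std.gens (mem_Ml.1 hk).1
    obtain ⟨hkw, hkv⟩ := p.M_comm hk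
    have h' : Commute (r⁻¹ * phi gen z x k * r) w ∧ Commute (r⁻¹ * phi gen z x k * r) v := by
      constructor
      · have h := hkv.map (MulAut.conj r⁻¹).toMonoidHom
        have e : r⁻¹ * v * r = w := by rw [← h1]; group
        simpa [e, mul_assoc] using h
      · have h := (hkw.mul_right hkv).map (MulAut.conj r⁻¹).toMonoidHom
        have e : r⁻¹ * (w * v) * r = v := by rw [← h2]; group
        simpa [e, mul_assoc] using h
    obtain ⟨k', hk', ek⟩ := p.exists_code_M ((hz.inv_left.mul_left hkz).mul_left hz) h'.1 h'.2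
    have hc := (phi_comm d p.std.gens (mem_Ml.1 hk').1).2
    rw [ek] at hc
    have h := hc.map (MulAut.conj r).toMonoidHom
    rw [em]
    simpa [mul_assoc] using h.symm
  have hall : (Ml.all fun k => Nat.beq (mu m k) (mu k m)) = true := List.all_eq_true.2 fun k hk => by
    rw [p.std.eq_of_commute (mem_Ml.1 hm).1 (mem_Ml.1 hk).1 (hcen k hk)]
    exact Nat.beq_refl _
  have h := List.all_eq_true.1 central_aux m hm
  rw [hall, am] at h
  simp only [Nat.beq_refl, Bool.not_true, Bool.false_or, Bool.true_and] at h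
  have h255 : m &&& 255 = 0 := by simpa [Nat.beq_eq] using h
  have hee : r * x * r⁻¹ = ee2 z x (m >>> 8) := by
    rw [← em, phi, prodL_congr (g' := 0) fun i hi => ?_]
    · simp [prodL, idx, pw]
    · conv_lhs => rw [← low_code m (mem_Ml.1 hm).1, h255, Nat.zero_xor, testBit_shift _ _ (idx_lt i hi)]
      exact (Nat.zero_testBit i).symm
  have hne1 : r * x * r⁻¹ ≠ 1 := fun e => d.x_ne.1 (conj_eq_one_iff.1 e)
  have hnez : r * x * r⁻¹ ≠ z := fun e => d.x_ne.2 (by
    rw [← mul_inv_eq_iff_eq_mul.2 hz.eq] at e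
    exact mul_left_cancel (mul_right_cancel e))
  have hcase : r * x * r⁻¹ = x ∨ r * x * r⁻¹ = x * z := by
    rw [ee2] at hee
    revert hee
    cases (m >>> 8).testBit 0 <;> cases (m >>> 8).testBit 1 <;> intro hee
    · exact absurd (hee.trans d.ee_zero) hne1
    · exact absurd (hee.trans (one_mul z)) hnez
    · exact Or.inl (hee.trans (mul_one x))
    · exact Or.inr hee
  rcases hcase with e | e
  · exact mul_inv_eq_iff_eq_mul.1 e
  · exfalso
    have e' : r * (x * z) * r⁻¹ = x := by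
      rw [← conj_mul, e, mul_inv_eq_iff_eq_mul.2 hz.eq, mul_assoc, d.fr.es.sq, mul_one]
    have : r ^ 3 * x * (r ^ 3)⁻¹ = x * z := by
      simp only [pow_succ, pow_zero, one_mul]
      calc r * r * r * x * (r * r * r)⁻¹ = r * (r * (r * x * r⁻¹) * r⁻¹) * r⁻¹ := by group
        _ = x * z := by rw [e, e', e]
    rw [h3, one_mul, inv_one, mul_one] at this
    exact d.fr.es.ne (left_eq_mul.1 this)

/-- `C(z) ∩ C(w)` normalises the four-group. -/
theorem normalise [Finite G] {t : G} (htz : Commute t z) (htw : Commute t w) :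
    t * v * t⁻¹ = v ∨ t * v * t⁻¹ = v * w := by
  have d := p.std.duo
  have s := p.std
  have htw' : Commute t (phi gen z x wc) := p.w_eq ▸ htw
  rcases s.cases_T htz htw' with ⟨m, hm, e⟩ | ⟨htx, a, ha, hk⟩
  · exact Or.inl (mul_inv_eq_iff_eq_mul.2 (e ▸ (p.M_comm hm).2).eq)
  obtain ⟨e₀, he₀, hw₀, hv₀⟩ := p.code
  obtain ⟨hlt, haO, -, hcomm, hlt', haO', -⟩ := vc_spec e₀ he₀
  -- the conjugate of `v`
  have hvMl : vc e₀ ∈ Ml := mem_Ml.2 ⟨hlt, hcomm⟩
  obtain ⟨m, hm, em⟩ := p.conj_code htz htw hvMl hv₀.symm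
  have hcen : (Ml.all fun k => Nat.beq (mu m k) (mu k m)) = true := List.all_eq_true.2 fun k hk => by
    obtain ⟨k', hk', ek⟩ := p.conj_code htz.inv_left htw.inv_left hk rfl
    have hc : Commute (phi gen z x k') v := (p.M_comm hk').2
    rw [ek, inv_inv] at hc
    have h := hc.map (MulAut.conj t).toMonoidHom
    rw [s.eq_of_commute (mem_Ml.1 hm).1 (mem_Ml.1 hk).1 ?_]
    · exact Nat.beq_refl _
    · rw [em]
      simpa [mul_assoc] using h.symm
  have hmA : aOf m = 48 := by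
    have hvz := (phi_comm d s.gens hlt).1
    refine eich_inj (aOf_mem m (mem_Ml.1 hm).1) (by decide) fun k hk' => ?_
    have hk1 := d.fr.ac_lt htz.inv_left hk'
    rw [← phi_act d s.gens (mem_Ml.1 hm).1 k hk', em, hv₀, d.fr.ac_conj hvz htz hk',
      phi_act d s.gens hlt _ hk1, haO, hk _ (eich_lt (by decide) hk1)]
    have h := List.all_eq_true.1 (List.all_eq_true.1 v_move_aux a ha) _ (List.mem_range.2 hk1)
    rw [Bool.and_eq_true] at h
    rw [Nat.eq_of_beq_eq_true h.1, ← hk _ hk1, d.fr.ac_inv' htz hk']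
  have h := List.all_eq_true.1 central_aux m hm
  rw [hcen, hmA] at h
  simp [Nat.beq_eq] at h
  obtain ⟨e', he', hme⟩ := h
  set v' := phi gen z x (vc e') with hv'
  have htv : t * v * t⁻¹ = v' * w := by rw [← em, hme, hv', hw₀, s.mul]
  obtain ⟨hlt2, -, hsq2, hcomm2, -, -, -⟩ := vc_spec e' he'
  have hv'w : Commute v' w := hw₀ ▸ s.commute_codes hcomm2
  have hww : w * w = 1 := hw₀ ▸ s.w_sq
  -- the rotation and its conjugate
  obtain ⟨r, r3, rz, rgz, rq, r1, r2⟩ := p.exists_rot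
  have rx : Commute r x := p.rot_x r3 rz r1 r2
  set σ := t * r⁻¹ * t⁻¹ with hσ
  have σz : Commute σ z := (htz.mul_left rz.inv_left).mul_left htz.inv_left
  have σx : Commute σ x := by
    have e : t * (x * z) * t⁻¹ = x := by
      rw [← conj_mul, htx, mul_inv_eq_iff_eq_mul.2 htz.eq, mul_assoc, d.fr.es.sq, mul_one]
    have h := (rx.inv_left.mul_right rz.inv_left).map (MulAut.conj t).toMonoidHom
    simpa [e] using h
  have ri1 : r⁻¹ * w * r = w * v := by
    have e : r * (w * v) * r⁻¹ = w := by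
      rw [← conj_mul, r1, r2, ← mul_assoc, (p.v_facts).2.2.2.2.eq, mul_assoc,
        (p.v_facts).1.sq, mul_one]
    conv_lhs => rw [← e]
    group
  have ri2 : r⁻¹ * v * r = w := by rw [← r1]; group
  have hσw : σ * w * σ⁻¹ = v' := by
    have htwc : t⁻¹ * w * t = w := by rw [mul_assoc, ← htw.eq, inv_mul_cancel_left]
    calc σ * w * σ⁻¹ = t * (r⁻¹ * (t⁻¹ * w * t) * r) * t⁻¹ := by rw [hσ]; group
      _ = t * w * t⁻¹ * (t * v * t⁻¹) := by rw [htwc, ri1]; group
      _ = v' := by rw [mul_inv_eq_iff_eq_mul.2 htw.eq, htv, hv'w.eq, ← mul_assoc, hww, one_mul]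
  have hσv : σ * v' * σ⁻¹ = w * v' := by
    have e : v' = t * v * t⁻¹ * w := by rw [htv, mul_assoc, hww, mul_one]
    conv_lhs => rw [e]
    rw [← conj_mul, hσw]
    calc σ * (t * v * t⁻¹) * σ⁻¹ * v' = t * (r⁻¹ * v * r) * t⁻¹ * v' := by rw [hσ]; group
      _ = w * v' := by rw [ri2, mul_inv_eq_iff_eq_mul.2 htw.eq]
  set u := r⁻¹ * σ with hu
  have huz : Commute u z := rz.inv_left.mul_left σz
  have hux : Commute u x := rx.inv_left.mul_left σx
  set δ := v⁻¹ * v' with hδ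
  have hδee : ∃ i j, δ = ee z x i j := by
    refine ⟨(e₀ ^^^ e').testBit 0, (e₀ ^^^ e').testBit 1, ?_⟩
    have hl : ∀ e < 4, phi gen z x (vc e) = phi gen z x (vc 0) * ee2 z x e := fun e he => by
      have key : ∀ e < 4, vc e >>> 8 = e ∧ vc 0 >>> 8 = 0 ∧
          ∀ i ∈ idx, (vc e).testBit i = (vc 0).testBit i := by decide +kernel
      obtain ⟨k1, k2, k3⟩ := key e he
      rw [phi, phi, k1, k2, prodL_congr k3, ee2_zero d, mul_one]
    rw [hδ, hv₀, hv', hl e₀ he₀, hl e' he', mul_inv_rev, mul_assoc, inv_mul_cancel_left]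
    rw [show (ee2 z x e₀)⁻¹ = ee2 z x e₀ from inv_eq_of_mul_eq_one_right (d.ee_sq _ _), ee2_mul d]
    rfl
  obtain ⟨i, j, hij⟩ := hδee
  have hrδ : Commute r δ := hij ▸ d.ee_comm rx rz i j
  have hv'δ : v' = v * δ := by rw [hδ, mul_inv_cancel_left]
  have huw : u * w * u⁻¹ = w * δ := by
    calc u * w * u⁻¹ = r⁻¹ * (σ * w * σ⁻¹) * r := by rw [hu]; group
      _ = r⁻¹ * (v * δ) * r := by rw [hσw, hv'δ]
      _ = r⁻¹ * v * r * (r⁻¹ * δ * r) := by group
      _ = w * δ := by rw [ri2, mul_assoc r⁻¹, ← hrδ.eq, inv_mul_cancel_left]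
  have huv : u * v' * u⁻¹ = v' := by
    calc u * v' * u⁻¹ = r⁻¹ * (σ * v' * σ⁻¹) * r := by rw [hu]; group
      _ = r⁻¹ * w * r * (r⁻¹ * v * r) * (r⁻¹ * δ * r) := by rw [hσv, hv'δ]; group
      _ = v * δ := by
        rw [ri1, ri2, mul_assoc r⁻¹, ← hrδ.eq, inv_mul_cancel_left, ← (p.v_facts).2.2.2.2.eq,
          mul_assoc (v * w), mul_assoc v, ← mul_assoc w, hww, one_mul]
      _ = v' := hv'δ.symm
  -- `u` is coded
  have hfix : ∀ y ∈ [4, 8, 12], ac r y &&& 60 = y := by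
    obtain ⟨m₁, -, -, -, c1, k1⟩ := p.code_Q p.qQ p.qw
    obtain ⟨m₂, -, -, -, c2, k2⟩ := p.code_Q p.xQ p.xw
    have hb1 := (d.commute_x_iff p.qQ).1 c1
    have hb2 := (d.commute_x_iff p.xQ).1 c2
    have hr1 : ac r 1 = 1 := by
      rw [← d.cox, ← d.fr.conj r rz x d.xQ, mul_inv_eq_iff_eq_mul.2 rx.eq]
    have hf := d.fr.iso rz
    have f1 : ac r (co q &&& 60) &&& 60 = co q &&& 60 := by
      rw [← hf.mask_map hr1 (d.fr.co_lt q p.qQ) hb1, ← d.fr.conj r rz q p.qQ,
        mul_inv_eq_iff_eq_mul.2 rq.eq]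
    have f2 : ac r (co (g * z * g⁻¹) &&& 60) &&& 60 = co (g * z * g⁻¹) &&& 60 := by
      rw [← hf.mask_map hr1 (d.fr.co_lt _ p.xQ) hb2, ← d.fr.conj r rz _ p.xQ,
        mul_inv_eq_iff_eq_mul.2 rgz.eq]
    have hb : bn (co q &&& 60) (co (g * z * g⁻¹) &&& 60) = true := by
      rw [bn_mask2 (d.fr.co_lt q p.qQ) (d.fr.co_lt _ p.xQ) hb1 hb2]
      cases h : bn (co q) (co (g * z * g⁻¹)) with
      | true => rfl
      | false => exact absurd ((d.fr.commute_Q p.qQ p.xQ).2 h) p.noncomm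
    generalize co q &&& 60 = A at k1 f1 hb
    generalize co (g * z * g⁻¹) &&& 60 = B at k2 f2 hb
    have hA : A < 64 ∧ B < 64 := by
      constructor <;> [fin_cases k1; fin_cases k2] <;> norm_num
    have f3 : ac r (A ^^^ B) &&& 60 = A ^^^ B := by rw [hf.add A hA.1 B hA.2, xor_mask, f1, f2]
    intro y hy
    have hdec : ∀ A ∈ [0, 4, 8, 12], ∀ B ∈ [0, 4, 8, 12], bn A B = true → ∀ y ∈ [4, 8, 12],
        y = A ∨ y = B ∨ y = A ^^^ B := by decide
    have := hdec A k1 B k2 hb y hy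
    rcases this with rfl | rfl | rfl <;> assumption
  have hu1 : ac u 1 = 1 := by
    rw [← d.cox, ← d.fr.conj u huz x d.xQ, mul_inv_eq_iff_eq_mul.2 hux.eq]
  have hfu := d.fr.iso huz
  have huy : ∀ y ∈ [4, 8], ac u y &&& 60 = y := by
    intro y hy
    have hy' : y < 64 ∧ b1 y = false ∧ y ∈ [4, 8, 12] ∧ y &&& 60 = y := by revert y; decide
    have hri : ∀ y ∈ [4, 8, 12], ac r⁻¹ y &&& 60 = y := fun y hy => by
      have hy' : y < 64 ∧ b1 y = false ∧ y &&& 60 = y := by revert y; decide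
      have hr1 : ac r 1 = 1 := by
        rw [← d.cox, ← d.fr.conj r rz x d.xQ, mul_inv_eq_iff_eq_mul.2 rx.eq]
      have e1 : ac r⁻¹ 1 = 1 := by rw [← hr1, d.fr.ac_inv rz (by norm_num)]; exact hr1.symm
      have hfi := d.fr.iso rz.inv_left
      have hlt := (d.fr.ac_lt rz hy'.1)
      have := hfi.mask_map e1 hlt (((d.fr.iso rz).b1_eq' hr1 hy'.1).trans hy'.2.1)
      rw [hfix y hy, d.fr.ac_inv rz hy'.1, hy'.2.2] at this
      exact this.symm
    obtain ⟨hb, hin⟩ := plane_mask_aux a ha y hy'.2.2.1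
    have htinv1 : ac t 1 = 1 := by
      rw [hk 1 (by norm_num)]
      exact Nat.eq_of_beq_eq_true (List.all_eq_true.1 (List.all_eq_true.1 wn_one_aux 3
        (List.mem_range.2 (by norm_num))) a ha)
    have hti : ac t⁻¹ 1 = 1 := by
      conv_lhs => rw [← htinv1]
      exact d.fr.ac_inv htz (by norm_num)
    have hσy : ac σ y &&& 60 = y := by
      have hwlt : wn 3 a y < 64 := by rw [← hk y hy'.1]; exact d.fr.ac_lt htz hy'.1
      -- conjugate the fixed masks
      have key : ∀ y' ∈ [4, 8, 12], ac σ (ac t y') &&& 60 = ac t y' &&& 60 := by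
        intro y' hy''
        have h' : y' < 64 ∧ b1 y' = false ∧ y' &&& 60 = y' := by revert y'; decide
        rw [hσ, d.fr.ac_conj rz.inv_left htz (d.fr.ac_lt htz h'.1), d.fr.ac_inv htz h'.1]
        have hri1 : ac r⁻¹ 1 = 1 := by
          have hr1 : ac r 1 = 1 := by
            rw [← d.cox, ← d.fr.conj r rz x d.xQ, mul_inv_eq_iff_eq_mul.2 rx.eq]
          conv_lhs => rw [← hr1]
          exact d.fr.ac_inv rz (by norm_num)
        rw [(d.fr.iso htz).mask_map htinv1 (d.fr.ac_lt rz.inv_left h'.1)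
          (((d.fr.iso rz.inv_left).b1_eq' hri1 h'.1).trans h'.2.1), hri y' hy'']
      -- the preimage of `y`
      have hpre : ∃ y' ∈ [4, 8, 12], wn 3 a y' &&& 60 = y := by
        have : ∀ a ∈ v4, ∀ y ∈ [4, 8], ∃ y' ∈ [4, 8, 12], wn 3 a y' &&& 60 = y := by decide +kernel
        exact this a ha y hy
      obtain ⟨y', hy'', he⟩ := hpre
      have h' : y' < 64 ∧ b1 y' = false :=
        (show ∀ y ∈ [4, 8, 12], y < 64 ∧ b1 y = false by decide) y' hy''
      have hσ1 : ac σ 1 = 1 := by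
        rw [← d.cox, ← d.fr.conj σ σz x d.xQ, mul_inv_eq_iff_eq_mul.2 σx.eq]
      have h2 := key y' hy''
      rw [hk y' h'.1, he] at h2
      rwa [(d.fr.iso σz).mask_map hσ1 (by rw [← hk y' h'.1]; exact d.fr.ac_lt htz h'.1)
        (plane_mask_aux a ha y' hy'').1, he] at h2
    rw [hu, d.fr.ac_mul rz.inv_left σz hy'.1]
    have hσ1 : ac σ 1 = 1 := by
      rw [← d.cox, ← d.fr.conj σ σz x d.xQ, mul_inv_eq_iff_eq_mul.2 σx.eq]
    have hri1 : ac r⁻¹ 1 = 1 := by
      have hr1 : ac r 1 = 1 := by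
        rw [← d.cox, ← d.fr.conj r rz x d.xQ, mul_inv_eq_iff_eq_mul.2 rx.eq]
      conv_lhs => rw [← hr1]
      exact d.fr.ac_inv rz (by norm_num)
    rw [(d.fr.iso rz.inv_left).mask_map hri1 (d.fr.ac_lt σz hy'.1)
      (((d.fr.iso σz).b1_eq' hσ1 hy'.1).trans hy'.2.1), hσy, hri y hy'.2.2.1]
  obtain ⟨mδ, hmδ, emδ, hvδ⟩ : ∃ m < 1024, phi gen z x m = w * δ ∧ vOf m = 32 := by
    refine ⟨wc ^^^ (two i j <<< 8), ?_, ?_, ?_⟩
    · cases i <;> cases j <;> decide
    · have key : ∀ i j : Bool, mu wc (enc4 0 0 (two i j)) = wc ^^^ (two i j <<< 8) := by decide +kernel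
      rw [← key, ← s.mul, hw₀, hij]
      congr 1
      have h0 := enc4_spec 0 (by decide) 0 (by decide) (two i j) (by cases i <;> cases j <;> decide)
      have key2 : ∀ i j : Bool, ∀ k ∈ idx, (enc4 0 0 (two i j)).testBit k = (0 : ℕ).testBit k := by
        decide +kernel
      rw [phi, prodL_congr (key2 i j), h0.2.2.2, ee2_two d]
      simp [prodL, idx, pw]
    · cases i <;> cases j <;> decide
  obtain ⟨k32, hk32, hb32, hm32, hM32⟩ := s.mask_of_conj huz hux wc_spec.1 hmδ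
    (by rw [emδ, ← hw₀]; exact huw)
  obtain ⟨k48, hk48, hb48, hm48, hM48⟩ := s.mask_of_conj huz hux hlt2 hlt2 huv
  rw [hfu.mask_map hu1 hk32 hb32, hm32, wc_spec.2.2.1, hvδ] at hM32
  rw [hfu.mask_map hu1 hk48 hb48, hm48, (vc_vOf e' he').1] at hM48
  obtain ⟨c, hc, hcu⟩ := hfu.eich_of_basis hu1 fun y hy => by
    simp only [List.mem_cons, List.not_mem_nil, or_false] at hy
    rcases hy with rfl | rfl | rfl | rfl
    · exact huy 4 (by simp)
    · exact huy 8 (by simp)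
    · rw [show (16 : ℕ) = 32 ^^^ 48 from rfl, hfu.add 32 (by norm_num) 48 (by norm_num), xor_mask,
        hM32, hM48]
    · exact hM32
  obtain ⟨mu', hmu, emu, -⟩ := exists_code d s.gens huz hux hc hcu
  have hmMl : mu' ∈ Ml := by
    refine mem_Ml.2 ⟨hmu, ?_⟩
    have h1 := s.eq_of_commute hmu hlt2 (emu.symm ▸ mul_inv_eq_iff_eq_mul.1 huv)
    have h2 := List.all_eq_true.1 (List.all_eq_true.1 cent_v_aux e' (List.mem_range.2 he')) mu'
      (List.mem_range.2 hmu)
    rw [h1, Nat.beq_refl, Bool.not_true, Bool.false_or] at h2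
    exact Nat.eq_of_beq_eq_true h2
  have hcw : Commute u w := emu ▸ (p.M_comm hmMl).1
  rw [mul_inv_eq_iff_eq_mul.2 hcw.eq] at huw
  have hδ1 : δ = 1 := left_eq_mul.1 huw
  rw [htv, hv'δ, hδ1, mul_one]
  exact Or.inr rfl

end Pack

end Cfsg.Agent.Lib.SuzSeven52
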