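import Cfsg.Agent.Lib.SuzSeven52.Five
import Cfsg.Agent.Lib.SuzFive11.Main
import Cfsg.Agent.Lib.SuzFive11.SevenEnd

/-!
# Suzuki type: the centraliser and normaliser of a Sylow 7-subgroup

Owner: helper52.
-/

set_option autoImplicit false
set_option maxRecDepth 100000

namespace Cfsg.Agent.Lib.SuzSeven52

open Cfsg.Agent.Lib.SuzType52 Cfsg.Agent.Lib

theorem exp_aux : ∀ k i : ZMod 7, k ≠ 0 → i ≠ 1 → i ^ 3 = 1 → ∃ j < 3, k ^ 2 * i ^ j = 1 := by
  decide

theorem conj_pow_exp {G : Type*} [Group G] {y b : G} {i : ℕ} (h : y * b * y⁻¹ = b ^ i) :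
    ∀ j : ℕ, y ^ j * b * (y ^ j)⁻¹ = b ^ (i ^ j) := by
  intro j
  induction j with
  | zero => simp
  | succ j ih =>
    calc y ^ (j + 1) * b * (y ^ (j + 1))⁻¹ = y * (y ^ j * b * (y ^ j)⁻¹) * y⁻¹ := by
          rw [pow_succ']; group
      _ = b ^ i ^ (j + 1) := by rw [ih, ← conj_pow, h, ← pow_mul, ← pow_succ']

variable {G : Type*} [Group G] {z : G} {Q : Subgroup G} {co : G → ℕ} {ac : G → ℕ → ℕ} {x n : G}
  {gen : ℕ → G} {w v g q r : G}

namespace Pack

variable [Finite G] (p : Pack z Q co ac x n gen w v g q r)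
include p

/-- Elements of order seven of `C(V)` generate conjugate subgroups. -/
theorem conj_seven {b c : G} (hb : b ∈ CV w v) (hob : orderOf b = 7) (hc : c ∈ CV w v)
    (hoc : orderOf c = 7) : ∃ a ∈ CV w v, ∃ i : ℕ, a * c * a⁻¹ = b ^ i := by
  haveI : Fact (Nat.Prime 7) := ⟨by norm_num⟩
  have key : ∀ (u : ↥(CV w v)), orderOf u = 7 → ∃ S : Sylow 7 ↥(CV w v),
      (S : Subgroup ↥(CV w v)) = Subgroup.zpowers u := by
    intro u hu
    obtain ⟨S, hS⟩ := (IsPGroup.of_card (p := 7) (n := 1)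
      (show Nat.card (Subgroup.zpowers u) = 7 ^ 1 by rw [Nat.card_zpowers, hu, pow_one])).exists_le_sylow
    refine ⟨S, (Subgroup.eq_of_le_of_card_ge hS ?_).symm⟩
    rw [S.card_eq_multiplicity, p.card_CV, Nat.card_zpowers, hu,
      show 80640 = 7 ^ 1 * 11520 by norm_num, Nat.factorization_mul (by norm_num) (by norm_num),
      Finsupp.add_apply, Nat.Prime.factorization_pow Fact.out,
      Nat.factorization_eq_zero_of_not_dvd (by norm_num : ¬ 7 ∣ 11520)]
    simp
  obtain ⟨S, hS⟩ := key ⟨c, hc⟩ (by rw [← Subgroup.orderOf_coe]; exact hoc)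
  obtain ⟨S', hS'⟩ := key ⟨b, hb⟩ (by rw [← Subgroup.orderOf_coe]; exact hob)
  obtain ⟨a, ha⟩ := MulAction.exists_smul_eq ↥(CV w v) S S'
  have h : a * ⟨c, hc⟩ * a⁻¹ ∈ Subgroup.zpowers (⟨b, hb⟩ : ↥(CV w v)) := by
    rw [← hS', ← ha]
    exact ⟨_, hS.symm ▸ Subgroup.mem_zpowers _, rfl⟩
  obtain ⟨i, hi⟩ := (mem_powers_iff_mem_zpowers (x := (⟨b, hb⟩ : ↥(CV w v)))).2 h
  exact ⟨a, a.2, i, (congrArg Subtype.val hi).symm.trans (SubmonoidClass.coe_pow _ i) |> id⟩

/-- An element of order seven of `C(V)` with its automisers. -/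
theorem exists_seven : ∃ b ∈ CV w v, orderOf b = 7 ∧
    (∃ y ∈ CV w v, ∃ i : ℕ, y * b * y⁻¹ = b ^ i ∧ ¬ Commute y b ∧ Commute (y ^ 3) b) ∧
    (∃ r' k, r' * w * r'⁻¹ = v ∧ r' * v * r'⁻¹ = w * v ∧ r' * b * r'⁻¹ = b ^ (k : ℕ)) ∧
    ∃ u, ∃ k : ℕ, Commute u w ∧ u ∉ CV w v ∧ u * b * u⁻¹ = b ^ k := by
  haveI : Fact (Nat.Prime 7) := ⟨by norm_num⟩
  obtain ⟨⟨b, hb⟩, hob⟩ := exists_prime_orderOf_dvd_card' (G := CV w v) 7 (by rw [p.card_CV]; norm_num)
  rw [← Subgroup.orderOf_coe] at hob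
  simp only at hob
  refine ⟨b, hb, hob, ?_, ?_, ?_⟩
  · obtain ⟨F, iF, iFin, hF, ⟨e⟩⟩ := p.exists_psl'
    have hbb := p.orderOf_bar (Or.inr rfl) hb hob
    set NF := Subgroup.normalizer (Subgroup.zpowers (bar w v b) : Set (WQ w v)) with hNF
    have hN := (norm_prime p.isCIT hF e).2 hbb
    haveI : Fact (Nat.Prime 3) := ⟨Nat.prime_three⟩
    obtain ⟨u, hu⟩ := exists_prime_orderOf_dvd_card' (G := NF) 3 (by rw [hN]; norm_num)
    obtain ⟨y, hy, hyu⟩ := bar_surj (u : WQ w v)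
    have hmem : bar w v y * bar w v b * (bar w v y)⁻¹ ∈ Subgroup.zpowers (bar w v b) := by
      rw [hyu]
      exact (Subgroup.mem_normalizer_iff.1 u.2 _).1 (Subgroup.mem_zpowers _)
    obtain ⟨i, hi⟩ := (mem_powers_iff_mem_zpowers (x := bar w v b)).2 hmem
    simp only at hi
    have hyb : y * b * y⁻¹ ∈ CV w v := mul_mem (mul_mem hy hb) (inv_mem hy)
    have hin : (b ^ i)⁻¹ * (y * b * y⁻¹) ∈ Subgroup.closure ({w, v} : Set G) := by
      rw [← bar_eq (pow_mem hb i) hyb, p.bar_pow hb, bar_conj hy hb, hi]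
    set a := (b ^ i)⁻¹ * (y * b * y⁻¹) with ha
    have hconj : y * b * y⁻¹ = b ^ i := by
      have hcm : Commute (b ^ i) a := comm_closure hin (pow_mem hb i)
      have e1 : b ^ i * a = y * b * y⁻¹ := by rw [ha]; group
      have e7 : (b ^ i * a) ^ 7 = 1 := by
        rw [e1, conj_pow, ← hob, pow_orderOf_eq_one]
        group
      have ha2 := p.V_sq hin
      rw [hcm.mul_pow, ← pow_mul, mul_comm i 7, pow_mul, ← hob, pow_orderOf_eq_one, one_pow, one_mul,
        hob, show 7 = 2 * 3 + 1 by norm_num, pow_succ, pow_mul, pow_two, ha2, one_pow, one_mul] at e7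
      rw [← e1, e7, mul_one]
    refine ⟨y, hy, i, hconj, fun hc => ?_, ?_⟩
    · have hz : (u : WQ w v) ∈ Subgroup.zpowers (bar w v b) := by
        rw [← cent_prime p.isCIT hF e (Or.inr rfl) hbb, Subgroup.mem_centralizer_singleton_iff, ← hyu,
          ← bar_mul hy hb, ← bar_mul hb hy, hc.eq]
      have := orderOf_dvd_of_mem_zpowers hz
      rw [Subgroup.orderOf_coe, hu, hbb] at this
      norm_num at this
    · have h3 : y ^ 3 ∈ Subgroup.closure ({w, v} : Set G) := by
        rw [← bar_eq_one (pow_mem hy 3), p.bar_pow hy, hyu, ← hu, ← Subgroup.orderOf_coe,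
          pow_orderOf_eq_one]
      exact (comm_closure h3 hb).symm
  · obtain ⟨r₀, r3, -, -, -, r1, r2⟩ := p.exists_rot
    obtain ⟨c1, c2⟩ := mem_cent_two.1 hb
    have h1 := c1.map (MulAut.conj r₀).toMonoidHom
    have h2 := c2.map (MulAut.conj r₀).toMonoidHom
    simp only [MulEquiv.coe_toMonoidHom, MulAut.conj_apply, r1, r2] at h1 h2
    have hmem : r₀ * b * r₀⁻¹ ∈ CV w v := by
      refine mem_cent_two.2 ⟨?_, h1⟩
      have := h2.mul_right h1
      rwa [show w * v * v = w by rw [mul_assoc, p.v_facts.1.sq, mul_one]] at this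
    obtain ⟨a, ha, k, hk⟩ := p.conj_seven hb hob hmem
      (by rw [← MulAut.conj_apply, MulEquiv.orderOf_eq, hob])
    obtain ⟨a1, a2⟩ := mem_cent_two.1 ha
    refine ⟨a * r₀, k, ?_, ?_, ?_⟩
    · rw [show a * r₀ * w * (a * r₀)⁻¹ = a * (r₀ * w * r₀⁻¹) * a⁻¹ by group, r1]
      exact mul_inv_eq_iff_eq_mul.2 a2.eq
    · rw [show a * r₀ * v * (a * r₀)⁻¹ = a * (r₀ * v * r₀⁻¹) * a⁻¹ by group, r2]
      exact mul_inv_eq_iff_eq_mul.2 (a1.mul_right a2).eq
    · rw [← hk]; group
  · obtain ⟨t, ht, -, -, htv⟩ := p.exists_t0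
    have htw := (mem_cent_two.1 ht).2
    obtain ⟨a, ha, k, hk⟩ := p.conj_seven hb hob (p.normal_CV htw hb)
      (by rw [← MulAut.conj_apply, MulEquiv.orderOf_eq, hob])
    refine ⟨a * t, k, (mem_cent_two.1 ha).1.mul_left htw, fun h => ?_, by rw [← hk]; group⟩
    have ht' : t ∈ CV w v := by simpa using mul_mem (inv_mem ha) h
    rw [(mem_cent_two.1 ht').2.eq, mul_inv_cancel_right] at htv
    exact p.bt_w.ne_one (left_eq_mul.1 htv)

end Pack

/-- The centraliser and the normaliser of a subgroup of order seven. -/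
theorem exists_seven_data [Finite G] (d : Duo z Q co ac x n) :
    ∃ b : G, orderOf b = 7 ∧ (∀ S : Sylow 7 G, Nat.card S = 7) ∧
      Nonempty (↥(Subgroup.centralizer ((Subgroup.zpowers b : Subgroup G) : Set G)) ≃*
        Multiplicative (ZMod 7) × alternatingGroup (Fin 4)) ∧
      Nat.card ↥(Subgroup.normalizer ((Subgroup.zpowers b : Subgroup G) : Set G)) = 504 := by
  classical
  haveI : Fact (Nat.Prime 7) := ⟨by norm_num⟩
  obtain ⟨gen, w, v, g, q, r, p⟩ := exists_pack d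
  obtain ⟨b, hb, hob, ⟨y, hy, i, hyb, hync, hy3⟩, ⟨r', k, r1, r2, rb⟩, u, m, huw, hun, hub⟩ :=
    p.exists_seven
  obtain ⟨hbw, hbv⟩ := mem_cent_two.1 hb
  set B := Subgroup.zpowers b with hB
  set C := Subgroup.centralizer (B : Set G) with hC
  have hCmem : ∀ {c : G}, c ∈ C ↔ Commute c b := by
    intro c
    rw [hC, Subgroup.mem_centralizer_iff]
    refine ⟨fun h => (h b (Subgroup.mem_zpowers b)).symm, fun h a ha => ?_⟩
    obtain ⟨j, rfl⟩ := ha
    exact (h.zpow_right j).symm.eq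
  -- the three involutions of the four-group
  have hrot : ∀ {t : G}, (∀ y : G, Commute y t → Commute y b →
        ∃ a ∈ Subgroup.closure ({w, v} : Set G), ∃ j : ℤ, y = a * b ^ j) →
      ∀ y : G, Commute y (r' * t * r'⁻¹) → Commute y b →
        ∃ a ∈ Subgroup.closure ({w, v} : Set G), ∃ j : ℤ, y = a * b ^ j := by
    intro t ht y hyt hyb'
    have h1 := hyt.map (MulAut.conj r'⁻¹).toMonoidHom
    have h2 := (hyb'.pow_right k).map (MulAut.conj r'⁻¹).toMonoidHom
    simp only [MulEquiv.coe_toMonoidHom, MulAut.conj_apply, inv_inv] at h1 h2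
    rw [show r'⁻¹ * (r' * t * r'⁻¹) * r' = t by group] at h1
    rw [← rb, show r'⁻¹ * (r' * b * r'⁻¹) * r' = b by group] at h2
    obtain ⟨a, ha, j, e⟩ := ht _ h1 h2
    refine ⟨r' * a * r'⁻¹, ?_, k * j, ?_⟩
    · rw [p.mem_V] at ha ⊢
      rcases ha with rfl | rfl | rfl | rfl
      · simp
      · exact Or.inr (Or.inr (Or.inl r1))
      · exact Or.inr (Or.inr (Or.inr (r2.trans p.v_facts.2.2.2.2.symm.eq)))
      · refine Or.inr (Or.inl ?_)
        rw [← conj_mul, r2, r1, mul_assoc, p.v_facts.1.sq, mul_one]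
    · calc y = r' * (r'⁻¹ * y * r') * r'⁻¹ := by group
        _ = r' * a * r'⁻¹ * (r' * b * r'⁻¹) ^ j := by rw [e, conj_zpow]; group
        _ = _ := by rw [rb, ← zpow_natCast, ← zpow_mul]
  have hfw : ∀ y : G, Commute y w → Commute y b →
      ∃ a ∈ Subgroup.closure ({w, v} : Set G), ∃ j : ℤ, y = a * b ^ j := fun y h1 h2 =>
    (p.mem_cent_wf (Or.inr rfl) hbw hob).1 (mem_cent_two.2 ⟨h1, h2⟩)
  have hfv : ∀ y : G, Commute y v → Commute y b →
      ∃ a ∈ Subgroup.closure ({w, v} : Set G), ∃ j : ℤ, y = a * b ^ j := by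
    have := hrot hfw
    rwa [r1] at this
  have hfvw : ∀ y : G, Commute y (v * w) → Commute y b →
      ∃ a ∈ Subgroup.closure ({w, v} : Set G), ∃ j : ℤ, y = a * b ^ j := by
    have := hrot hfv
    rwa [r2, p.v_facts.2.2.2.2.symm.eq] at this
  let bC : ↥C := ⟨b, hCmem.2 (Commute.refl b)⟩
  let wC : ↥C := ⟨w, hCmem.2 hbw.symm⟩
  let vC : ↥C := ⟨v, hCmem.2 hbv.symm⟩
  have hbo : orderOf bC = 7 := by rw [← Subgroup.orderOf_coe]; exact hob
  have hbc : bC ∈ Subgroup.center ↥C := Subgroup.mem_center_iff.2 fun c =>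
    Subtype.ext (hCmem.1 c.2).eq
  have hwv : Commute wC vC := Subtype.ext p.v_facts.2.2.2.2.symm.eq
  have hne : wC ≠ vC := fun h => p.bt_vw.ne_one (by
    rw [← show w = v from congrArg Subtype.val h, p.bt_w.sq])
  have hCt : ∀ t ∈ [wC, vC, vC * wC], ∀ c : ↥C, Commute c t →
      ∃ a ∈ ({1, wC, vC, vC * wC} : Set ↥C), ∃ j : ℕ, c = a * bC ^ j := by
    intro t ht c hct
    have hcb := hCmem.1 c.2
    have hc' : Commute (c : G) (t : G) := congrArg Subtype.val hct
    obtain ⟨a, ha, j, e⟩ : ∃ a ∈ Subgroup.closure ({w, v} : Set G), ∃ j : ℤ, (c : G) = a * b ^ j := by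
      simp only [List.mem_cons, List.not_mem_nil, or_false] at ht
      rcases ht with rfl | rfl | rfl
      exacts [hfw _ hc' hcb, hfv _ hc' hcb, hfvw _ hc' hcb]
    obtain ⟨j', hj'⟩ := (mem_powers_iff_mem_zpowers (x := bC)).2 (⟨j, rfl⟩ : bC ^ j ∈ Subgroup.zpowers bC)
    have hj'' : b ^ j' = b ^ j := by simpa [bC] using congrArg Subtype.val hj'
    rcases p.mem_V.1 ha with rfl | rfl | rfl | rfl
    · exact ⟨1, by simp, j', Subtype.ext (by simpa [bC, hj''] using e)⟩
    · exact ⟨wC, by simp, j', Subtype.ext (by simpa [bC, wC, hj''] using e)⟩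
    · exact ⟨vC, by simp, j', Subtype.ext (by simpa [bC, vC, hj''] using e)⟩
    · exact ⟨vC * wC, by simp, j', Subtype.ext (by simpa [bC, wC, vC, hj''] using e)⟩
  -- an element of the centraliser rotating the four-group
  have hmove : ∃ c : ↥C, ¬ Commute c wC := by
    have hk0 : (k : ZMod 7) ≠ 0 := fun h => by
      obtain ⟨l, rfl⟩ := Nat.modEq_zero_iff_dvd.1 ((ZMod.natCast_eq_natCast_iff k 0 7).1 (by simpa using h))
      rw [pow_mul, ← hob, pow_orderOf_eq_one, one_pow, conj_eq_one_iff] at rb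
      rw [rb, orderOf_one] at hob
      norm_num at hob
    have hi1 : (i : ZMod 7) ≠ 1 := fun h => hync (mul_inv_eq_iff_eq_mul.1 (by
      rw [hyb]
      conv_rhs => rw [← pow_one b]
      rw [pow_eq_pow_iff_modEq, hob]
      exact (ZMod.natCast_eq_natCast_iff i 1 7).1 (by simpa using h)))
    have hi3 : (i : ZMod 7) ^ 3 = 1 := by
      have h := conj_pow_exp hyb 3
      rw [hy3.eq, mul_inv_cancel_right] at h
      have h' : i ^ 3 ≡ 1 [MOD 7] := by
        rw [← hob, ← pow_eq_pow_iff_modEq, pow_one]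
        exact h.symm
      simpa using (ZMod.natCast_eq_natCast_iff (i ^ 3) 1 7).2 h'
    obtain ⟨j, -, hj⟩ := exp_aux _ _ hk0 hi1 hi3
    have hmod : k ^ 2 * i ^ j ≡ 1 [MOD 7] := (ZMod.natCast_eq_natCast_iff _ 1 7).1 (by push_cast; simpa using hj)
    set c := y ^ j * r' ^ 2 with hc
    have hcb : c * b * c⁻¹ = b := by
      calc c * b * c⁻¹ = y ^ j * (r' ^ 2 * b * (r' ^ 2)⁻¹) * (y ^ j)⁻¹ := by rw [hc]; group
        _ = b := by
          rw [conj_pow_exp rb 2, ← conj_pow, conj_pow_exp hyb j, ← pow_mul]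
          conv_rhs => rw [← pow_one b]
          rw [pow_eq_pow_iff_modEq, hob, mul_comm]
          exact hmod
    refine ⟨⟨c, hCmem.2 (mul_inv_eq_iff_eq_mul.1 hcb)⟩, fun h => p.v_facts.1.ne_one ?_⟩
    have hcw : c * w * c⁻¹ = w := mul_inv_eq_iff_eq_mul.2 (congrArg Subtype.val h)
    have hyj := mem_cent_two.1 (pow_mem hy j)
    have hcw' : c * w * c⁻¹ = w * v := by
      calc c * w * c⁻¹ = y ^ j * (r' * (r' * w * r'⁻¹) * r'⁻¹) * (y ^ j)⁻¹ := by rw [hc, pow_two]; group
        _ = w * v := by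
          rw [r1, r2]
          exact mul_inv_eq_iff_eq_mul.2 (hyj.1.mul_right hyj.2).eq
    exact left_eq_mul.1 (hcw.symm.trans hcw')
  have hcent : Nat.card ↥C = 84 ∧
      Nonempty (↥C ≃* Multiplicative (ZMod 7) × alternatingGroup (Fin 4)) := by
    rcases SuzFive11.seven_cent (b := bC) (w := wC) (v := vC) hbo hbc
        (by rw [← Subgroup.orderOf_coe]; exact p.bt_w.ord) (by rw [← Subgroup.orderOf_coe]; exact p.v_facts.1.ord)
        hwv hne hCt with h | h | ⟨f, hf⟩
    · exfalso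
      obtain ⟨c, hc⟩ := hmove
      -- the centraliser of `w` is everything
      have hVB : Subgroup.centralizer ({w, b} : Set G) = C := by
        refine Subgroup.eq_of_le_of_card_ge (fun y hy => hCmem.2 (mem_cent_two.1 hy).2) ?_
        rw [h, p.card_cent_wf (Or.inr rfl) hbw hob]
      exact hc (Subtype.ext (mem_cent_two.1 (hVB.ge c.2)).1.eq)
    · exact h
    · exfalso
      refine (SuzFive11.five_data d (fiveB d)).seven_not_dvd
        (c := (f : G)) (by rw [Subgroup.orderOf_coe, hf]) ?_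
      rw [← hob]
      exact Subgroup.orderOf_dvd_natCard _ (Subgroup.mem_centralizer_singleton_iff.2 (hCmem.1 f.2).symm.eq)
  -- the automiser
  set N := Subgroup.normalizer (B : Set G) with hN
  have hinN : ∀ {c : G} {j : ℕ}, c * b * c⁻¹ = b ^ j → c ∈ N := fun {c j} e => by
    refine Subgroup.mem_normalizer_iff_map_conj_eq.2 (Subgroup.eq_of_le_of_card_ge ?_
      (Subgroup.card_map_of_injective (MulAut.conj _).injective).ge)
    rw [hB, MonoidHom.map_zpowers, Subgroup.zpowers_le]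
    show c * b * c⁻¹ ∈ Subgroup.zpowers b
    rw [e]
    exact Subgroup.npow_mem_zpowers b j
  have hker : B.normalizerMonoidHom.ker = C.subgroupOf N := Subgroup.normalizerMonoidHom_ker B
  have haut : Nat.card (MulAut ↥B) = 6 := by
    haveI : IsCyclic ↥B := by rw [hB]; infer_instance
    rw [IsCyclic.card_mulAut, hB, Nat.card_zpowers, hob, Nat.totient_prime (by norm_num)]
  -- the Sylow order
  have hsyl : ∀ S : Sylow 7 G, Nat.card S = 7 := by
    intro S
    obtain ⟨P, hP⟩ := (IsPGroup.of_card (p := 7) (n := 1)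
      (show Nat.card B = 7 ^ 1 by rw [hB, Nat.card_zpowers, hob, pow_one])).exists_le_sylow
    rw [S.card_eq_multiplicity, ← P.card_eq_multiplicity]
    suffices h : (P : Subgroup G) ≤ B by
      rw [le_antisymm h hP, hB, Nat.card_zpowers, hob]
    intro a ha
    by_contra han
    have hlt : B.subgroupOf (P : Subgroup G) < ⊤ := lt_top_iff_ne_top.2 fun e => han (by
      rw [Subgroup.subgroupOf_eq_top] at e
      exact e ha)
    haveI : Group.IsNilpotent ↥(P : Subgroup G) := P.2.isNilpotent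
    obtain ⟨c, hc, hcn⟩ := SetLike.exists_of_lt (Group.normalizerCondition_of_isNilpotent _ hlt)
    rw [Subgroup.mem_subgroupOf] at hcn
    have hcN : (c : G) ∈ N := by
      have := (Subgroup.mem_normalizer_iff.1 hc ⟨b, hP (Subgroup.mem_zpowers b)⟩).1
        (Subgroup.mem_subgroupOf.2 (Subgroup.mem_zpowers b))
      obtain ⟨j, hj⟩ := (mem_powers_iff_mem_zpowers (x := b)).2 (Subgroup.mem_subgroupOf.1 this)
      exact hinN hj.symm
    obtain ⟨l, hl⟩ := IsPGroup.iff_orderOf.1 P.2 c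
    rw [← Subgroup.orderOf_coe] at hl
    have hc1 : B.normalizerMonoidHom ⟨c, hcN⟩ = 1 := by
      rw [← orderOf_eq_one_iff]
      refine Nat.eq_one_of_dvd_coprimes (Nat.Coprime.pow_left l (show Nat.Coprime 7 6 by norm_num))
        ?_ (haut ▸ orderOf_dvd_natCard _)
      rw [← hl, ← Subgroup.orderOf_mk (c : G) hcN]
      exact orderOf_map_dvd _ _
    have hcC : (c : G) ∈ C := by
      have : (⟨c, hcN⟩ : ↥N) ∈ C.subgroupOf N := hker ▸ MonoidHom.mem_ker.2 hc1
      exact this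
    have hd : orderOf (c : G) ∣ 7 := by
      have h1 : orderOf (c : G) ∣ 84 := hcent.1 ▸ Subgroup.orderOf_dvd_natCard C hcC
      have h2 := Nat.dvd_gcd h1 (show orderOf (c : G) ∣ 7 ^ l by rw [hl])
      refine h2.trans ?_
      rcases Nat.eq_zero_or_pos l with rfl | hl0
      · norm_num
      · rw [show l = (l - 1) + 1 by omega, pow_succ', show 84 = 7 * 12 by norm_num, Nat.gcd_mul_left]
        rw [show Nat.gcd 12 (7 ^ (l - 1)) = 1 from Nat.Coprime.pow_right _ (by norm_num), mul_one]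
    have hall : ∀ e : G, Commute e b → e ^ 7 = 1 → e ∈ B := by
      intro e he he7
      obtain ⟨ε⟩ := hcent.2
      have key : ∀ ξ : Multiplicative (ZMod 7) × alternatingGroup (Fin 4), ξ ^ 7 = 1 → ξ.2 = 1 := by
        intro ξ h
        have h2 : ξ.2 ^ 7 = 1 := congrArg Prod.snd h
        have hd7 := orderOf_dvd_of_pow_eq_one h2
        have hd12 : orderOf ξ.2 ∣ 12 := by
          have := orderOf_dvd_natCard ξ.2
          rwa [Nat.card_eq_fintype_card, show Fintype.card (alternatingGroup (Fin 4)) = 12 from rfl] at this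
        exact orderOf_eq_one_iff.1 (Nat.eq_one_of_dvd_coprimes (show Nat.Coprime 7 12 by norm_num) hd7 hd12)
      have he' := key (ε ⟨e, hCmem.2 he⟩) (by
        rw [← map_pow, show (⟨e, hCmem.2 he⟩ : ↥C) ^ 7 = 1 from Subtype.ext (by simpa using he7), map_one])
      have hb7 : ε bC ^ 7 = 1 := by
        have h := pow_orderOf_eq_one (ε bC)
        rwa [ε.orderOf_eq, hbo] at h
      have hb' := key (ε bC) hb7
      have hgen : (ε ⟨e, hCmem.2 he⟩).1 ∈ Subgroup.zpowers (ε bC).1 := by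
        rw [Subgroup.eq_top_of_card_eq (Subgroup.zpowers (ε bC).1) ?_]
        · exact Subgroup.mem_top _
        rw [Nat.card_zpowers, Nat.card_eq_fintype_card, Fintype.card_multiplicative, ZMod.card]
        refine orderOf_eq_prime ?_ fun h => ?_
        · exact congrArg Prod.fst hb7
        · have : ε bC = 1 := Prod.ext h hb'
          rw [EmbeddingLike.map_eq_one_iff] at this
          rw [this, orderOf_one] at hbo
          norm_num at hbo
      obtain ⟨j, hj⟩ := hgen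
      refine ⟨j, ?_⟩
      have : ε (bC ^ j) = ε ⟨e, hCmem.2 he⟩ := by
        rw [map_zpow]
        exact Prod.ext hj (by rw [he']; show (ε bC).2 ^ j = 1; rw [hb', one_zpow])
      exact congrArg Subtype.val (ε.injective this)
    exact hcn (hall _ (hCmem.1 hcC) (orderOf_dvd_iff_pow_eq_one.1 hd))
  refine ⟨b, hob, hsyl, hcent.2, ?_⟩
  -- four automorphisms
  have h6 : B.normalizerMonoidHom.ker.index = 6 := by
    rw [Subgroup.index_ker]
    set R := B.normalizerMonoidHom.range with hR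
    have hdvd : Nat.card R ∣ 6 := haut ▸ Subgroup.card_subgroup_dvd_card R
    have hy2 : y ^ 2 * b * (y ^ 2)⁻¹ = b ^ i ^ 2 := conj_pow_exp hyb 2
    let a₁ : ↥R := 1
    let a₂ : ↥R := ⟨_, ⟨⟨y, hinN hyb⟩, rfl⟩⟩
    let a₃ : ↥R := ⟨_, ⟨⟨y ^ 2, hinN hy2⟩, rfl⟩⟩
    let a₄ : ↥R := ⟨_, ⟨⟨u, hinN hub⟩, rfl⟩⟩
    have hdist : ∀ {c e : G} (hc : c ∈ N) (he : e ∈ N),
        B.normalizerMonoidHom ⟨c, hc⟩ = B.normalizerMonoidHom ⟨e, he⟩ → Commute (c⁻¹ * e) b := by
      intro c e hc he h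
      have h1 : (⟨c, hc⟩ : ↥N)⁻¹ * ⟨e, he⟩ ∈ B.normalizerMonoidHom.ker := by
        rw [MonoidHom.mem_ker, map_mul, map_inv, h, inv_mul_cancel]
      rw [hker] at h1
      exact hCmem.1 (Subgroup.mem_subgroupOf.1 h1)
    have hy2n : ¬ Commute (y ^ 2) b := fun h => hync (by
      have := h.inv_left.mul_left hy3
      rwa [show (y ^ 2)⁻¹ * y ^ 3 = y by group] at this)
    have hun' : ∀ e ∈ CV w v, ¬ Commute (e * u) b := fun e he h => hun (by
      have h1 := p.mem_CV_of_commute (Or.inr rfl) hbw hob ((mem_cent_two.1 he).1.mul_left huw) h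
      simpa using mul_mem (inv_mem he) h1)
    have one_eq : (1 : MulAut ↥B) = B.normalizerMonoidHom ⟨1, one_mem N⟩ := (map_one _).symm
    have h12 : a₁ ≠ a₂ := fun h => hync (by
      simpa using hdist (one_mem N) (hinN hyb) (one_eq.symm.trans (congrArg Subtype.val h)))
    have h13 : a₁ ≠ a₃ := fun h => hy2n (by
      simpa using hdist (one_mem N) (hinN hy2) (one_eq.symm.trans (congrArg Subtype.val h)))
    have h14 : a₁ ≠ a₄ := fun h => hun' 1 (one_mem _) (by
      simpa using hdist (one_mem N) (hinN hub) (one_eq.symm.trans (congrArg Subtype.val h)))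
    have h23 : a₂ ≠ a₃ := fun h => hync (by
      have := hdist (hinN hyb) (hinN hy2) (congrArg Subtype.val h)
      rwa [show y⁻¹ * y ^ 2 = y by group] at this)
    have h24 : a₂ ≠ a₄ := fun h => hun' y⁻¹ (inv_mem hy) (hdist (hinN hyb) (hinN hub) (congrArg Subtype.val h))
    have h34 : a₃ ≠ a₄ := fun h => hun' (y ^ 2)⁻¹ (inv_mem (pow_mem hy 2))
      (hdist (hinN hy2) (hinN hub) (congrArg Subtype.val h))
    haveI : Fintype ↥R := Fintype.ofFinite _
    have hc4 : ({a₁, a₂, a₃, a₄} : Finset ↥R).card = 4 := by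
      rw [Finset.card_insert_of_notMem (by simp [h12, h13, h14]),
        Finset.card_insert_of_notMem (by simp [h23, h24]), Finset.card_pair h34]
    have h4 := Finset.card_le_univ ({a₁, a₂, a₃, a₄} : Finset ↥R)
    rw [hc4, ← Nat.card_eq_fintype_card] at h4
    have := Nat.le_of_dvd (by norm_num) hdvd
    interval_cases h : Nat.card ↥R <;> simp_all
  have h := Subgroup.card_mul_index B.normalizerMonoidHom.ker
  rw [h6, hker] at h
  have hCN : C ≤ N := by
    intro c hc
    exact hinN (j := 1) (by rw [pow_one]; exact mul_inv_eq_iff_eq_mul.2 (hCmem.1 hc).eq)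
  rw [Nat.card_congr (Subgroup.subgroupOfEquivOfLe hCN).toEquiv, hcent.1] at h
  exact h.symm.trans (by norm_num)

end Cfsg.Agent.Lib.SuzSeven52
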