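import Cfsg.Agent.Lib.SuzSeven52.Fusion
import Cfsg.Agent.Lib.Transfer.Fusion

/-!
# Suzuki type: the quotient has no small normal subgroups, and a minimal one is simple

Owner: helper52.
-/

set_option autoImplicit false
set_option maxRecDepth 100000

namespace Cfsg.Agent.Lib.SuzSeven52

open Cfsg.Agent.Lib.SuzType52 Cfsg.Agent.Lib

variable {G : Type*} [Group G] {z : G} {Q : Subgroup G} {co : G → ℕ} {ac : G → ℕ → ℕ} {x n : G}
  {gen : ℕ → G} {w v g q r t k : G}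

namespace Pack

variable [Finite G] (p : Pack z Q co ac x n gen w v g q r)
include p

theorem xz_comm : Commute (bar w v z) (bar w v x) := by
  show _ * _ = _ * _
  rw [← bar_mul (p.CZ_le_CV p.z_mem) (p.CZ_le_CV p.x_mem),
    ← bar_mul (p.CZ_le_CV p.x_mem) (p.CZ_le_CV p.z_mem), (p.std.duo.fr.es.comm x p.std.duo.xQ).eq]

/-- Subgroups of odd order normalised by `z`, `x` are trivial. -/
theorem no_odd {K : Subgroup (WQ w v)} (hodd : Odd (Nat.card K))
    (hnz : ∀ a ∈ K, bar w v z * a * (bar w v z)⁻¹ ∈ K)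
    (hnx : ∀ a ∈ K, bar w v x * a * (bar w v x)⁻¹ ∈ K) : K = ⊥ := by
  obtain ⟨hz, hx, hxz⟩ := p.bar_z_mem
  have hsq : ∀ {u : WQ w v}, orderOf u = 2 → u * u = 1 := fun h => by
    rw [← pow_two, ← h, pow_orderOf_eq_one]
  have hfix : ∀ {u : WQ w v}, orderOf u = 2 → ∀ a ∈ K, Commute u a → a = 1 := by
    intro u hu a ha hc
    refine CIT.eq_one_of_odd_of_two (p.isCIT u hu) (CIT.mem_centralizer_singleton' hc.symm.eq) ?_
    exact hodd.of_dvd_nat (Subgroup.orderOf_dvd_natCard K ha)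
  refine fpf_four (hsq hz) (hsq hx) p.xz_comm hnz hnx (hfix hz) (hfix hx) (hfix ?_)
  rw [← bar_mul (p.CZ_le_CV p.z_mem) (p.CZ_le_CV p.x_mem), ← (p.std.duo.fr.es.comm x p.std.duo.xQ).eq]
  exact hxz

/-- Conjugation by the outer element. -/
theorem outer_mem (ft : Fus z x w v g t k) {y : G} (hy : y ∈ CV w v) :
    t * y * t⁻¹ ∈ CV w v ∧ t⁻¹ * y * t ∈ CV w v := by
  have hw : t * w * t⁻¹ = w := mul_inv_eq_iff_eq_mul.2 (mem_cent_two.1 ft.tT).2.eq
  have hw' : t⁻¹ * w * t = w := by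
    conv_lhs => rw [← hw]
    group
  have hvw : t * (v * w) * t⁻¹ = v := by rw [← conj_mul, ft.tv, hw, mul_assoc, p.bt_w.sq, mul_one]
  obtain ⟨c1, c2⟩ := mem_cent_two.1 hy
  constructor
  · refine mem_cent_two.2 ⟨?_, ?_⟩
    · have h := c1.map (MulAut.conj t).toMonoidHom
      simp only [MulEquiv.coe_toMonoidHom, MulAut.conj_apply, hw] at h
      exact h
    · have h := (c2.mul_right c1).map (MulAut.conj t).toMonoidHom
      simp only [MulEquiv.coe_toMonoidHom, MulAut.conj_apply, hvw] at h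
      exact h
  · refine mem_cent_two.2 ⟨?_, ?_⟩
    · have h := c1.map (MulAut.conj t⁻¹).toMonoidHom
      simp only [MulEquiv.coe_toMonoidHom, MulAut.conj_apply, inv_inv, hw'] at h
      exact h
    · have h := (c2.mul_right c1).map (MulAut.conj t⁻¹).toMonoidHom
      simp only [MulEquiv.coe_toMonoidHom, MulAut.conj_apply, inv_inv] at h
      rwa [show t⁻¹ * (v * w) * t = v from by rw [← ft.tv]; group] at h

theorem outer_V (ft : Fus z x w v g t k) {a : G} (ha : a ∈ Subgroup.closure ({w, v} : Set G)) :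
    t * a * t⁻¹ ∈ Subgroup.closure ({w, v} : Set G) := by
  have hw : t * w * t⁻¹ = w := mul_inv_eq_iff_eq_mul.2 (mem_cent_two.1 ft.tT).2.eq
  rw [p.mem_V]
  rcases p.mem_V.1 ha with rfl | rfl | rfl | rfl
  · simp
  · exact Or.inr (Or.inl hw)
  · exact Or.inr (Or.inr (Or.inr ft.tv))
  · refine Or.inr (Or.inr (Or.inl ?_))
    rw [← conj_mul, ft.tv, hw, mul_assoc, p.bt_w.sq, mul_one]

/-- The automorphism of the quotient induced by the outer element. -/
theorem exists_tau (ft : Fus z x w v g t k) :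
    ∃ τ : WQ w v ≃* WQ w v, ∀ y ∈ CV w v, τ (bar w v y) = bar w v (t * y * t⁻¹) := by
  let e : ↥(CV w v) ≃* ↥(CV w v) :=
    { toFun := fun y => ⟨t * y * t⁻¹, (p.outer_mem ft y.2).1⟩
      invFun := fun y => ⟨t⁻¹ * y * t, (p.outer_mem ft y.2).2⟩
      left_inv := fun y => Subtype.ext (by simp [mul_assoc])
      right_inv := fun y => Subtype.ext (by simp [mul_assoc])
      map_mul' := fun a b => Subtype.ext (by simp [mul_assoc]) }
  have he : (V4 w v).map e.toMonoidHom = V4 w v := by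
    refine Subgroup.eq_of_le_of_card_ge ?_ (Subgroup.card_map_of_injective e.injective).ge
    rintro _ ⟨a, ha, rfl⟩
    exact Subgroup.mem_subgroupOf.2 (p.outer_V ft (Subgroup.mem_subgroupOf.1 ha))
  refine ⟨QuotientGroup.congr _ _ e he, fun y hy => ?_⟩
  rw [bar_of_mem hy, bar_of_mem (p.outer_mem ft hy).1]
  rfl

theorem tau_facts (ft : Fus z x w v g t k) {τ : WQ w v ≃* WQ w v}
    (hτ : ∀ y ∈ CV w v, τ (bar w v y) = bar w v (t * y * t⁻¹)) :
    τ (bar w v z) = bar w v z ∧ τ (bar w v x) = bar w v x * bar w v z ∧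
      τ (bar w v (x * z)) = bar w v x ∧ (∀ a ∈ SB z w v, τ a ∈ SB z w v) := by
  have hz := p.CZ_le_CV p.z_mem
  have hx := p.CZ_le_CV p.x_mem
  have htz : t * z * t⁻¹ = z := mul_inv_eq_iff_eq_mul.2 (mem_cent_two.1 ft.tT).1.eq
  refine ⟨by rw [hτ z hz, htz], by rw [hτ x hx, ft.tx, bar_mul hx hz], ?_, ?_⟩
  · rw [hτ _ (mul_mem hx hz), ← conj_mul, ft.tx, htz, mul_assoc, p.std.duo.fr.es.sq, mul_one]
  · intro a ha
    obtain ⟨y, hy, rfl⟩ := p.SB_surj ha
    rw [hτ y (p.CZ_le_CV hy)]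
    refine (p.mem_SB (p.outer_mem ft (p.CZ_le_CV hy)).1).2 (mem_cent_three.2 ⟨?_, ?_⟩)
    · have h := (mem_cent_three.1 hy).1.map (MulAut.conj t).toMonoidHom
      simp only [MulEquiv.coe_toMonoidHom, MulAut.conj_apply, htz] at h
      exact h
    · exact mem_cent_two.1 (p.outer_mem ft (p.CZ_le_CV hy)).1

/-- An invariant normal subgroup meeting the Sylow subgroup contains `z`. -/
theorem z_mem_of (ft : Fus z x w v g t k) {τ : WQ w v ≃* WQ w v}
    (hτ : ∀ y ∈ CV w v, τ (bar w v y) = bar w v (t * y * t⁻¹)) {K : Subgroup (WQ w v)} [K.Normal]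
    (hK : ∀ a ∈ K, τ a ∈ K) (hne : K ⊓ SB z w v ≠ ⊥) : bar w v z ∈ K := by
  haveI : Fact (Nat.Prime 2) := ⟨Nat.prime_two⟩
  have hS : IsPGroup 2 (SB z w v) := p.isPGroup_SB
  have hne' : K.subgroupOf (SB z w v) ≠ ⊥ := fun h => hne (by
    rw [← Subgroup.subgroupOf_map_subtype, h, Subgroup.map_bot])
  have hc := PGroups.normal_inf_center_ne_bot hS (K.subgroupOf (SB z w v)) hne'
  set C := K.subgroupOf (SB z w v) ⊓ Subgroup.center ↥(SB z w v) with hC
  haveI : Nontrivial C := (Subgroup.nontrivial_iff_ne_bot C).2 hc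
  obtain ⟨j, hj, hcard⟩ := (hS.to_subgroup C).nontrivial_iff_card.1 inferInstance
  obtain ⟨c, hc2⟩ := exists_prime_orderOf_dvd_card' (G := C) 2 (hcard ▸ dvd_pow_self 2 (by omega))
  obtain ⟨hcK, hcC⟩ := c.2
  replace hcK := Subgroup.mem_subgroupOf.1 hcK
  set u : WQ w v := ((c : ↥(SB z w v)) : WQ w v) with hu
  have hu2 : orderOf u = 2 := by rw [hu, Subgroup.orderOf_coe, Subgroup.orderOf_coe, hc2]
  obtain ⟨i, hi, hib, hiz, -⟩ := p.exists_lift_z hu2
  have hiM : i ∈ CZ z w v := (p.mem_SB hi).1 (hib ▸ (c : ↥(SB z w v)).2)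
  have hcom : ∀ y ∈ CZ z w v, Commute i y := fun y hy => by
    refine (p.cent_lift hi (hib ▸ hu2) hiz (p.CZ_le_CV hy) ?_).symm
    rw [hib]
    exact congrArg Subtype.val (Subgroup.mem_center_iff.1 hcC ⟨_, p.bar_mem_SB hy⟩)
  obtain ⟨t1, t2, t3, -⟩ := p.tau_facts ft hτ
  have hz := p.CZ_le_CV p.z_mem
  have hx := p.CZ_le_CV p.x_mem
  rcases p.central_ztype hiM hcom hiz with rfl | rfl | rfl
  · rw [hib]; exact hcK
  · have h := hK _ hcK
    rw [← hib, t2] at h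
    have := mul_mem (inv_mem hcK) h
    rwa [← hib, inv_mul_cancel_left] at this
  · have h := hK _ hcK
    rw [← hib, t3] at h
    have := mul_mem (inv_mem h) hcK
    rwa [← hib, bar_mul hx hz, inv_mul_cancel_left] at this

/-- The elements `g z g⁻¹`, its image under the outer element and `x` lie in every invariant normal
subgroup containing `z`. -/
theorem elems_mem (ft : Fus z x w v g t k) {τ : WQ w v ≃* WQ w v}
    (hτ : ∀ y ∈ CV w v, τ (bar w v y) = bar w v (t * y * t⁻¹)) {K : Subgroup (WQ w v)} [K.Normal]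
    (hK : ∀ a ∈ K, τ a ∈ K) (hz : bar w v z ∈ K) :
    bar w v (g * z * g⁻¹) ∈ K ∧ bar w v (t * (g * z * g⁻¹) * t⁻¹) ∈ K ∧ bar w v x ∈ K := by
  have hzm := p.CZ_le_CV p.z_mem
  have h1 : bar w v (g * z * g⁻¹) ∈ K := by
    rw [bar_conj ft.gCV hzm]
    exact Subgroup.Normal.conj_mem inferInstance _ hz _
  refine ⟨h1, hτ _ (p.CZ_le_CV ft.m1) ▸ hK _ h1, ?_⟩
  have hk := p.CZ_le_CV ft.kM
  have hm := p.CZ_le_CV ft.m1
  have h2 : bar w v (k * (g * z * g⁻¹) * k⁻¹ * (g * z * g⁻¹)⁻¹) ∈ K := by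
    rw [bar_mul (mul_mem (mul_mem hk hm) (inv_mem hk)) (inv_mem hm), bar_conj hk hm, bar_inv hm]
    exact mul_mem (Subgroup.Normal.conj_mem inferInstance _ h1 _) (inv_mem h1)
  rcases ft.kx with e | e
  · rwa [e] at h2
  · rw [e, bar_mul (p.CZ_le_CV p.x_mem) hzm] at h2
    have := mul_mem h2 (inv_mem hz)
    rwa [mul_inv_cancel_right] at this

/-- No normal `2`-subgroup. -/
theorem no_two (ft : Fus z x w v g t k) {K : Subgroup (WQ w v)} [K.Normal] (hP : IsPGroup 2 K) :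
    K = ⊥ := by
  haveI : Fact (Nat.Prime 2) := ⟨Nat.prime_two⟩
  obtain ⟨τ, hτ⟩ := p.exists_tau ft
  obtain ⟨t1, t2, t3, t4⟩ := p.tau_facts ft hτ
  obtain ⟨S, hS⟩ := p.exists_sylow
  have hle : K ≤ SB z w v := by
    obtain ⟨R, hR⟩ := hP.exists_le_sylow
    obtain ⟨c, hc⟩ := MulAction.exists_smul_eq (WQ w v) R S
    intro a ha
    rw [← hS, ← hc]
    exact ⟨c⁻¹ * a * c⁻¹⁻¹, hR (Subgroup.Normal.conj_mem inferInstance _ ha _), by simp [mul_assoc]⟩
  have hK : K ≤ (SB z w v).normalCore := Subgroup.normal_le_normalCore.2 hle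
  by_contra hne
  set N := (SB z w v).normalCore with hN
  have hNinv : ∀ a ∈ N, τ a ∈ N := by
    intro a ha b
    have h := t4 _ (ha (τ.symm b))
    rw [map_mul, map_mul, map_inv, MulEquiv.apply_symm_apply] at h
    exact h
  have hNne : N ⊓ SB z w v ≠ ⊥ := fun h => hne (le_bot_iff.1 (h ▸ le_inf hK hle))
  have hz' : bar w v z ∈ N := p.z_mem_of ft hτ (K := N) hNinv hNne
  obtain ⟨h1, h2, -⟩ := p.elems_mem ft hτ hNinv hz'
  -- the two elements commute in a conjugate of the Sylow subgroup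
  have hcent : ∀ a ∈ N, Commute (bar w v (g * z * g⁻¹)) a := by
    intro a ha
    have h := Subgroup.mem_centralizer_singleton_iff.1
      (p.cent_zb.symm ▸ ha ((bar w v g)⁻¹) : (bar w v g)⁻¹ * a * (bar w v g)⁻¹⁻¹ ∈
        Subgroup.centralizer ({bar w v z} : Set (WQ w v)))
    have h' : Commute ((bar w v g)⁻¹ * a * (bar w v g)⁻¹⁻¹) (bar w v z) := h
    have h'' := h'.symm.map (MulAut.conj (bar w v g)).toMonoidHom
    rw [bar_conj ft.gCV (p.CZ_le_CV p.z_mem)]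
    simpa [mul_assoc] using h''
  exact ft.nc (hcent _ h2)

omit p in
theorem orderOf_mul_self {X : Type*} [Group X] {u : X} (h : orderOf u = 2) : u * u = 1 := by
  rw [← pow_two, ← h, pow_orderOf_eq_one]

/-- A minimal normal subgroup is simple, invariant, and contains the fusion elements. -/
theorem exists_simple (ft : Fus z x w v g t k) :
    ∃ N : Subgroup (WQ w v), N.Normal ∧ IsSimpleGroup N ∧ bar w v z ∈ N ∧ bar w v x ∈ N ∧
      bar w v (g * z * g⁻¹) ∈ N ∧ bar w v (t * (g * z * g⁻¹) * t⁻¹) ∈ N := by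
  classical
  haveI : Fact (Nat.Prime 2) := ⟨Nat.prime_two⟩
  haveI : Fintype (Subgroup (WQ w v)) := Fintype.ofFinite _
  obtain ⟨τ, hτ⟩ := p.exists_tau ft
  obtain ⟨S, hS⟩ := p.exists_sylow
  obtain ⟨N, hN, hmin⟩ := Finset.exists_min_image
    (Finset.univ.filter fun N : Subgroup (WQ w v) => N.Normal ∧ N ≠ ⊥) (fun N => Nat.card N)
    ⟨⊤, by
      simp only [Finset.mem_filter, Finset.mem_univ, true_and]
      refine ⟨inferInstance, fun h => ?_⟩
      have h1 : bar w v z ∈ (⊥ : Subgroup (WQ w v)) := h ▸ Subgroup.mem_top _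
      have h2 := p.bar_z_mem.1
      rw [Subgroup.mem_bot.1 h1, orderOf_one] at h2
      norm_num at h2⟩
  simp only [Finset.mem_filter, Finset.mem_univ, true_and] at hN hmin
  obtain ⟨hNn, hNne⟩ := hN
  haveI := hNn
  -- a normal subgroup contains an involution
  have heven : ∀ K : Subgroup (WQ w v), K ≠ ⊥ → (∀ a ∈ K, bar w v z * a * (bar w v z)⁻¹ ∈ K) →
      (∀ a ∈ K, bar w v x * a * (bar w v x)⁻¹ ∈ K) → ∃ u ∈ K, orderOf u = 2 := by
    intro K hK h1 h2
    by_cases hd : 2 ∣ Nat.card K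
    · obtain ⟨u, hu⟩ := exists_prime_orderOf_dvd_card' (G := K) 2 hd
      exact ⟨u, u.2, by rwa [Subgroup.orderOf_coe]⟩
    · exact absurd (p.no_odd (Nat.odd_iff.2 (Nat.two_dvd_ne_zero.1 hd)) h1 h2) hK
  have hnorm : ∀ K : Subgroup (WQ w v), K.Normal → ∀ c a, a ∈ K → c * a * c⁻¹ ∈ K :=
    fun K hK c a ha => hK.conj_mem a ha c
  have huniq : ∀ M : Subgroup (WQ w v), M.Normal → M ≠ ⊥ → N ≤ M := by
    intro M hM hMne
    haveI := hM
    by_contra hle
    have hbot : N ⊓ M = ⊥ := by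
      by_contra h
      refine hle ?_
      have := hmin (N ⊓ M) ⟨inferInstance, h⟩
      exact (Subgroup.eq_of_le_of_card_ge inf_le_left this).ge.trans inf_le_right
    have hcomm := Subgroup.commute_of_normal_of_disjoint N M inferInstance hM (disjoint_iff.2 hbot)
    obtain ⟨u, hu, hu2⟩ := heven M hMne (fun a => hnorm M hM _ a) (fun a => hnorm M hM _ a)
    have h2 : IsPGroup 2 N := (p.isCIT u hu2).to_le fun a ha =>
      CIT.mem_centralizer_singleton' (hcomm a u ha hu).eq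
    exact hNne (p.no_two ft h2)
  have hinv : ∀ a ∈ N, τ a ∈ N := by
    have h : N ≤ N.map τ.symm.toMonoidHom := huniq _ (Subgroup.Normal.map inferInstance _ τ.symm.surjective)
      (fun h => hNne ((Subgroup.map_eq_bot_iff_of_injective _ τ.symm.injective).1 h))
    intro a ha
    obtain ⟨b, hb, e⟩ := h ha
    have : τ a = b := by rw [← e]; exact τ.apply_symm_apply b
    rwa [this]
  have hmeet : N ⊓ SB z w v ≠ ⊥ := by
    obtain ⟨u, hu, hu2⟩ := heven N hNne (fun a => hnorm N hNn _ a) (fun a => hnorm N hNn _ a)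
    have hup : IsPGroup 2 ↥(Subgroup.zpowers u) :=
      IsPGroup.of_card (n := 1) (by rw [Nat.card_zpowers, hu2, pow_one])
    obtain ⟨R, hR⟩ := hup.exists_le_sylow
    obtain ⟨c, hc⟩ := MulAction.exists_smul_eq (WQ w v) R S
    intro h
    have hm : c * u * c⁻¹ ∈ N ⊓ SB z w v :=
      ⟨hnorm N hNn c u hu, hS ▸ hc ▸ ⟨u, hR (Subgroup.mem_zpowers u), rfl⟩⟩
    rw [h, Subgroup.mem_bot, conj_eq_one_iff] at hm
    rw [hm, orderOf_one] at hu2
    norm_num at hu2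
  have hzN := p.z_mem_of ft hτ hinv hmeet
  obtain ⟨h1, h2, hxN⟩ := p.elems_mem ft hτ hinv hzN
  refine ⟨N, hNn, ?_, hzN, hxN, h1, h2⟩
  haveI : Nontrivial N := (Subgroup.nontrivial_iff_ne_bot N).2 hNne
  refine ⟨fun K hK => or_iff_not_imp_left.2 fun hKne => ?_⟩
  -- a minimal normal subgroup of `N` below `K`
  haveI : Fintype (Subgroup ↥N) := Fintype.ofFinite _
  obtain ⟨K₀, hK₀, hmin₀⟩ := Finset.exists_min_image
    (Finset.univ.filter fun L : Subgroup ↥N => L.Normal ∧ L ≠ ⊥ ∧ L ≤ K) (fun L => Nat.card L)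
    ⟨K, by simp [hK, hKne]⟩
  simp only [Finset.mem_filter, Finset.mem_univ, true_and] at hK₀ hmin₀
  obtain ⟨hn₀, hne₀, hle₀⟩ := hK₀
  set A := K₀.map N.subtype with hA
  have hAN : A ≤ N := Subgroup.map_subtype_le _
  have hAne : A ≠ ⊥ := fun h => hne₀ ((Subgroup.map_eq_bot_iff_of_injective _ N.subtype_injective).1 h)
  have hAconj : ∀ a ∈ A, ∀ c ∈ N, c * a * c⁻¹ ∈ A := by
    rintro _ ⟨a, ha, rfl⟩ c hc
    exact ⟨⟨c, hc⟩ * a * ⟨c, hc⟩⁻¹, hn₀.conj_mem a ha _, rfl⟩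
  by_cases hAn : A.Normal
  · have hAe : A = N := le_antisymm hAN (huniq A hAn hAne)
    rw [eq_top_iff]
    rintro ⟨a, ha⟩ -
    obtain ⟨b, hb, e⟩ := hAe.ge ha
    exact hle₀ (Subtype.ext e (a2 := ⟨a, ha⟩) ▸ hb)
  exfalso
  obtain ⟨c, hc⟩ : ∃ c, ¬ ∀ a ∈ A, c * a * c⁻¹ ∈ A := by
    by_contra h
    push Not at h
    exact hAn ⟨fun a ha c => h c a ha⟩
  -- the conjugate commutes with `A`
  set B := A.map (MulAut.conj c).toMonoidHom with hB
  have hBN : B ≤ N := by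
    rintro _ ⟨a, ha, rfl⟩
    exact hnorm N hNn c a (hAN ha)
  have hBconj : ∀ b ∈ B, ∀ d ∈ N, d * b * d⁻¹ ∈ B := by
    rintro _ ⟨a, ha, rfl⟩ d hd
    refine ⟨c⁻¹ * d * c * a * (c⁻¹ * d * c)⁻¹, hAconj a ha _ ?_, by simp [mul_assoc]⟩
    simpa using hnorm N hNn c⁻¹ d hd
  have hinf : A ⊓ B = ⊥ := by
    by_contra h
    have hsub : ((A ⊓ B).subgroupOf N).Normal := ⟨fun a ha d =>
      ⟨hAconj _ ha.1 _ d.2, hBconj _ ha.2 _ d.2⟩⟩
    have hne2 : (A ⊓ B).subgroupOf N ≠ ⊥ := fun e => h (by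
      rw [← inf_eq_left.2 (inf_le_left.trans hAN : A ⊓ B ≤ N), ← Subgroup.subgroupOf_map_subtype, e,
        Subgroup.map_bot])
    have hle2 : (A ⊓ B).subgroupOf N ≤ K₀ := fun a ha => by
      obtain ⟨b, hb, e⟩ := ha.1
      exact Subtype.ext e ▸ hb
    have e := Subgroup.eq_of_le_of_card_ge hle2 (hmin₀ _ ⟨hsub, hne2, hle2.trans hle₀⟩)
    refine hc fun a ha => ?_
    have hAB : A ≤ B := fun a ha => by
      obtain ⟨a', ha', rfl⟩ := ha
      exact (e.ge ha').2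
    have hBA : B = A := (Subgroup.eq_of_le_of_card_ge hAB
      (Subgroup.card_map_of_injective (MulAut.conj c).injective).le).symm
    exact hBA ▸ ⟨a, ha, rfl⟩
  have hcomm : ∀ a ∈ A, ∀ b ∈ B, Commute a b := by
    intro a ha b hb
    have h1 : a * b * a⁻¹ * b⁻¹ ∈ A := by
      rw [show a * b * a⁻¹ * b⁻¹ = a * (b * a⁻¹ * b⁻¹) by group]
      exact mul_mem ha (hAconj _ (inv_mem ha) b (hBN hb))
    have h2 : a * b * a⁻¹ * b⁻¹ ∈ B := mul_mem (hBconj b hb a (hAN ha)) (inv_mem hb)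
    have h3 : a * b * a⁻¹ * b⁻¹ ∈ A ⊓ B := ⟨h1, h2⟩
    rw [hinf, Subgroup.mem_bot, mul_inv_eq_one, mul_inv_eq_iff_eq_mul] at h3
    exact h3
  obtain ⟨u, hu, hu2⟩ := heven B (fun h => hAne
      ((Subgroup.map_eq_bot_iff_of_injective _ (MulAut.conj c).injective).1 h))
    (fun b hb => hBconj b hb _ hzN) (fun b hb => hBconj b hb _ hxN)
  have hA2 : IsPGroup 2 A := (p.isCIT u hu2).to_le fun a ha =>
    CIT.mem_centralizer_singleton' (hcomm a ha u hu).eq
  -- so `A` lies in every Sylow subgroup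
  obtain ⟨T, hT⟩ := Transfer.Fusion.exists_sylow_map_eq_inf N S
  have hcore : A ≤ (SB z w v).normalCore := by
    intro a ha b
    have hA' : IsPGroup 2 (A.map (MulAut.conj b).toMonoidHom) := hA2.map _
    have hconj' : ∀ a ∈ A.map (MulAut.conj b).toMonoidHom, ∀ d ∈ N,
        d * a * d⁻¹ ∈ A.map (MulAut.conj b).toMonoidHom := by
      rintro _ ⟨a, ha, rfl⟩ d hd
      refine ⟨b⁻¹ * d * b * a * (b⁻¹ * d * b)⁻¹, hAconj a ha _ ?_, by simp [mul_assoc]⟩
      simpa using hnorm N hNn b⁻¹ d hd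
    haveI : ((A.map (MulAut.conj b).toMonoidHom).subgroupOf N).Normal :=
      ⟨fun a ha d => hconj' _ ha _ d.2⟩
    obtain ⟨R, hR⟩ := (hA'.comap_of_injective N.subtype N.subtype_injective).exists_le_sylow
    obtain ⟨d, hd⟩ := MulAction.exists_smul_eq ↥N R T
    have hm : b * a * b⁻¹ ∈ N := hnorm N hNn b a (hAN ha)
    have h1 : d⁻¹ * ⟨_, hm⟩ * d⁻¹⁻¹ ∈ (A.map (MulAut.conj b).toMonoidHom).subgroupOf N :=
      Subgroup.Normal.conj_mem inferInstance _ (Subgroup.mem_subgroupOf.2 (⟨a, ha, rfl⟩ : b * a * b⁻¹ ∈ A.map (MulAut.conj b).toMonoidHom)) _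
    have h2 : (⟨_, hm⟩ : ↥N) ∈ (T : Subgroup ↥N) := by
      rw [← hd]
      exact ⟨_, hR h1, by simp [mul_assoc]⟩
    have h3 : b * a * b⁻¹ ∈ N ⊓ (S : Subgroup (WQ w v)) := hT ▸ ⟨_, h2, rfl⟩
    exact hS ▸ h3.2
  refine hAne (le_bot_iff.1 ?_)
  exact (p.no_two ft (p.isPGroup_SB.to_le (Subgroup.normalCore_le _))) ▸ hcore

end Pack

end Cfsg.Agent.Lib.SuzSeven52
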