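import Cfsg.Agent.Lib.SuzSeven52.Rot

/-!
# Suzuki type: the 2-structure of the centraliser of the four-group

Owner: helper52.
-/

set_option autoImplicit false
set_option maxRecDepth 100000

namespace Cfsg.Agent.Lib.SuzSeven52

open Cfsg.Agent.Lib.SuzType52

/-- The centraliser of the four-group. -/
abbrev CV {G : Type*} [Group G] (w v : G) : Subgroup G := Subgroup.centralizer ({w, v} : Set G)

/-- Its part in the centraliser of `z`. -/
abbrev CZ {G : Type*} [Group G] (z w v : G) : Subgroup G :=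
  Subgroup.centralizer ({z, w, v} : Set G)

/-- The Sylow subgroup of `C(w)`. -/
abbrev TT {G : Type*} [Group G] (z w : G) : Subgroup G := Subgroup.centralizer ({z, w} : Set G)

theorem mem_cent_two {G : Type*} [Group G] {a b y : G} :
    y ∈ Subgroup.centralizer ({a, b} : Set G) ↔ Commute y a ∧ Commute y b := by
  rw [Subgroup.mem_centralizer_iff]
  exact ⟨fun h => ⟨(h a (by simp)).symm, (h b (by simp)).symm⟩, fun h => by
    rintro c (rfl | rfl)
    exacts [h.1.symm.eq, h.2.symm.eq]⟩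

theorem mem_cent_three {G : Type*} [Group G] {a b c y : G} :
    y ∈ Subgroup.centralizer ({a, b, c} : Set G) ↔ Commute y a ∧ Commute y b ∧ Commute y c := by
  rw [Subgroup.mem_centralizer_iff]
  exact ⟨fun h => ⟨(h a (by simp)).symm, (h b (by simp)).symm, (h c (by simp)).symm⟩, fun h => by
    rintro d (rfl | rfl | rfl)
    exacts [h.1.symm.eq, h.2.1.symm.eq, h.2.2.symm.eq]⟩

theorem inV_false {e s : ℕ} (h : inV e s = false) : ∀ a ∈ Vl e, s ≠ a := fun a ha hs => by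
  rw [inV, List.any_eq_false] at h
  exact h a ha (by rw [hs]; exact Nat.beq_refl _)

theorem inV_true {e s : ℕ} (h : inV e s = true) : s ∈ Vl e := by
  rw [inV, List.any_eq_true] at h
  obtain ⟨a, ha, hb⟩ := h
  rwa [← Nat.eq_of_beq_eq_true hb]

theorem inV_of_mem {e s : ℕ} (h : s ∈ Vl e) : inV e s = true :=
  List.any_eq_true.2 ⟨s, h, Nat.beq_refl _⟩

theorem Vl_nodup : ∀ e < 4, (Vl e).Nodup := by decide +kernel

theorem vc_low : ∀ e < 4, vc e &&& 255 = 200 ∧ 200 >>> 8 = 0 ∧ wc >>> 8 = 0 := by decide +kernel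

variable {G : Type*} [Group G] {z : G} {Q : Subgroup G} {co : G → ℕ} {ac : G → ℕ → ℕ} {x n : G}
  {gen : ℕ → G} {w v g q r : G}

theorem Std.phi_low (s : Std z Q co ac x n gen) {m : ℕ} (hm : m < 1024) :
    phi gen z x m = phi gen z x (m &&& 255) * ee2 z x (m >>> 8) := by
  have h8 : (m &&& 255) >>> 8 = 0 := Nat.shiftRight_eq_zero _ _ (Nat.lt_succ_of_le Nat.and_le_right)
  rw [phi, phi, h8, ee2_zero s.duo, mul_one]
  congr 1
  refine prodL_congr fun i hi => ?_
  conv_lhs => rw [← low_code m hm]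
  rw [Nat.testBit_xor, testBit_shift _ _ (idx_lt i hi), Bool.xor_false]

theorem Std.ee2_cases (s : Std z Q co ac x n gen) (e : ℕ) :
    ee2 z x e = 1 ∨ ee2 z x e = z ∨ ee2 z x e = x ∨ ee2 z x e = x * z := by
  have d := s.duo
  rw [ee2]
  cases e.testBit 0 <;> cases e.testBit 1
  · exact Or.inl d.ee_zero
  · exact Or.inr (Or.inl (one_mul z))
  · exact Or.inr (Or.inr (Or.inl (mul_one x)))
  · exact Or.inr (Or.inr (Or.inr rfl))

theorem Std.ee2_mem (s : Std z Q co ac x n gen) (e : ℕ) : ee2 z x e ∈ Q := by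
  have d := s.duo
  rcases s.ee2_cases e with h | h | h | h <;> rw [h]
  exacts [one_mem Q, d.fr.es.mem, d.xQ, mul_mem d.xQ d.fr.es.mem]

namespace Pack

variable [Finite G] (p : Pack z Q co ac x n gen w v g q r)
include p

theorem bt_w : BT z w := p.w_eq ▸ p.std.w_bt

theorem bt_vw : BT z (v * w) := p.v_facts.2.1

theorem wz : Commute w z := p.w_eq ▸ p.std.w_comm.1

theorem wx : Commute w x := p.w_eq ▸ p.std.w_comm.2

theorem mem_CZ {y : G} : y ∈ CZ z w v ↔ ∃ m ∈ Ml, phi gen z x m = y := by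
  rw [mem_cent_three]
  constructor
  · exact fun h => p.exists_code_M h.1 h.2.1 h.2.2
  · rintro ⟨m, hm, rfl⟩
    exact ⟨(phi_comm p.std.duo p.std.gens (mem_Ml.1 hm).1).1, p.M_comm hm⟩

theorem CZ_comm_x {y : G} (hy : y ∈ CZ z w v) : Commute y x := by
  obtain ⟨m, hm, rfl⟩ := p.mem_CZ.1 hy
  exact (phi_comm p.std.duo p.std.gens (mem_Ml.1 hm).1).2

theorem x_mem : x ∈ CZ z w v :=
  mem_cent_three.2 ⟨p.std.duo.fr.es.comm x p.std.duo.xQ, p.wx.symm, p.v_facts.2.2.2.1.symm⟩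

theorem z_mem : z ∈ CZ z w v :=
  mem_cent_three.2 ⟨Commute.refl z, p.wz.symm, p.v_facts.2.2.1.symm⟩

theorem card_CZ : Nat.card (CZ z w v) = 256 := by
  classical
  have he : ((CZ z w v : Subgroup G) : Set G) = (Ml.toFinset.image (phi gen z x) : Finset G) := by
    ext y
    rw [SetLike.mem_coe, p.mem_CZ]
    simp
  have h2 : Nat.card ((CZ z w v : Subgroup G) : Set G) = 256 := by
    rw [he, Nat.card_coe_set_eq, Set.ncard_coe_finset, Finset.card_image_of_injOn,
      List.toFinset_card_of_nodup Ml_nodup, Ml_length]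
    intro a ha b hb e
    simp only [Finset.mem_coe, List.mem_toFinset] at ha hb
    exact phi_inj p.std.duo p.std.gens (mem_Ml.1 ha).1 (mem_Ml.1 hb).1 e
  exact h2

theorem isPGroup_T : IsPGroup 2 (TT z w) := by
  intro y
  refine ⟨5, Subtype.ext ?_⟩
  have h := mem_cent_two.1 y.2
  simpa using pow_eq_one p.std.duo p.std.w_form h.1 (p.w_eq ▸ h.2)

theorem CZ_le : CZ z w v ≤ TT z w := fun _ hy =>
  mem_cent_two.2 ⟨(mem_cent_three.1 hy).1, (mem_cent_three.1 hy).2.1⟩

theorem isPGroup_CZ : IsPGroup 2 (CZ z w v) := p.isPGroup_T.to_le p.CZ_le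

theorem outer_or {y : G} (hy : y ∈ TT z w) : y ∈ CZ z w v ∨ y * x * y⁻¹ = x * z := by
  obtain ⟨hz, hw⟩ := mem_cent_two.1 hy
  rcases p.std.cases_T hz (p.w_eq ▸ hw) with ⟨m, hm, e⟩ | ⟨e, -⟩
  · exact Or.inl (p.mem_CZ.2 ⟨m, hm, e⟩)
  · exact Or.inr e

theorem x_ne_xz : x * z ≠ x := fun e => p.std.duo.fr.es.ne (left_eq_mul.1 e.symm)

theorem exists_t0 : ∃ t ∈ TT z w, t ∉ CZ z w v ∧ t * x * t⁻¹ = x * z ∧ t * v * t⁻¹ = v * w := by
  obtain ⟨t, h1, h2, h3⟩ := p.std.exists_outer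
  rw [← p.w_eq] at h2
  have hn : t ∉ CZ z w v := fun h => p.x_ne_xz (by rw [← h3, (p.CZ_comm_x h).eq, mul_inv_cancel_right])
  refine ⟨t, mem_cent_two.2 ⟨h1, h2⟩, hn, h3, ?_⟩
  refine (p.normalise h1 h2).resolve_left fun e => hn ?_
  exact mem_cent_three.2 ⟨h1, h2, mul_inv_eq_iff_eq_mul.1 e⟩

theorem card_T : Nat.card (TT z w) = 512 := by
  obtain ⟨t, ht, htn, htx, -⟩ := p.exists_t0
  have hidx : ((CZ z w v).subgroupOf (TT z w)).index = 2 := by
    rw [Subgroup.index_eq_two_iff]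
    refine ⟨⟨t, ht⟩, fun b => ?_⟩
    simp only [Subgroup.mem_subgroupOf, Subgroup.coe_mul]
    rcases p.outer_or b.2 with hb | hb
    · refine Or.inr ⟨hb, fun h => htn ?_⟩
      simpa using mul_mem (inv_mem hb) h
    · refine Or.inl ⟨?_, fun h => p.x_ne_xz (by rw [← hb, (p.CZ_comm_x h).eq, mul_inv_cancel_right])⟩
      refine (p.outer_or (mul_mem b.2 ht)).resolve_right fun h => p.x_ne_xz ?_
      obtain ⟨hbz, -⟩ := mem_cent_two.1 b.2
      rw [← h]
      calc (b : G) * t * x * ((b : G) * t)⁻¹ = b * (t * x * t⁻¹) * (b : G)⁻¹ := by group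
        _ = b * x * (b : G)⁻¹ * (b * z * (b : G)⁻¹) := by rw [htx]; group
        _ = x := by rw [hb, mul_inv_eq_iff_eq_mul.2 hbz.eq, mul_assoc, p.std.duo.fr.es.sq, mul_one]
  have h := Subgroup.card_mul_index ((CZ z w v).subgroupOf (TT z w))
  rw [hidx, Nat.card_congr (Subgroup.subgroupOfEquivOfLe p.CZ_le).toEquiv, p.card_CZ] at h
  omega

/-- An element central in the coded centraliser. -/
theorem central_cases {u : G} (hu : u ∈ CZ z w v) (hc : ∀ y ∈ CZ z w v, Commute u y) :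
    ∃ a, (a = 1 ∨ a = w ∨ a = v ∨ a = v * w) ∧ ∃ e : G, (e = 1 ∨ e = z ∨ e = x ∨ e = x * z) ∧
      u = a * e := by
  have s := p.std
  obtain ⟨e₀, he₀, hw₀, hv₀⟩ := p.code
  obtain ⟨m, hm, rfl⟩ := p.mem_CZ.1 hu
  have hlt := (mem_Ml.1 hm).1
  have hall : (Ml.all fun k => Nat.beq (mu m k) (mu k m)) = true := List.all_eq_true.2 fun k hk => by
    rw [s.eq_of_commute hlt (mem_Ml.1 hk).1 (hc _ (p.mem_CZ.2 ⟨k, hk, rfl⟩))]
    exact Nat.beq_refl _
  have h := List.all_eq_true.1 central_aux m hm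
  rw [hall] at h
  simp only [Bool.not_true, Bool.false_or, Bool.or_eq_true, Bool.and_eq_true, Nat.beq_eq,
    List.any_eq_true, List.mem_range] at h
  have hv200 : ∀ e < 4, ∃ k, phi gen z x (vc e) = phi gen z x 200 * ee2 z x k := fun e he =>
    ⟨_, by rw [s.phi_low (vc_spec e he).1, (vc_low e he).1]⟩
  have hdiff : ∀ e < 4, ∃ k, phi gen z x (vc e) = v * ee2 z x k := by
    intro e he
    obtain ⟨k, hk⟩ := hv200 e he
    obtain ⟨k₀, hk₀⟩ := hv200 e₀ he₀
    refine ⟨k₀ ^^^ k, ?_⟩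
    rw [← ee2_mul s.duo, hv₀, hk₀, hk, mul_assoc, ← mul_assoc (ee2 z x k₀),
      show ee2 z x k₀ * ee2 z x k₀ = 1 from s.duo.ee_sq _ _, one_mul]
  rcases h with ((h | h) | ⟨-, e, he, rfl⟩) | ⟨-, e, he, rfl⟩
  · refine ⟨1, Or.inl rfl, _, s.ee2_cases (m >>> 8), ?_⟩
    rw [s.phi_low hlt, h.2, phi_zero s.duo s.gens]
  · refine ⟨w, Or.inr (Or.inl rfl), _, s.ee2_cases (m >>> 8), ?_⟩
    rw [s.phi_low hlt, h.2, ← p.w_eq]
  · obtain ⟨k, hk⟩ := hdiff e he
    exact ⟨v, by simp, _, s.ee2_cases k, hk⟩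
  · obtain ⟨k, hk⟩ := hdiff e he
    refine ⟨v * w, by simp, _, s.ee2_cases k, ?_⟩
    rw [← s.mul, hk, ← p.w_eq, mul_assoc, mul_assoc v]
    congr 1
    exact ((s.duo.ee_comm p.wx p.wz _ _).eq).symm

theorem ee_ztype {e : G} (he : e = z ∨ e = x ∨ e = x * z) : IsConj z e := by
  have d := p.std.duo
  rcases he with rfl | rfl | rfl
  · exact IsConj.refl _
  · exact d.isConj_Q d.xQ (orderOf_two d.xsq d.x_ne.1)
  · refine d.isConj_Q (mul_mem d.xQ d.fr.es.mem) (orderOf_two ?_ ?_)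
    · rw [show x * z * (x * z) = x * (z * x) * z by group, ← (d.fr.es.comm x d.xQ).eq,
        show x * (x * z) * z = x * x * (z * z) by group, d.xsq, d.fr.es.sq, one_mul]
    · intro h
      exact d.x_ne.2 (by rw [eq_inv_of_mul_eq_one_left h, inv_eq_of_mul_eq_one_right d.fr.es.sq])

/-- A conjugate of `z` central in the coded centraliser. -/
theorem central_ztype {u : G} (hu : u ∈ CZ z w v) (hc : ∀ y ∈ CZ z w v, Commute u y)
    (hz : IsConj z u) : u = z ∨ u = x ∨ u = x * z := by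
  obtain ⟨a, ha, e, he, rfl⟩ := p.central_cases hu hc
  have s := p.std
  obtain ⟨e₀, he₀, hw₀, hv₀⟩ := p.code
  rcases ha with rfl | ha
  · rw [one_mul] at hz ⊢
    rcases he with rfl | he
    · exact absurd (isConj_one_left.1 hz) fun h => by
        have := s.duo.fr.ord
        rw [h] at this
        simp at this
    · exact he
  exfalso
  obtain ⟨k, hk⟩ : ∃ k, e = ee2 z x k := by
    rcases he with rfl | rfl | rfl | rfl
    · exact ⟨0, (ee2_zero s.duo).symm⟩
    · exact ⟨2, by simp [ee2, Nat.testBit, ee, pw]⟩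
    · exact ⟨1, by simp [ee2, Nat.testBit, ee, pw]⟩
    · exact ⟨3, by simp [ee2, Nat.testBit, ee, pw]⟩
  obtain ⟨m, hm, em⟩ := p.mem_CZ.1 hu
  obtain ⟨ma, hma, hqa, ea⟩ : ∃ ma < 1024, qn (aOf ma) = true ∧ phi gen z x ma = a := by
    obtain ⟨h1, h2, h3, h4, h5, h6, h7⟩ := vc_spec e₀ he₀
    rcases ha with rfl | rfl | rfl
    · exact ⟨wc, wc_spec.1, by rw [wc_spec.2.1]; decide, hw₀.symm⟩
    · exact ⟨vc e₀, h1, by rw [h2]; decide, hv₀.symm⟩
    · exact ⟨mu (vc e₀) wc, h5, by rw [h6]; decide, by rw [← s.mul, ← hw₀, ← hv₀]⟩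
  have hlt := (mem_Ml.1 hm).1
  have haO : aOf m = aOf ma := by
    refine eich_inj (aOf_mem m hlt) (aOf_mem ma hma) fun j hj => ?_
    have hz' := (phi_comm s.duo s.gens hlt).1
    rw [← phi_act s.duo s.gens hlt j hj, ← phi_act s.duo s.gens hma j hj, em, hk,
      s.duo.fr.ac_mul (ea ▸ (phi_comm s.duo s.gens hma).1) (s.duo.fr.es.comm _ (s.ee2_mem k)) hj,
      s.duo.fr.ac_Q (s.ee2_mem k) hj, ea]
  rw [← em] at hz
  have h2 : mu m m = 0 := by
    refine s.sq_eq_zero hlt ?_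
    obtain ⟨c, hc'⟩ := isConj_iff.1 hz
    rw [← hc', show c * z * c⁻¹ * (c * z * c⁻¹) = c * (z * z) * c⁻¹ by group, s.duo.fr.es.sq]
    group
  have h0 : m ≠ 0 := fun h => by
    rw [h, phi_zero s.duo s.gens] at hz
    have := s.duo.fr.ord
    rw [isConj_one_left.1 hz] at this
    simp at this
  rw [(s.isConj_iff hlt h2 h0).1 hz |> fun h => (haO ▸ h : qn (aOf ma) = false)] at hqa
  exact Bool.noConfusion hqa

/-- The centre of the Sylow subgroup of `C(w)`. -/
theorem centre_T {u : G} (hu : u ∈ TT z w) (hc : ∀ y ∈ TT z w, Commute u y) :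
    u = 1 ∨ u = z ∨ u = w ∨ u = w * z := by
  obtain ⟨t, ht, -, htx, htv⟩ := p.exists_t0
  obtain ⟨htz, htw⟩ := mem_cent_two.1 ht
  have hx : u ∈ CZ z w v := (p.outer_or hu).resolve_right fun h => p.x_ne_xz (by
    rw [← h, (hc x (p.CZ_le p.x_mem)).eq, mul_inv_cancel_right])
  obtain ⟨a, ha, e, he, rfl⟩ := p.central_cases hx fun y hy => hc y (p.CZ_le hy)
  have hfix : t * a * t⁻¹ * (t * e * t⁻¹) = a * e := by
    rw [conj_mul]
    exact mul_inv_eq_iff_eq_mul.2 (hc t ht).symm.eq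
  have he' : t * e * t⁻¹ ∈ Q ∧ e ∈ Q := by
    have hQ : e ∈ Q := by
      rcases he with rfl | rfl | rfl | rfl
      exacts [one_mem Q, p.std.duo.fr.es.mem, p.std.duo.xQ, mul_mem p.std.duo.xQ p.std.duo.fr.es.mem]
    exact ⟨p.std.duo.fr.norm t htz e hQ, hQ⟩
  have hw1 : t * w * t⁻¹ = w := mul_inv_eq_iff_eq_mul.2 htw.eq
  have hnoQ : ∀ a', (a' = v ∨ a' = v * w) → t * a' * t⁻¹ * (t * e * t⁻¹) ≠ a' * e := by
    intro a' ha' h
    refine (p.bt_w).notMem p.std.duo ?_
    have hvw : t * (v * w) * t⁻¹ = v := by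
      rw [← conj_mul, htv, hw1, mul_assoc, (p.bt_w).sq, mul_one]
    rcases ha' with rfl | rfl
    · rw [htv, mul_assoc a' w] at h
      have h' := mul_left_cancel h
      have : w = e * (t * e * t⁻¹)⁻¹ := eq_mul_inv_of_mul_eq h'
      rw [this]
      exact mul_mem he'.2 (inv_mem he'.1)
    · rw [hvw, mul_assoc v w] at h
      have : w = t * e * t⁻¹ * e⁻¹ := eq_mul_inv_of_mul_eq (mul_left_cancel h).symm
      rw [this]
      exact mul_mem he'.1 (inv_mem he'.2)
  rcases ha with ea | ea | ha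
  rotate_left
  · rw [ea] at hfix ⊢
    rw [hw1] at hfix
    have hte := mul_left_cancel hfix
    rcases he with rfl | rfl | rfl | rfl
    · exact Or.inr (Or.inr (Or.inl (mul_one w)))
    · exact Or.inr (Or.inr (Or.inr rfl))
    · exact absurd (htx.symm.trans hte) p.x_ne_xz
    · rw [← conj_mul, htx, mul_inv_eq_iff_eq_mul.2 htz.eq, mul_assoc, p.std.duo.fr.es.sq,
        mul_one] at hte
      exact absurd hte.symm p.x_ne_xz
  · exact absurd hfix (hnoQ _ ha)
  · subst ea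
    rw [one_mul] at *
    have hte : t * e * t⁻¹ = e := by simpa using hfix
    rcases he with rfl | rfl | rfl | rfl
    · exact Or.inl rfl
    · exact Or.inr (Or.inl rfl)
    · exact absurd (htx.symm.trans hte) p.x_ne_xz
    · rw [← conj_mul, htx, mul_inv_eq_iff_eq_mul.2 htz.eq, mul_assoc, p.std.duo.fr.es.sq,
        mul_one] at hte
      exact absurd hte.symm p.x_ne_xz

theorem ztype_cases {u : G} (hu : IsConj z u) (h : u = 1 ∨ u = z ∨ u = w ∨ u = w * z) : u = z := by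
  rcases h with rfl | h | rfl | rfl
  · have := p.std.duo.fr.ord
    rw [isConj_one_left.1 hu] at this
    simp at this
  · exact h
  · exact absurd hu (p.bt_w).ne
  · exfalso
    have hne : w * z ∉ Q := fun h => (p.bt_w).notMem p.std.duo (by
      simpa [mul_assoc, p.std.duo.fr.es.sq] using mul_mem h p.std.duo.fr.es.mem)
    have hwzc : Commute (w * z) z := p.wz.mul_left (Commute.refl z)
    have hsq : w * z * (w * z) = 1 := by
      rw [show w * z * (w * z) = w * (z * w) * z by group, ← p.wz.eq,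
        show w * (w * z) * z = w * w * (z * z) by group, (p.bt_w).sq, p.std.duo.fr.es.sq, one_mul]
    have h16 : (16 : ℕ) ∈ v4 := by decide
    rw [isConj_iff_eich p.std.duo hwzc hsq (fun e => hne (e ▸ one_mem Q)) h16 (fun k hk => by
      rw [p.std.duo.fr.ac_mul p.wz (Commute.refl z) hk, p.std.duo.fr.ac_Q p.std.duo.fr.es.mem hk,
        p.w_eq, phi_act p.std.duo p.std.gens wc_spec.1 k hk, wc_spec.2.1])] at hu
    exact absurd hu (by decide)

/-- `T` is a maximal 2-subgroup of `C(w)`. -/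
theorem T_max {P : Subgroup G} (hP : IsPGroup 2 P) (hle : TT z w ≤ P)
    (hw : P ≤ Subgroup.centralizer ({w} : Set G)) : P = TT z w := by
  haveI : Fact (Nat.Prime 2) := ⟨Nat.prime_two⟩
  refine hle.antisymm' ?_
  by_contra hn
  have hlt : (TT z w).subgroupOf P < ⊤ := by
    refine lt_top_iff_ne_top.2 fun e => hn ?_
    rwa [Subgroup.subgroupOf_eq_top] at e
  haveI : Group.IsNilpotent P := hP.isNilpotent
  obtain ⟨y, hy, hyT⟩ := SetLike.exists_of_lt (Group.normalizerCondition_of_isNilpotent _ hlt)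
  rw [Subgroup.mem_subgroupOf] at hyT
  have hyn : ∀ k ∈ TT z w, (y : G) * k * (y : G)⁻¹ ∈ TT z w := fun k hk => by
    have := (Subgroup.mem_normalizer_iff.1 hy ⟨k, hle hk⟩).1 (Subgroup.mem_subgroupOf.2 hk)
    simpa [Subgroup.mem_subgroupOf] using this
  have hyw : Commute (y : G) w := Subgroup.mem_centralizer_singleton_iff.1 (hw y.2)
  refine hyT (mem_cent_two.2 ⟨mul_inv_eq_iff_eq_mul.1 ?_, hyw⟩)
  refine p.ztype_cases (isConj_iff.2 ⟨_, rfl⟩) (p.centre_T (hyn z (mem_cent_two.2 ⟨Commute.refl z, p.wz.symm⟩)) ?_)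
  intro k hk
  have hyi : (y : G)⁻¹ * k * y ∈ TT z w := by
    have := (Subgroup.mem_normalizer_iff.1 (inv_mem hy) ⟨k, hle hk⟩).1 (Subgroup.mem_subgroupOf.2 hk)
    simpa [Subgroup.mem_subgroupOf] using this
  have h := ((mem_cent_two.1 hyi).1.symm).map (MulAut.conj (y : G)).toMonoidHom
  simpa [mul_assoc] using h

/-- The coded centraliser is a maximal 2-subgroup of the centraliser of the four-group. -/
theorem CZ_max {P : Subgroup G} (hP : IsPGroup 2 P) (hle : CZ z w v ≤ P) (hV : P ≤ CV w v) :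
    P = CZ z w v := by
  haveI : Fact (Nat.Prime 2) := ⟨Nat.prime_two⟩
  refine hle.antisymm' ?_
  by_contra hn
  set C := Subgroup.centralizer ({w} : Set G) with hC
  have hPC : P ≤ C := fun y hy => Subgroup.mem_centralizer_singleton_iff.2 (mem_cent_two.1 (hV hy)).1
  have hTC : TT z w ≤ C := fun y hy => Subgroup.mem_centralizer_singleton_iff.2 (mem_cent_two.1 hy).2
  -- Sylow subgroups of `C(w)`
  obtain ⟨S₁, hS₁⟩ := (IsPGroup.comap_of_injective hP C.subtype C.subtype_injective).exists_le_sylow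
  obtain ⟨S₂, hS₂⟩ :=
    (IsPGroup.comap_of_injective p.isPGroup_T C.subtype C.subtype_injective).exists_le_sylow
  have hS₂T : (S₂ : Subgroup C).map C.subtype = TT z w := by
    refine p.T_max (S₂.2.map _) ?_ (Subgroup.map_subtype_le _)
    intro y hy
    exact ⟨⟨y, hTC hy⟩, hS₂ hy, rfl⟩
  have hcard : Nat.card (S₁ : Subgroup C) = 512 := by
    rw [S₁.card_eq_multiplicity, ← S₂.card_eq_multiplicity, ← Subgroup.card_subtype, hS₂T, p.card_T]
  have hPS : P = (S₁ : Subgroup C).map C.subtype := by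
    refine Subgroup.eq_of_le_of_card_ge (fun y hy => ⟨⟨y, hPC hy⟩, hS₁ hy, rfl⟩) ?_
    rw [Subgroup.card_subtype, hcard]
    have hlt : Nat.card (CZ z w v) < Nat.card P := by
      refine lt_of_le_of_ne (Subgroup.card_le_of_le hle) fun e => hn ?_
      exact (Subgroup.eq_of_le_of_card_ge hle e.ge).ge
    obtain ⟨k, hk⟩ := IsPGroup.iff_card.1 hP
    rw [p.card_CZ, hk] at hlt
    rw [hk]
    by_contra h
    push Not at h
    have h9 : 8 < k := (Nat.pow_lt_pow_iff_right (a := 2) one_lt_two).1 (by norm_num; exact hlt)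
    have h9' : k < 9 := (Nat.pow_lt_pow_iff_right (a := 2) one_lt_two).1 (by norm_num; exact h)
    omega
  obtain ⟨c, hc⟩ := MulAction.exists_smul_eq C S₂ S₁
  set u := (c : G)⁻¹ * v * c with hu
  have hcom : ∀ y ∈ TT z w, Commute u y := by
    intro y hy
    obtain ⟨y', hy', rfl⟩ : y ∈ (S₂ : Subgroup C).map C.subtype := hS₂T.symm ▸ hy
    have hmem : c * y' * c⁻¹ ∈ (S₁ : Subgroup C) := by
      rw [← hc]
      exact ⟨y', hy', rfl⟩
    have h1 : (c : G) * y' * (c : G)⁻¹ ∈ P := hPS.symm ▸ ⟨_, hmem, rfl⟩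
    have h := (mem_cent_two.1 (hV h1)).2.symm.map (MulAut.conj (c : G)⁻¹).toMonoidHom
    simpa [hu, mul_assoc] using h
  have hcw : Commute (c : G) w := Subgroup.mem_centralizer_singleton_iff.1 c.2
  have huw : u * w = (c : G)⁻¹ * (v * w) * c := by
    rw [hu, mul_assoc, ← hcw.symm.eq]; group
  have hub : BT z u := by simpa [hu] using (p.v_facts.1).conj (c : G)⁻¹
  have huwb : BT z (u * w) := by rw [huw]; simpa using (p.bt_vw).conj (c : G)⁻¹
  have huT : u ∈ TT z w := mem_cent_two.2 ⟨hcom z (mem_cent_two.2 ⟨Commute.refl z, p.wz.symm⟩),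
    hcom w (mem_cent_two.2 ⟨p.wz, Commute.refl w⟩)⟩
  rcases p.centre_T huT hcom with e | e | e | e
  · exact hub.ne_one e
  · exact hub.ne (e.symm ▸ IsConj.refl z)
  · exact huwb.ne_one (by rw [e, (p.bt_w).sq])
  · refine huwb.ne ?_
    rw [e, mul_assoc, ← p.wz.eq, ← mul_assoc, (p.bt_w).sq, one_mul]

end Pack

end Cfsg.Agent.Lib.SuzSeven52
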